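import Mathlib
import Cfsg.Agent.Lib.Involutions.Basic

/-!
# Bender's theorem, part I, node C2: elements inverted by a swapper

Elementary facts on an involution `u` normalising a subgroup `D` of odd order.
-/

set_option autoImplicit false
set_option linter.style.haveILetI false
set_option linter.unusedSectionVars false

namespace Cfsg.Agent.Lib.BenderOne83.Inverted

open Subgroup Cfsg.Agent.Lib.Involutions.Basic

variable {G : Type*} [Group G]

theorem conj_mem_map_char {D : Subgroup G} (C : Subgroup D) [C.Characteristic] {g : G}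
    (hg : g ∈ normalizer (D : Set G)) {x : G} (hx : x ∈ C.map D.subtype) :
    g * x * g⁻¹ ∈ C.map D.subtype := by
  obtain ⟨c, hc, rfl⟩ := hx
  exact ⟨_, characteristic_iff_le_comap.1 inferInstance
    (D.normalizerMonoidHom ⟨g, hg⟩) hc, rfl⟩

theorem le_normalizer_map_char {D : Subgroup G} (C : Subgroup D) [C.Characteristic] :
    normalizer (D : Set G) ≤ normalizer ((C.map D.subtype : Subgroup G) : Set G) := fun g hg => by
  rw [Subgroup.mem_normalizer_iff]
  refine fun x => ⟨conj_mem_map_char C hg, fun h => ?_⟩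
  have h' := conj_mem_map_char C (inv_mem hg) h
  rwa [show g⁻¹ * (g * x * g⁻¹) * g⁻¹⁻¹ = x by group] at h'

variable [Finite G]

/-- An element of odd order centralises whatever its square centralises. -/
theorem commute_of_sq {k x : G} (hk : Odd (orderOf k)) (h : k * k * x = x * (k * k)) :
    k * x = x * k := by
  obtain ⟨n, hn⟩ := hk
  have e : k = (k * k) ^ (n + 1) := by
    rw [← pow_two, ← pow_mul, show 2 * (n + 1) = orderOf k + 1 by omega, pow_succ,
      pow_orderOf_eq_one, one_mul]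
  rw [e]
  exact (Commute.pow_left h _)

/-- An involution without fixed points on a subgroup of odd order inverts it. -/
theorem all_inverted {C : Subgroup G} {u : G} (hodd : Odd (Nat.card C)) (hu : orderOf u = 2)
    (hn : u ∈ normalizer (C : Set G)) (hfpf : ∀ c ∈ C, u * c = c * u → c = 1) {c : G}
    (hc : c ∈ C) : u * c * u⁻¹ = c⁻¹ := by
  let f : C → C := fun x => ⟨(x : G)⁻¹ * (u * x * u⁻¹),
    mul_mem (inv_mem x.2) ((mem_normalizer_iff.1 hn _).1 x.2)⟩
  have hinj : Function.Injective f := by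
    intro x y h
    have h1 : (x : G)⁻¹ * (u * x * u⁻¹) = (y : G)⁻¹ * (u * y * u⁻¹) := congrArg Subtype.val h
    have h2 := hfpf ((y : G) * (x : G)⁻¹) (mul_mem y.2 (inv_mem x.2)) ?_
    · exact Subtype.ext (mul_inv_eq_one.1 h2).symm
    · calc u * ((y : G) * (x : G)⁻¹)
          = (y : G) * ((y : G)⁻¹ * (u * y * u⁻¹)) * (u * (x : G)⁻¹) := by group
        _ = (y : G) * ((x : G)⁻¹ * (u * x * u⁻¹)) * (u * (x : G)⁻¹) := by rw [h1]
        _ = (y : G) * (x : G)⁻¹ * u := by group
  obtain ⟨x, hx⟩ := (Finite.surjective_of_injective hinj) ⟨c, hc⟩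
  have hx' : (x : G)⁻¹ * (u * x * u⁻¹) = c := congrArg Subtype.val hx
  rw [← hx', invol_inv hu]
  calc u * ((x : G)⁻¹ * (u * x * u)) * u = u * (x : G)⁻¹ * u * x * (u * u) := by group
    _ = ((x : G)⁻¹ * (u * x * u))⁻¹ := by
      rw [invol_mul_self hu, mul_one, mul_inv_rev, mul_inv_rev, mul_inv_rev, inv_inv,
        invol_inv hu]
      group

/-- A subgroup inverted by an element is abelian. -/
theorem comm_of_inverted {C : Subgroup G} {u : G} (h : ∀ c ∈ C, u * c * u⁻¹ = c⁻¹) {a b : G}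
    (ha : a ∈ C) (hb : b ∈ C) : a * b = b * a := by
  have h1 : (b * a)⁻¹ = (a * b)⁻¹ := by
    calc (b * a)⁻¹ = (u * a * u⁻¹) * (u * b * u⁻¹) := by rw [h a ha, h b hb, mul_inv_rev]
      _ = u * (a * b) * u⁻¹ := by group
      _ = (a * b)⁻¹ := h _ (mul_mem ha hb)
  exact (inv_inj.1 h1).symm

/-- An inverted element of odd order centralises an inverted subgroup it normalises. -/
theorem commute_of_inverted {A : Subgroup G} {u k a : G} (hinv : ∀ c ∈ A, u * c * u⁻¹ = c⁻¹)
    (hk : Odd (orderOf k)) (hkn : k ∈ normalizer (A : Set G)) (hku : u * k * u⁻¹ = k⁻¹)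
    (ha : a ∈ A) : k * a = a * k := by
  refine commute_of_sq hk ?_
  have h1 := hinv _ ((mem_normalizer_iff.1 hkn a).1 ha)
  have h2 : u * (k * a * k⁻¹) * u⁻¹ = k⁻¹ * a⁻¹ * k := by
    calc u * (k * a * k⁻¹) * u⁻¹ = (u * k * u⁻¹) * (u * a * u⁻¹) * (u * k * u⁻¹)⁻¹ := by group
      _ = k⁻¹ * a⁻¹ * k := by rw [hku, hinv a ha, inv_inv]
  rw [h2] at h1
  have h3 : k⁻¹ * a * k = k * a * k⁻¹ := by
    have := congrArg (·⁻¹) h1
    simpa [mul_assoc] using this
  calc k * k * a = k * (k * a * k⁻¹) * k := by group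
    _ = k * (k⁻¹ * a * k) * k := by rw [h3]
    _ = a * (k * k) := by group

/-- The finish: an inverted normal subgroup not centralised by elements of `C_D(u)` gives an
abelian normal subgroup containing all inverted elements of `D`. -/
theorem exists_inverted_normal {D A : Subgroup G} {u : G} (hD : Odd (Nat.card D))
    (hu : orderOf u = 2) (huD : u ∈ normalizer (D : Set G)) (hA : A ≤ D)
    (hDA : D ≤ normalizer (A : Set G)) (huA : u ∈ normalizer (A : Set G))
    (hinv : ∀ c ∈ A, u * c * u⁻¹ = c⁻¹)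
    (hcent : ∀ y ∈ D, u * y = y * u → (∀ c ∈ A, c * y = y * c) → y = 1) :
    ∃ K : Subgroup G, K ≤ D ∧ D ≤ normalizer (K : Set G) ∧ u ∈ normalizer (K : Set G) ∧
      (∀ k ∈ K, u * k * u⁻¹ = k⁻¹) ∧ (∀ a ∈ K, ∀ b ∈ K, a * b = b * a) ∧
      ∀ k ∈ D, u * k * u⁻¹ = k⁻¹ → k ∈ K := by
  set K := D ⊓ centralizer (A : Set G) with hK
  have hconj : ∀ {g : G}, g ∈ normalizer (D : Set G) → g ∈ normalizer (A : Set G) →
      ∀ {k : G}, k ∈ K → g * k * g⁻¹ ∈ K := by
    intro g hgD hgA k hk
    refine ⟨(mem_normalizer_iff.1 hgD k).1 hk.1, mem_centralizer_iff.2 fun c hc => ?_⟩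
    have hc' : g⁻¹ * c * g ∈ A := (mem_normalizer_iff''.1 hgA c).1 hc
    have h := mem_centralizer_iff.1 hk.2 _ hc'
    calc c * (g * k * g⁻¹) = g * (g⁻¹ * c * g * k) * g⁻¹ := by group
      _ = g * k * g⁻¹ * c := by rw [h]; group
  have hnorm : ∀ {g : G}, g ∈ normalizer (D : Set G) → g ∈ normalizer (A : Set G) →
      g ∈ normalizer (K : Set G) := by
    intro g hgD hgA
    rw [Subgroup.mem_normalizer_iff]
    refine fun x => ⟨hconj hgD hgA, fun h => ?_⟩
    have h' := hconj (inv_mem hgD) (inv_mem hgA) h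
    rwa [show g⁻¹ * (g * x * g⁻¹) * g⁻¹⁻¹ = x by group] at h'
  have huK := hnorm huD huA
  have hKinv : ∀ k ∈ K, u * k * u⁻¹ = k⁻¹ := fun k hk =>
    all_inverted (hD.of_dvd_nat (card_dvd_of_le inf_le_left)) hu huK
      (fun c hc hcu => hcent c hc.1 hcu fun a ha => mem_centralizer_iff.1 hc.2 a ha) hk
  refine ⟨K, inf_le_left, fun g hg => hnorm (le_normalizer hg) (hDA hg), huK, hKinv,
    fun a ha b hb => comm_of_inverted hKinv ha hb, fun k hk hku => ⟨hk, ?_⟩⟩
  exact mem_centralizer_iff.2 fun a ha => (commute_of_inverted hinv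
    (hD.of_dvd_nat (D.orderOf_dvd_natCard hk)) (hDA hk) hku ha).symm

end Cfsg.Agent.Lib.BenderOne83.Inverted
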