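import Cfsg.Agent.Lib.BenderOne83.C2.Central
import Cfsg.Agent.Lib.BenderOne.NodeA.ZJ

/-!
# Bender's theorem, part I, node C2: the regular normal subgroup when `C_D(J_a) ≠ 1`
-/

set_option autoImplicit false
set_option linter.style.haveILetI false
set_option linter.unusedSectionVars false

namespace Cfsg.Agent.Lib.BenderOne83.Central

open MulAction Cfsg.Agent.Lib.Involutions.Basic
open Cfsg.Agent.Lib.BenderOne20 Cfsg.Agent.Lib.BenderOne8

universe u

variable {G Ω : Type u} [Group G] [MulAction G Ω] [Finite G]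

omit [Finite G] in
/-- The stabiliser of `a` normalises the centraliser of the involutions at `a`. -/
theorem conj_mem_cen {a : Ω} {g c : G} (hg : g • a = a)
    (hc : c ∈ Subgroup.centralizer (invAt G a)) :
    g * c * g⁻¹ ∈ Subgroup.centralizer (invAt G a) := by
  refine Subgroup.mem_centralizer_iff.2 fun s hs => ?_
  have hs' : g⁻¹ * s * g ∈ invAt G a := by
    have h := OneFix.conj_mem_invAt (g := g⁻¹) hs
    rwa [inv_inv, inv_smul_eq_iff.2 hg.symm] at h
  have h := Subgroup.mem_centralizer_iff.1 hc _ hs'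
  calc s * (g * c * g⁻¹) = g * (g⁻¹ * s * g * c) * g⁻¹ := by group
    _ = g * c * g⁻¹ * s := by rw [h]; group

/-- The local data of a `p`-subgroup centralising all involutions at `a`. -/
theorem local_data (hG : OneFix G Ω) (hF : PropF G Ω) (hbelow : BenderOne.Below.{u} (Nat.card G))
    (hcenter : Subgroup.center G = ⊥) {a b : Ω} (hab : b ≠ a) (hm : 1 < Nat.card (invAt G a))
    {p : ℕ} [Fact p.Prime] {X : Subgroup G} (hX : IsPGroup p X) (hX1 : X ≠ ⊥)
    (hXD : X ≤ pairStab G a b) (hXJ : X ≤ Subgroup.centralizer (invAt G a)) :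
    (∃ j : ℕ, Nat.card {e : Ω // e ∈ Fx X ∧ e ≠ a} = 2 ^ j) ∧
      ∀ g ∈ Subgroup.normalizer (X : Set G), g • a = a →
        ∃ o ∈ Subgroup.centralizer (X : Set G), o ∈ Subgroup.centralizer (invAt G a) ∧ o • a = a ∧
          (∃ k, o ^ 2 ^ k = 1) ∧ o⁻¹ * g ∈ pairStab G a b := by
  obtain ⟨s, hs⟩ := hG.exists_invAt a
  have ha : a ∈ Fx X := hXD.trans inf_le_left
  have hb : b ∈ Fx X := hXD.trans inf_le_right
  have hcenX : ∀ r ∈ invAt G a, r ∈ invCen X a := fun r hr => ⟨hr, fun k hk =>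
    Subgroup.mem_centralizer_singleton_iff.2 (Subgroup.mem_centralizer_iff.1 (hXJ hk) r hr).symm⟩
  have hsb : s • b ≠ b := fun h => hab (hG.eq_of_fix hs.1 h hs.2)
  have hsa : s • b ≠ a := fun h => hab (MulAction.injective s (h.trans hs.2.symm))
  have h3 : Three X Ω := ⟨a, b, s • b, hab.symm, hsa, hsb, ha, hb,
    smul_mem_Fx (mem_normalizer_of_cen (hcenX s hs).2) hb⟩
  have heq : invCen X a = invAt G a := Set.Subset.antisymm (fun r hr => hr.1) hcenX
  have hm' : 1 < Nat.card (invCen X a) := by rwa [heq]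
  have hne : Subgroup.centralizer (X : Set G) ≠ ⊤ := fun htop => hX1 (eq_bot_iff.2 fun k hk => by
    rw [← hcenter, Subgroup.mem_center_iff]
    intro g
    exact (Subgroup.mem_centralizer_iff.1 (htop.ge (Subgroup.mem_top g)) k hk).symm)
  refine ⟨card_Fx_eq_two_pow hG hF hX h3 ha hm' hbelow hne, fun g hg hga => ?_⟩
  have hgb : g • b ∈ Fx X := smul_mem_Fx hg hb
  have hgba : g • b ≠ a := fun h => hab (MulAction.injective g (h.trans hga.symm))
  obtain ⟨o, ho, hoa, hob, k, hk⟩ :=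
    exists_two_element hG hF hX h3 ha hb hgb hab hgba hm' hbelow hne
  refine ⟨o, ho, Subgroup.mem_centralizer_iff.2 fun r hr =>
    (comm_cen hG hF hX h3 ha hm' hbelow hne ho hoa hk (hcenX r hr)).symm, hoa, ⟨k, hk⟩, ?_, ?_⟩
  · show (o⁻¹ * g) • a = a
    rw [mul_smul, hga, inv_smul_eq_iff, hoa]
  · show (o⁻¹ * g) • b = b
    rw [mul_smul, ← hob, inv_smul_smul]

/-- The elements of `D` of order a power of `p` and a Sylow subgroup of `G_a`. -/
theorem sylowIn_stabilizer (hG : OneFix G Ω) (hF : PropF G Ω)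
    (hbelow : BenderOne.Below.{u} (Nat.card G)) (hcenter : Subgroup.center G = ⊥) {a b : Ω}
    (hab : b ≠ a) (hm : 1 < Nat.card (invAt G a)) {p : ℕ} [Fact p.Prime] {w : G}
    (hw : w ∈ pairStab G a b) (hwp : orderOf w = p)
    (hwJ : w ∈ Subgroup.centralizer (invAt G a)) :
    ∃ T : Subgroup G, SylowIn p T (pairStab G a b) ∧ SylowIn p T (stabilizer G a) ∧ w ∈ T := by
  have hwgrp : IsPGroup p (Subgroup.zpowers w) :=
    IsPGroup.of_card (n := 1) (by rw [Nat.card_zpowers, hwp, pow_one])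
  obtain ⟨T, hT, hwT⟩ := SylowIn.exists_ge hwgrp (Subgroup.zpowers_le.2 hw)
  refine ⟨T, hT, ?_, hwT (Subgroup.mem_zpowers w)⟩
  have hTa : ∀ x ∈ T, x • a = a := fun x hx => (hT.1 hx).1
  set P := T ⊓ Subgroup.centralizer (invAt G a)
  have hPT : (P.subgroupOf T).Normal := ⟨fun k hk x => by
    refine ⟨T.mul_mem (T.mul_mem x.2 k.2) (T.inv_mem x.2), ?_⟩
    exact conj_mem_cen (hTa x x.2) hk.2⟩
  have hPne : P.subgroupOf T ≠ ⊥ := fun h => by
    have h1 : (⟨w, hwT (Subgroup.mem_zpowers w)⟩ : T) ∈ P.subgroupOf T :=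
      ⟨hwT (Subgroup.mem_zpowers w), hwJ⟩
    rw [h, Subgroup.mem_bot] at h1
    have h2 : w = 1 := congrArg Subtype.val h1
    rw [h2, orderOf_one] at hwp
    exact (Fact.out : p.Prime).ne_one hwp.symm
  obtain ⟨z, hzP, hzc, hz1⟩ : ∃ z ∈ P.subgroupOf T, z ∈ Subgroup.center T ∧ z ≠ 1 := by
    haveI := hPT
    letI : MulAction T (P.subgroupOf T) :=
      { smul := fun x k => ⟨x * k.1 * x⁻¹, hPT.conj_mem _ k.2 x⟩
        one_smul := fun k => Subtype.ext (by show (1 : T) * k.1 * 1⁻¹ = k.1; group)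
        mul_smul := fun x x' k => Subtype.ext (by
          show x * x' * k.1 * (x * x')⁻¹ = x * (x' * k.1 * x'⁻¹) * x⁻¹; group) }
    haveI : Nontrivial (P.subgroupOf T) := (Subgroup.nontrivial_iff_ne_bot _).2 hPne
    obtain ⟨n, hn, hn'⟩ := (hT.isPGroup.to_subgroup (P.subgroupOf T)).nontrivial_iff_card.1
      inferInstance
    obtain ⟨z, hz, hz1⟩ := hT.isPGroup.exists_fixed_point_of_prime_dvd_card_of_fixed_point
      (P.subgroupOf T) (hn' ▸ dvd_pow_self p hn.ne') (a := 1) (fun x => Subtype.ext (by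
        show x * 1 * x⁻¹ = 1; group))
    exact ⟨z.1, z.2, Subgroup.mem_center_iff.2 fun x =>
      mul_inv_eq_iff_eq_mul.1 (congrArg Subtype.val (hz x)), fun h => hz1 (Subtype.ext h).symm⟩
  set Z := Subgroup.zpowers (z : G)
  have hZT : Z ≤ T := Subgroup.zpowers_le.2 z.2
  obtain ⟨⟨j, hj⟩, -⟩ := local_data hG hF hbelow hcenter hab hm (X := Z) (hT.isPGroup.to_le hZT)
    (Subgroup.zpowers_ne_bot.2 fun h => hz1 (Subtype.ext h)) (hZT.trans hT.1)
    (Subgroup.zpowers_le.2 hzP.2)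
  have hZn : T ≤ Subgroup.normalizer (Z : Set G) := fun x hx => by
    rw [Subgroup.mem_normalizer_iff_map_conj_eq, MonoidHom.map_zpowers]
    show Subgroup.zpowers (x * (z : G) * x⁻¹) = Z
    rw [show x * (z : G) = (z : G) * x from
      congrArg Subtype.val (Subgroup.mem_center_iff.1 hzc ⟨x, hx⟩), mul_inv_cancel_right]
  haveI : Finite Ω := by
    haveI := hG.trans
    exact Finite.of_surjective (fun g : G => g • a) (fun z => exists_smul_eq G a z)
  letI : MulAction T {e : Ω // e ∈ Fx Z ∧ e ≠ a} :=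
    { smul := fun g e => ⟨(g : G) • e.1, smul_mem_Fx (hZn g.2) e.2.1, fun h =>
        e.2.2 (MulAction.injective (g : G) (h.trans (hTa g g.2).symm))⟩
      one_smul := fun e => Subtype.ext (one_smul G e.1)
      mul_smul := fun g h e => Subtype.ext (mul_smul (g : G) (h : G) e.1) }
  set E := stabilizer G a ⊓ Subgroup.normalizer (T : Set G)
  obtain ⟨T₂, hT₂, hTT₂⟩ := SylowIn.exists_ge (D := E) hT.isPGroup
    (le_inf (hT.1.trans inf_le_left) Subgroup.le_normalizer)
  letI : MulAction T₂ {e : Ω // e ∈ Fx T ∧ e ≠ a} :=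
    { smul := fun g e => ⟨(g : G) • e.1, smul_mem_Fx (hT₂.1 g.2).2 e.2.1, fun h =>
        e.2.2 (MulAction.injective (g : G) (h.trans ((hT₂.1 g.2).1 : (g : G) • a = a).symm))⟩
      one_smul := fun e => Subtype.ext (one_smul G e.1)
      mul_smul := fun g h e => Subtype.ext (mul_smul (g : G) (h : G) e.1) }
  have hmod : Nat.card {e : Ω // e ∈ Fx Z ∧ e ≠ a} ≡
      Nat.card {e : Ω // e ∈ Fx T ∧ e ≠ a} [MOD p] := by
    refine (hT.isPGroup.card_modEq_card_fixedPoints _).trans (congrArg (· % p) ?_)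
    exact Nat.card_congr
      { toFun := fun e => ⟨e.1.1, fun x hx => congrArg Subtype.val (e.2 ⟨x, hx⟩), e.1.2.2⟩
        invFun := fun e => ⟨⟨e.1, Fx_anti hZT e.2.1, e.2.2⟩, fun x => Subtype.ext (e.2.1 x.2)⟩
        left_inv := fun e => rfl
        right_inv := fun e => rfl }
  have hp2 : p ≠ 2 := fun h => by
    have h1 := (hG.odd_pairStab hab.symm).of_dvd_nat (Subgroup.orderOf_dvd_natCard _ hw)
    rw [hwp, h] at h1
    exact absurd h1 (by decide)
  obtain ⟨⟨y, hy, hya⟩, hfix⟩ : (fixedPoints T₂ {e : Ω // e ∈ Fx T ∧ e ≠ a}).Nonempty :=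
    hT₂.isPGroup.nonempty_fixed_point_of_prime_not_dvd_card _ fun hd => by
      have h1 : p ∣ 2 ^ j := hj ▸ Nat.modEq_zero_iff_dvd.1
        (hmod.trans (Nat.modEq_zero_iff_dvd.2 hd))
      exact hp2 ((Nat.prime_dvd_prime_iff_eq Fact.out Nat.prime_two).1
        ((Fact.out : p.Prime).dvd_of_dvd_pow h1))
  have hle : T₂ ≤ pairStab G a y := fun g hg =>
    ⟨(hT₂.1 hg).1, congrArg Subtype.val (hfix ⟨g, hg⟩)⟩
  obtain ⟨g, hga, hgb⟩ := two_transitive hG hF hm hab hya
  have hcard : Nat.card (pairStab G a y) = Nat.card (pairStab G a b) := by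
    have : pairStab G a y = (pairStab G a b).map (MulAut.conj g).toMonoidHom := by
      rw [Subgroup.map_inf _ _ _ (MulAut.conj g).injective,
        ← MulAction.stabilizer_smul_eq_stabilizer_map_conj,
        ← MulAction.stabilizer_smul_eq_stabilizer_map_conj, hga, hgb]
    rw [this, Subgroup.card_map_of_injective (MulAut.conj g).injective]
  have hTy : SylowIn p T (pairStab G a y) := hT.of_ge (hTT₂.trans hle) hcard
  have hTE : SylowIn p T E := (hTy.eq_of_le hTT₂ hle hT₂.isPGroup) ▸ hT₂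
  exact SylowIn.of_normalizer (hT.1.trans inf_le_left) hTE le_rfl

/-- A non-trivial element of `G_ab` centralising all involutions at `a` gives a regular normal
subgroup of `G_a`. -/
theorem exists_regular_of_central (hG : OneFix G Ω) (hF : PropF G Ω)
    (hbelow : BenderOne.Below.{u} (Nat.card G)) (hcenter : Subgroup.center G = ⊥) {a b : Ω}
    (hab : b ≠ a) (hm : 1 < Nat.card (invAt G a)) {w₀ : G} (hw₀ : w₀ ∈ pairStab G a b)
    (hw₁ : w₀ ≠ 1) (hw₀J : ∀ s ∈ invAt G a, w₀ * s = s * w₀) :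
    ∃ Q : Subgroup G, Q ≤ stabilizer G a ∧
      (∀ h ∈ stabilizer G a, ∀ q ∈ Q, h * q * h⁻¹ ∈ Q) ∧
      (∀ q ∈ Q, ∀ y, y ≠ a → q • y = y → q = 1) ∧
      ∀ y z, y ≠ a → z ≠ a → ∃ q ∈ Q, q • y = z := by
  classical
  set A := stabilizer G a with hA
  set Cg := A ⊓ Subgroup.centralizer (invAt G a) with hCg
  set C : Subgroup A := Cg.subgroupOf A with hC
  set D : Subgroup A := (pairStab G a b).subgroupOf A with hD
  set W : Subgroup C := D.subgroupOf C with hW
  haveI hCn : C.Normal := ⟨fun c hc g => ⟨(g * c * g⁻¹ : A).2, conj_mem_cen g.2 hc.2⟩⟩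
  have hDodd : Odd (Nat.card D) := by
    rw [Nat.card_congr (Subgroup.subgroupOfEquivOfLe inf_le_left).toEquiv]
    exact hG.odd_pairStab hab.symm
  set ι : C →* G := A.subtype.comp C.subtype
  have hι : Function.Injective ι := A.subtype_injective.comp C.subtype_injective
  have hWodd : Odd (Nat.card W) := hDodd.of_dvd_nat (Subgroup.card_dvd_of_injective
    ((C.subtype.comp W.subtype).codRestrict D fun x => x.2)
    fun x y h => Subtype.ext (Subtype.ext (congrArg (fun z : D => (z : A)) h :)))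
  have hsol : Group.IsSolvable W := OddOrder.FeitThompson.isSolvable_of_odd_card hWodd
  -- a prime order element
  obtain ⟨p, hp, hpw⟩ := Nat.exists_prime_and_dvd
    (fun h => hw₁ (orderOf_eq_one_iff.1 h) : orderOf w₀ ≠ 1)
  haveI := Fact.mk hp
  have hwC : w₀ ∈ Subgroup.centralizer (invAt G a) :=
    Subgroup.mem_centralizer_iff.2 fun s hs => (hw₀J s hs).symm
  set w := w₀ ^ (orderOf w₀ / p)
  have hwo : orderOf w = p := orderOf_pow_orderOf_div (orderOf_pos w₀).ne' hpw
  have hw : w ∈ pairStab G a b := pow_mem hw₀ _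
  obtain ⟨T, hTD, hTA, hwT⟩ := sylowIn_stabilizer hG hF hbelow hcenter hab hm hw hwo
    (pow_mem hwC _)
  set P := T ⊓ Cg
  have hAn : A ≤ Subgroup.normalizer (Cg : Set G) := fun g hg => by
    rw [Subgroup.mem_normalizer_iff]
    intro x
    constructor
    · exact fun hx => ⟨A.mul_mem (A.mul_mem hg hx.1) (A.inv_mem hg), conj_mem_cen hg hx.2⟩
    · intro hx
      have h : g⁻¹ * (g * x * g⁻¹) * g⁻¹⁻¹ = x := by group
      rw [← h]
      exact ⟨A.mul_mem (A.mul_mem (A.inv_mem hg) hx.1) (A.inv_mem (A.inv_mem hg)),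
        conj_mem_cen (A.inv_mem hg) hx.2⟩
  have hP : SylowIn p P Cg := BenderOne.NodeA.ZJAux.sylowIn_inf hTA inf_le_left hAn
  have hPne : P ≠ ⊥ := fun h => by
    have h1 : w ∈ P := ⟨hwT, hw.1, pow_mem hwC _⟩
    rw [h, Subgroup.mem_bot] at h1
    rw [h1, orderOf_one] at hwo
    exact hp.ne_one hwo.symm
  obtain ⟨-, hPloc⟩ := local_data hG hF hbelow hcenter hab hm (X := P) hP.isPGroup hPne
    (inf_le_left.trans hTD.1) (inf_le_right.trans inf_le_right)
  have htop : C ⊔ D = ⊤ := by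
    refine eq_top_iff.2 fun g _ => ?_
    have hmap : SylowIn p (P.map (MulAut.conj (g : G)).toMonoidHom) Cg :=
      Subgroup.mem_normalizer_iff_map_conj_eq.1 (hAn g.2) ▸ hP.map_conj (g : G)
    obtain ⟨c, hc, hc'⟩ := hmap.conj_eq hP
    have hN : c * g ∈ Subgroup.normalizer (P : Set G) := by
      rw [Subgroup.mem_normalizer_iff_map_conj_eq]
      refine Eq.trans ?_ hc'
      rw [Subgroup.map_map]
      congr 1
      ext x
      simp [mul_assoc]
    obtain ⟨o, -, hoJ, hoa, -, hd⟩ := hPloc _ hN (by rw [mul_smul, g.2, hc.1])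
    have hcA : c ∈ A := hc.1
    have e : g = ((⟨c, hcA⟩ : A)⁻¹ * ⟨o, hoa⟩) * ⟨o⁻¹ * (c * g), hd.1⟩ := by
      refine Subtype.ext ?_
      show (g : G) = c⁻¹ * o * (o⁻¹ * (c * g))
      group
    rw [e]
    exact mul_mem (Subgroup.mem_sup_left (mul_mem (inv_mem (Subgroup.mem_subgroupOf.2 hc))
      (Subgroup.mem_subgroupOf.2 ⟨hoa, hoJ⟩))) (Subgroup.mem_sup_right (Subgroup.mem_subgroupOf.2 hd))
  -- the Hall property
  have hindex : W.index = D.index := by
    have e1 := Subgroup.relIndex_mul_index (inf_le_left : C ⊓ D ≤ C)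
    have e2 := Subgroup.relIndex_mul_index (inf_le_right : C ⊓ D ≤ D)
    rw [Subgroup.inf_relIndex_right] at e2
    rw [Subgroup.inf_relIndex_left] at e1
    have e3 : C.relIndex D = C.index := by
      rw [← Subgroup.relIndex_sup_right D C, sup_comm, htop, Subgroup.relIndex_top_right]
    rw [e3] at e2
    have e4 : C.index * W.index = C.index * D.index := by
      rw [e2, ← e1, mul_comm]
      rfl
    exact Nat.eq_of_mul_eq_mul_left (Nat.pos_of_ne_zero Subgroup.index_ne_zero_of_finite) e4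
  have hHall : (Nat.card W).Coprime W.index := by
    refine Nat.coprime_of_dvd fun q hq h1 h2 => ?_
    haveI := Fact.mk hq
    obtain ⟨v, hv⟩ := exists_prime_orderOf_dvd_card' q h1
    have hvo : orderOf (ι v) = q := by
      rw [orderOf_injective ι hι, Subgroup.orderOf_coe, hv]
    obtain ⟨R, hRD, hRA, -⟩ := sylowIn_stabilizer hG hF hbelow hcenter hab hm
      (w := ι v) v.2 hvo (v : C).2.2
    rw [hindex] at h2
    have hcard : Nat.card A = D.index * Nat.card (pairStab G a b) := by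
      rw [← Nat.card_congr (Subgroup.subgroupOfEquivOfLe
        (inf_le_left : pairStab G a b ≤ A)).toEquiv]
      exact D.index_mul_card.symm
    have hfac := Nat.pow_right_injective hq.two_le (hRD.2.symm.trans hRA.2)
    rw [hcard, Nat.factorization_mul Subgroup.index_ne_zero_of_finite Nat.card_pos.ne',
      Finsupp.add_apply] at hfac
    have hpos : 0 < D.index.factorization q :=
      hq.factorization_pos_of_dvd Subgroup.index_ne_zero_of_finite h2
    omega
  have hloc : Complement.LocalSplit W := by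
    intro q hq X hX hXW hX1 g hg
    haveI := Fact.mk hq
    obtain ⟨-, h⟩ := local_data hG hF hbelow hcenter hab hm (X := X.map ι) (hX.map ι)
      (by rwa [Ne, Subgroup.map_eq_bot_iff_of_injective _ hι])
      (by rintro _ ⟨x, hx, rfl⟩; exact hXW hx)
      (by rintro _ ⟨x, -, rfl⟩; exact x.2.2)
    obtain ⟨o, hoX, hoJ, hoa, ⟨k, hk⟩, hd⟩ := h (ι g)
      (Subgroup.le_normalizer_map ι ⟨g, hg, rfl⟩) (g : A).2
    refine ⟨⟨⟨o, hoa⟩, hoa, hoJ⟩, ?_, ?_, hd⟩
    · exact Subgroup.mem_centralizer_iff.2 fun x hx =>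
        hι (Subgroup.mem_centralizer_iff.1 hoX (ι x) ⟨x, hx, rfl⟩)
    · refine Nat.Coprime.coprime_dvd_left (orderOf_dvd_of_pow_eq_one ?_)
        ((Nat.coprime_two_left.2 hWodd).pow_left k)
      exact hι (by rw [map_pow, map_one]; exact hk)
  obtain ⟨N, hNn, hND, hNtop⟩ :=
    Complement.exists_normal_complement_of_normal C D hsol hHall hloc htop
  have htrans : ∀ y, y ≠ a → ∃ q ∈ N, (q : G) • b = y := by
    intro y hy
    obtain ⟨h, hha, hhb⟩ := two_transitive hG hF hm hab hy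
    haveI := hNn
    have hmem : (⟨h, hha⟩ : A) ∈ N ⊔ D := hNtop.symm ▸ Subgroup.mem_top _
    rw [Subgroup.mem_sup_of_normal_left] at hmem
    obtain ⟨n, hn, d, hd, hnd⟩ := hmem
    refine ⟨n, hn, ?_⟩
    have h1 : (n : G) * (d : G) = h := congrArg Subtype.val hnd
    rw [← hhb, ← h1, mul_smul, show (d : G) • b = b from (Subgroup.mem_subgroupOf.1 hd).2]
  refine ⟨N.map A.subtype, Subgroup.map_subtype_le _, ?_, ?_, ?_⟩
  · rintro h hh _ ⟨q, hq, rfl⟩
    exact ⟨⟨h, hh⟩ * q * ⟨h, hh⟩⁻¹, hNn.conj_mem q hq _, rfl⟩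
  · rintro _ ⟨q, hq, rfl⟩ y hy hfix
    obtain ⟨r, hr, hry⟩ := htrans y hy
    have h1 : r⁻¹ * q * r ∈ N ⊓ D := by
      refine ⟨N.mul_mem (N.mul_mem (N.inv_mem hr) hq) hr, Subgroup.mem_subgroupOf.2
        ⟨(r⁻¹ * q * r : A).2, ?_⟩⟩
      show ((r : G)⁻¹ * (q : G) * (r : G)) • b = b
      rw [mul_smul, mul_smul, hry, inv_smul_eq_iff, hry]
      exact hfix
    rw [hND, Subgroup.mem_bot] at h1
    have h2 : q = 1 := by
      calc q = r * (r⁻¹ * q * r) * r⁻¹ := by group
        _ = 1 := by rw [h1]; group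
    rw [h2, map_one]
  · intro y z hy hz
    obtain ⟨r₁, hr₁, h1⟩ := htrans y hy
    obtain ⟨r₂, hr₂, h2⟩ := htrans z hz
    refine ⟨_, Subgroup.mem_map_of_mem _ (mul_mem hr₂ (inv_mem hr₁)), ?_⟩
    show ((r₂ : G) * (r₁ : G)⁻¹) • y = z
    rw [mul_smul, inv_smul_eq_iff.2 h1.symm, h2]

/-- Node C2 when some non-trivial element fixing two cosets centralises all involutions of `H`. -/
theorem regular_of_central {H : Subgroup G} (hmin : BenderOne.Min G H) (hNB : BenderOne.NoBad H)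
    {g w : G} (hg : g ∉ H) (hwH : w ∈ H) (hwg : g⁻¹ * (w * g) ∈ H) (hw : w ≠ 1)
    (hcen : ∀ s ∈ H, orderOf s = 2 → w * s = s * w) :
    ∃ Q : Subgroup G, BenderOne.Regular H Q := by
  haveI := hmin.simple
  have hG := oneFix_of_stronglyEmbedded hmin.se
  have hF := propF_of_noBad hNB
  have hm := one_lt_card_invAt hmin.four
  have hcenter : Subgroup.center G = ⊥ := center_eq_bot (H := H) (fun h => by
    have := hmin.se.2.1
    rw [h, Subgroup.card_bot] at this
    exact Nat.not_even_one this) hmin.se.1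
  obtain ⟨Q, hQ, hconj, hfree, htr⟩ := exists_regular_of_central hG hF hmin.below hcenter
    (BenderOne.ne_one_iff.2 hg) hm
    (w₀ := w) ⟨mem_stabilizer_one.2 hwH, BenderOne.smul_eq_self_iff.2 hwg⟩ hw
    fun s hs => hcen s (mem_stabilizer_one.1 hs.2) hs.1
  refine ⟨Q, ⟨fun q hq => mem_stabilizer_one.1 (hQ hq),
    fun h hh q hq => hconj h (mem_stabilizer_one.2 hh) q hq,
    fun g hg q hq hqg => hfree q hq _ (BenderOne.ne_one_iff.2 hg)
      (BenderOne.smul_eq_self_iff.2 hqg), fun g₁ g₂ h1 h2 => ?_⟩⟩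
  obtain ⟨q, hq, hq'⟩ := htr _ _ (BenderOne.ne_one_iff.2 h1) (BenderOne.ne_one_iff.2 h2)
  refine ⟨q, hq, ?_⟩
  rw [Quotient.smul_mk, smul_eq_mul, eq_comm, QuotientGroup.eq] at hq'
  exact hq'

end Cfsg.Agent.Lib.BenderOne83.Central
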