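import Mathlib
import Cfsg.Agent.Lib.Involutions.Basic

/-!
# Bender's theorem, part I, node C2: groups acting on a regular cyclic group of an elementary
abelian `2`-group

An abelian `C` regular on the non-identity elements of an elementary abelian `2`-group generates a
field; a group fixing `t` and normalising `C` without fixed points on it acts as the whole Galois
group, of order `e` for `2 ^ e = |C| + 1`.
-/

set_option autoImplicit false
set_option linter.style.haveILetI false
set_option linter.unusedSectionVars false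

namespace Cfsg.Agent.Lib.BenderOne83.Galois

open Subgroup Cfsg.Agent.Lib.Involutions.Basic

variable {G : Type*} [Group G] [Finite G]

/-- Conjugation as an endomorphism of a normalised commutative subgroup. -/
def conjEnd (E : Subgroup G) {g : G} (hg : g ∈ normalizer (E : Set G)) :
    AddMonoid.End (Additive E) where
  toFun x := Additive.ofMul ⟨g * (x.toMul : E) * g⁻¹,
    (mem_normalizer_iff.1 hg _).1 (Additive.toMul x).2⟩
  map_zero' := congrArg Additive.ofMul (Subtype.ext (by simp))
  map_add' x y := congrArg Additive.ofMul (Subtype.ext (by simp [mul_assoc]))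

/-- A group `P` normalising `C` and fixing `t`, without common fixed points on `C`, has order
`e · |C_P(C)|`, where `2 ^ e = |C| + 1`. -/
theorem exists_exponent {I : Set G} {t : G} {C P : Subgroup G} (ht : t ∈ I)
    (hinv : ∀ s ∈ I, orderOf s = 2) (hcomm : ∀ s ∈ I, ∀ s' ∈ I, s * s' = s' * s)
    (hclosed : ∀ s ∈ I, ∀ s' ∈ I, s ≠ s' → s * s' ∈ I)
    (hCc : ∀ k ∈ C, ∀ l ∈ C, k * l = l * k) (hCI : ∀ k ∈ C, k * t * k⁻¹ ∈ I)
    (hinj : ∀ k ∈ C, k * t = t * k → k = 1) (hsurj : ∀ s ∈ I, ∃ k ∈ C, k * t * k⁻¹ = s)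
    (hPC : P ≤ normalizer (C : Set G)) (hPt : ∀ y ∈ P, y * t = t * y)
    (hfix : ∀ k ∈ C, (∀ y ∈ P, y * k = k * y) → k = 1) :
    ∃ e : ℕ, 2 ^ e = Nat.card C + 1 ∧
      Nat.card P = e * Nat.card (P ⊓ centralizer (C : Set G) : Subgroup G) := by
  classical
  -- the elementary abelian group
  let E : Subgroup G :=
    { carrier := {x | x = 1 ∨ x ∈ I}
      one_mem' := Or.inl rfl
      mul_mem' := by
        rintro a b (rfl | ha) (rfl | hb)
        · exact Or.inl (one_mul 1)
        · exact Or.inr (by rwa [one_mul])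
        · exact Or.inr (by rwa [mul_one])
        · by_cases h : a = b
          · exact Or.inl (h ▸ invol_mul_self (hinv a ha))
          · exact Or.inr (hclosed a ha b hb h)
      inv_mem' := by
        rintro a (rfl | ha)
        · exact Or.inl inv_one
        · exact Or.inr (by rwa [invol_inv (hinv a ha)]) }
  have hEc : ∀ a ∈ E, ∀ b ∈ E, a * b = b * a := by
    rintro a (rfl | ha) b (rfl | hb)
    · rfl
    · rw [one_mul, mul_one]
    · rw [one_mul, mul_one]
    · exact hcomm a ha b hb
  letI : CommGroup E := { (inferInstance : Group E) with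
    mul_comm := fun a b => Subtype.ext (hEc a a.2 b b.2) }
  have hnorm : ∀ {g : G}, (∀ s ∈ I, g * s * g⁻¹ ∈ I) → g ∈ normalizer (E : Set G) := by
    intro g hg
    have hsub : ∀ x ∈ E, g * x * g⁻¹ ∈ E := by
      rintro x (rfl | hx)
      · exact Or.inl (by group)
      · exact Or.inr (hg x hx)
    rw [Subgroup.mem_normalizer_iff_map_conj_eq]
    refine eq_of_le_of_card_ge ?_ (card_map_of_injective (MulAut.conj g).injective).ge
    rintro _ ⟨x, hx, rfl⟩
    exact hsub x hx
  have hCE : ∀ k ∈ C, k ∈ normalizer (E : Set G) := fun k hk => hnorm fun s hs => by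
    obtain ⟨l, hl, rfl⟩ := hsurj s hs
    rw [show k * (l * t * l⁻¹) * k⁻¹ = k * l * t * (k * l)⁻¹ by group]
    exact hCI _ (mul_mem hk hl)
  have hPE : ∀ y ∈ P, y ∈ normalizer (E : Set G) := fun y hy => hnorm fun s hs => by
    obtain ⟨l, hl, rfl⟩ := hsurj s hs
    have e : y * (l * t * l⁻¹) * y⁻¹ = y * l * y⁻¹ * (y * t * y⁻¹) * (y * l * y⁻¹)⁻¹ := by group
    rw [e, mul_inv_eq_iff_eq_mul.2 (hPt y hy)]
    exact hCI _ ((mem_normalizer_iff.1 (hPC hy) l).1 hl)
  -- the ring
  let Φ : C → AddMonoid.End (Additive E) := fun k => conjEnd E (hCE k k.2)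
  have hΦ : ∀ x ∈ Set.range Φ, ∀ y ∈ Set.range Φ, x * y = y * x := by
    rintro _ ⟨k, rfl⟩ _ ⟨l, rfl⟩
    refine AddMonoidHom.ext fun x => congrArg Additive.ofMul (Subtype.ext ?_)
    show (k : G) * ((l : G) * (x.toMul : E) * (l : G)⁻¹) * (k : G)⁻¹ =
      (l : G) * ((k : G) * (x.toMul : E) * (k : G)⁻¹) * (l : G)⁻¹
    calc (k : G) * ((l : G) * (x.toMul : E) * (l : G)⁻¹) * (k : G)⁻¹
        = ((k : G) * l) * (x.toMul : E) * ((k : G) * l)⁻¹ := by group
      _ = _ := by rw [hCc k k.2 l l.2]; group
  let A := Subring.closure (Set.range Φ)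
  haveI := Subring.isMulCommutative_closure hΦ
  letI : CommRing A := { (inferInstance : Ring A) with mul_comm := fun a b => mul_comm' a b }
  let t' : Additive E := Additive.ofMul ⟨t, Or.inr ht⟩
  have ht' : t' ≠ 0 := fun h => by
    have h1 : t = 1 := congrArg (fun x : Additive E => ((Additive.toMul x : E) : G)) h
    have h2 := hinv t ht
    rw [h1, orderOf_one] at h2
    exact absurd h2 (by decide)
  have hval : ∀ {x : Additive E}, x ≠ 0 → ∃ k : C, Φ k t' = x := by
    intro x hx
    rcases (Additive.toMul x).2 with h | h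
    · exact absurd (show x = 0 from Additive.toMul.injective (Subtype.ext h)) hx
    · obtain ⟨k, hk, hks⟩ := hsurj _ h
      exact ⟨⟨k, hk⟩, Additive.toMul.injective (Subtype.ext hks)⟩
  have hkill : ∀ a : A, (a : AddMonoid.End (Additive E)) t' = 0 → a = 0 := by
    intro a ha
    refine Subtype.ext (AddMonoidHom.ext fun x => ?_)
    by_cases hx : x = 0
    · rw [hx]; exact map_zero _
    obtain ⟨k, rfl⟩ := hval hx
    have h1 : (a : AddMonoid.End (Additive E)) * Φ k = Φ k * (a : AddMonoid.End (Additive E)) :=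
      congrArg Subtype.val
        (mul_comm a (⟨Φ k, Subring.subset_closure ⟨k, rfl⟩⟩ : A))
    show ((a : AddMonoid.End (Additive E)) * Φ k) t' = 0
    rw [h1]
    show Φ k ((a : AddMonoid.End (Additive E)) t') = 0
    rw [ha, map_zero]
  let ev : A → Additive E := fun a => (a : AddMonoid.End (Additive E)) t'
  have hev : Function.Bijective ev := by
    refine ⟨fun a b h => sub_eq_zero.1 (hkill _ ?_), fun x => ?_⟩
    · show ((a : AddMonoid.End (Additive E)) - b) t' = 0
      rw [show ((a : AddMonoid.End (Additive E)) - b) t' = ev a - ev b from rfl, h, sub_self]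
    · by_cases hx : x = 0
      · exact ⟨0, by rw [hx]; rfl⟩
      obtain ⟨k, hk⟩ := hval hx
      exact ⟨⟨Φ k, Subring.subset_closure ⟨k, rfl⟩⟩, hk⟩
  haveI : Finite A := Finite.of_injective ev hev.1
  haveI : Nontrivial A := ⟨⟨1, 0, fun h => ht' (congrArg ev h)⟩⟩
  haveI : NoZeroDivisors A := ⟨fun {a b} hab => by
    by_cases hb : (b : AddMonoid.End (Additive E)) t' = 0
    · exact Or.inr (hkill b hb)
    obtain ⟨k, hk⟩ := hval hb
    refine Or.inl ?_
    have h1 : (a * ⟨Φ k, Subring.subset_closure ⟨k, rfl⟩⟩ : A) = 0 := hkill _ (by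
      show (a : AddMonoid.End (Additive E)) (Φ k t') = 0
      rw [hk]
      exact congrArg ev hab)
    have h3 : a * ⟨Φ k, Subring.subset_closure ⟨k, rfl⟩⟩ *
        ⟨Φ k⁻¹, Subring.subset_closure ⟨k⁻¹, rfl⟩⟩ = a := by
      rw [mul_assoc, show (⟨Φ k, Subring.subset_closure ⟨k, rfl⟩⟩ : A) *
        ⟨Φ k⁻¹, Subring.subset_closure ⟨k⁻¹, rfl⟩⟩ = 1 from Subtype.ext (AddMonoidHom.ext fun x =>
          Additive.toMul.injective (Subtype.ext
            (show (k : G) * (((k⁻¹ : C) : G) * (x.toMul : E) * ((k⁻¹ : C) : G)⁻¹) * (k : G)⁻¹ =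
              (x.toMul : E) by push_cast; group))), mul_one]
    rwa [h1, zero_mul, eq_comm] at h3⟩
  haveI : IsDomain A := NoZeroDivisors.to_isDomain A
  haveI : Fintype A := Fintype.ofFinite A
  letI : Field A := Fintype.fieldOfDomain A
  -- the action of `P`
  let u : P →* (AddMonoid.End (Additive E))ˣ := MonoidHom.toHomUnits
    { toFun := fun y => conjEnd E (hPE y y.2)
      map_one' := AddMonoidHom.ext fun x => Additive.toMul.injective (Subtype.ext
        (show (1 : G) * (x.toMul : E) * (1 : G)⁻¹ = (x.toMul : E) by group))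
      map_mul' := fun y z => AddMonoidHom.ext fun x => Additive.toMul.injective (Subtype.ext
        (show (y : G) * z * (x.toMul : E) * ((y : G) * z)⁻¹ =
          (y : G) * ((z : G) * (x.toMul : E) * (z : G)⁻¹) * (y : G)⁻¹ by group)) }
  have hΦconj : ∀ (y : P) (k : C), (u y : AddMonoid.End (Additive E)) * Φ k *
      ((u y)⁻¹ : (AddMonoid.End (Additive E))ˣ) =
      Φ ⟨y * k * (y : G)⁻¹, (mem_normalizer_iff.1 (hPC y.2) k).1 k.2⟩ := by
    intro y k
    rw [← map_inv]
    refine AddMonoidHom.ext fun x => Additive.toMul.injective (Subtype.ext ?_)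
    show (y : G) * ((k : G) * (((y⁻¹ : P) : G) * (x.toMul : E) * ((y⁻¹ : P) : G)⁻¹) * (k : G)⁻¹) *
      (y : G)⁻¹ = (y : G) * k * (y : G)⁻¹ * (x.toMul : E) * ((y : G) * k * (y : G)⁻¹)⁻¹
    push_cast
    group
  have hmem : ∀ (y : P), ∀ a ∈ A,
      (u y : AddMonoid.End (Additive E)) * a * ((u y)⁻¹ : (AddMonoid.End (Additive E))ˣ) ∈ A := by
    intro y a ha
    induction ha using Subring.closure_induction with
    | mem x hx =>
      obtain ⟨k, rfl⟩ := hx
      rw [hΦconj]
      exact Subring.subset_closure ⟨_, rfl⟩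
    | zero => simp
    | one => simp
    | add x z _ _ hx hz => rw [mul_add, add_mul]; exact add_mem hx hz
    | neg x _ hx =>
      have e : (u y : AddMonoid.End (Additive E)) * (-x) *
          ((u y)⁻¹ : (AddMonoid.End (Additive E))ˣ) =
          -((u y : AddMonoid.End (Additive E)) * x *
            ((u y)⁻¹ : (AddMonoid.End (Additive E))ˣ)) :=
        AddMonoidHom.ext fun w => map_neg (u y : AddMonoid.End (Additive E)) _
      rw [e]
      exact neg_mem hx
    | mul x z _ _ hx hz =>
      have e : (u y : AddMonoid.End (Additive E)) * (x * z) *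
          ((u y)⁻¹ : (AddMonoid.End (Additive E))ˣ) =
          ((u y : AddMonoid.End (Additive E)) * x *
            ((u y)⁻¹ : (AddMonoid.End (Additive E))ˣ)) *
          ((u y : AddMonoid.End (Additive E)) * z *
            ((u y)⁻¹ : (AddMonoid.End (Additive E))ˣ)) := by
        simp [mul_assoc]
      rw [e]
      exact mul_mem hx hz
  let act : P → A → A := fun y a => ⟨_, hmem y a a.2⟩
  have hact1 : ∀ a, act 1 a = a := fun a => Subtype.ext (by simp [act])
  have hactmul : ∀ y z a, act (y * z) a = act y (act z a) := fun y z a => Subtype.ext (by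
    simp [act, mul_assoc])
  let θ : P →* RingAut A :=
    { toFun := fun y =>
        { toFun := act y
          invFun := act y⁻¹
          left_inv := fun a => by rw [← hactmul, inv_mul_cancel, hact1]
          right_inv := fun a => by rw [← hactmul, mul_inv_cancel, hact1]
          map_mul' := fun a b => Subtype.ext (by simp [act, mul_assoc])
          map_add' := fun a b => Subtype.ext (by simp [act, mul_add, add_mul]) }
      map_one' := RingEquiv.ext hact1
      map_mul' := fun y z => RingEquiv.ext (hactmul y z) }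
  have hker : θ.ker.map P.subtype = P ⊓ centralizer (C : Set G) := by
    ext y
    constructor
    · rintro ⟨⟨y, hy⟩, hyk, rfl⟩
      refine ⟨hy, mem_centralizer_iff.2 fun k hk => ?_⟩
      have h1 : act ⟨y, hy⟩ ⟨Φ ⟨k, hk⟩, Subring.subset_closure ⟨_, rfl⟩⟩ =
          ⟨Φ ⟨k, hk⟩, Subring.subset_closure ⟨_, rfl⟩⟩ :=
        RingEquiv.congr_fun (MonoidHom.mem_ker.1 hyk) _
      have h2 := congrArg Subtype.val h1
      simp only [act] at h2
      rw [hΦconj] at h2
      have h3 : y * k * y⁻¹ * t * (y * k * y⁻¹)⁻¹ = k * t * k⁻¹ :=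
        congrArg (fun f : AddMonoid.End (Additive E) =>
          ((Additive.toMul (f t') : E) : G)) h2
      have hyk' : y * k * y⁻¹ ∈ C := (mem_normalizer_iff.1 (hPC hy) k).1 hk
      have h4 := hinj _ (mul_mem (inv_mem hk) hyk') (by
        calc k⁻¹ * (y * k * y⁻¹) * t = k⁻¹ * (y * k * y⁻¹ * t * (y * k * y⁻¹)⁻¹) *
              (y * k * y⁻¹) := by group
          _ = t * (k⁻¹ * (y * k * y⁻¹)) := by rw [h3]; group)
      exact (mul_inv_eq_iff_eq_mul.1 (inv_mul_eq_one.1 h4).symm).symm
    · rintro ⟨hy, hyc⟩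
      refine ⟨⟨y, hy⟩, MonoidHom.mem_ker.2 (RingEquiv.ext fun a => Subtype.ext ?_), rfl⟩
      show (u ⟨y, hy⟩ : AddMonoid.End (Additive E)) * a.1 *
        ((u ⟨y, hy⟩)⁻¹ : (AddMonoid.End (Additive E))ˣ) = a.1
      have h1 : ∀ x ∈ A, (u ⟨y, hy⟩ : AddMonoid.End (Additive E)) * x =
          x * (u ⟨y, hy⟩ : AddMonoid.End (Additive E)) := by
        intro x hx
        induction hx using Subring.closure_induction with
        | mem z hz =>
          obtain ⟨k, rfl⟩ := hz
          refine AddMonoidHom.ext fun w => Additive.toMul.injective (Subtype.ext ?_)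
          show y * ((k : G) * (w.toMul : E) * (k : G)⁻¹) * y⁻¹ =
            (k : G) * (y * (w.toMul : E) * y⁻¹) * (k : G)⁻¹
          have hk := mem_centralizer_iff.1 hyc k k.2
          calc y * ((k : G) * (w.toMul : E) * (k : G)⁻¹) * y⁻¹
              = (y * k) * (w.toMul : E) * (y * k)⁻¹ := by group
            _ = _ := by rw [← hk]; group
        | zero => simp
        | one => simp
        | add x z _ _ hx hz => rw [mul_add, add_mul, hx, hz]
        | neg x _ hx =>
          refine AddMonoidHom.ext fun w => ?_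
          show (u ⟨y, hy⟩ : AddMonoid.End (Additive E)) (-(x w)) =
            -(x ((u ⟨y, hy⟩ : AddMonoid.End (Additive E)) w))
          rw [map_neg]
          exact congrArg Neg.neg (DFunLike.congr_fun hx w)
        | mul x z _ _ hx hz => rw [← mul_assoc, hx, mul_assoc, hz, mul_assoc]
      rw [h1 _ a.2, Units.mul_inv_cancel_right]
  -- fixed points
  haveI : Finite θ.range := Finite.of_surjective θ.rangeRestrict θ.rangeRestrict_surjective
  haveI : Fintype θ.range := Fintype.ofFinite _
  let F₀ := FixedPoints.subfield θ.range A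
  have hF₀ : Nat.card F₀ = 2 := by
    rw [Nat.card_eq_two_iff]
    refine ⟨0, 1, zero_ne_one, Set.eq_univ_of_forall fun a => ?_⟩
    obtain ⟨a, ha⟩ := a
    by_cases h0 : (a : AddMonoid.End (Additive E)) t' = 0
    · exact Or.inl (Subtype.ext (hkill a h0))
    refine Or.inr (Subtype.ext (hev.1 ?_))
    obtain ⟨k, hk⟩ := hval h0
    have hak : a = ⟨Φ k, Subring.subset_closure ⟨k, rfl⟩⟩ := hev.1 hk.symm
    have hk1 : (k : G) = 1 := by
      refine hfix k k.2 fun y hy => ?_
      have h1 : act ⟨y, hy⟩ a = a := ha ⟨θ ⟨y, hy⟩, ⟨y, hy⟩, rfl⟩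
      rw [hak] at h1
      have h2 := congrArg Subtype.val h1
      simp only [act] at h2
      rw [hΦconj] at h2
      have h3 : y * k * y⁻¹ * t * (y * k * y⁻¹)⁻¹ = (k : G) * t * (k : G)⁻¹ :=
        congrArg (fun f : AddMonoid.End (Additive E) =>
          ((Additive.toMul (f t') : E) : G)) h2
      have hyk' : y * k * y⁻¹ ∈ C := (mem_normalizer_iff.1 (hPC hy) k).1 k.2
      have h4 := hinj _ (mul_mem (inv_mem k.2) hyk') (by
        calc (k : G)⁻¹ * (y * k * y⁻¹) * t = (k : G)⁻¹ * (y * k * y⁻¹ * t * (y * k * y⁻¹)⁻¹) *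
              (y * k * y⁻¹) := by group
          _ = t * ((k : G)⁻¹ * (y * k * y⁻¹)) := by rw [h3]; group)
      exact mul_inv_eq_iff_eq_mul.1 (inv_mul_eq_one.1 h4).symm
    show (a : AddMonoid.End (Additive E)) t' = t'
    rw [← hk]
    exact Additive.toMul.injective (Subtype.ext
      (show (k : G) * t * (k : G)⁻¹ = t by rw [hk1]; group))
  refine ⟨Module.finrank F₀ A, ?_, ?_⟩
  · rw [← hF₀, ← Module.natCard_eq_pow_finrank, Nat.card_eq_of_bijective ev hev,
      Nat.card_congr Additive.toMul]
    have h1 : Nat.card E = Nat.card I + 1 := by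
      have hset : (E : Set G) = insert 1 I := rfl
      show Nat.card (E : Set G) = _
      rw [hset, Nat.card_coe_set_eq, Set.ncard_insert_of_notMem (fun h => by
        have := hinv 1 h
        rw [orderOf_one] at this
        exact absurd this (by decide)) (Set.toFinite _), Nat.card_coe_set_eq]
    have h2 : Nat.card C = Nat.card I := Nat.card_eq_of_bijective
      (fun k => (⟨k * t * (k : G)⁻¹, hCI k k.2⟩ : I)) ⟨fun k l h => ?_, fun s => ?_⟩
    · rw [h1, h2]
    · have h' : (k : G) * t * (k : G)⁻¹ = l * t * (l : G)⁻¹ := congrArg Subtype.val h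
      refine Subtype.ext (inv_mul_eq_one.1 (hinj _ (mul_mem (inv_mem k.2) l.2) ?_))
      calc (k : G)⁻¹ * l * t = (k : G)⁻¹ * (l * t * (l : G)⁻¹) * l := by group
        _ = t * ((k : G)⁻¹ * l) := by rw [← h']; group
    · obtain ⟨k, hk, hks⟩ := hsurj s s.2
      exact ⟨⟨k, hk⟩, Subtype.ext hks⟩
  · rw [FixedPoints.finrank_eq_card, ← Nat.card_eq_fintype_card, ← Subgroup.index_ker, ← hker,
      card_map_of_injective P.subtype_injective, Subgroup.index_mul_card]

end Cfsg.Agent.Lib.BenderOne83.Galois
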