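import Cfsg.Agent.Lib.BenderOne83.C2.Central
import Cfsg.Agent.Lib.Coprime.Generation

/-!
# Bender's theorem, part I, node C2: inverted elements centralised by a fixed element are cyclic

If `x` fixes a triangle, two commuting elements of order `r` of `C_D(x)` inverted by the swapper
generate a cyclic group: such an element fixes only the pair, and the involutions centralising
`x` at a vertex generate an elementary abelian group on which they would act without fixed points.
-/

set_option autoImplicit false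
set_option linter.style.haveILetI false
set_option linter.unusedSectionVars false

namespace Cfsg.Agent.Lib.BenderOne83.InvertedCyclic

open MulAction Cfsg.Agent.Lib.Involutions.Basic
open Cfsg.Agent.Lib.BenderOne20 Cfsg.Agent.Lib.BenderOne8

universe u

variable {G Ω : Type u} [Group G] [MulAction G Ω] [Finite G]

/-- Commuting inverted elements of order `r` centralised by a fixed element form a cyclic group. -/
theorem mem_zpowers (hG : OneFix G Ω) (hF : PropF G Ω)
    (hbelow : BenderOne.Below.{u} (Nat.card G)) (hcenter : Subgroup.center G = ⊥) {a b : Ω}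
    (hab : a ≠ b) {w : G} (hw : w ∈ swapSet G a b) {x : G} (hx : x ∈ pairStab G a b)
    (hxw : x * w = w * x) (hx1 : x ≠ 1) {r : ℕ} (hr : r.Prime) {k l : G}
    (hk : k ∈ pairStab G a b) (hl : l ∈ pairStab G a b) (hko : orderOf k = r)
    (hlo : orderOf l = r) (hkw : w * k * w⁻¹ = k⁻¹) (hlw : w * l * w⁻¹ = l⁻¹)
    (hxk : x * k = k * x) (hxl : x * l = l * x) (hkl : k * l = l * k) :
    l ∈ Subgroup.zpowers k := by
  by_contra hlk
  have hodd := hG.odd_pairStab hab
  -- the fixed point of the swapper
  obtain ⟨c, hc⟩ := hG.exists_fix hw.1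
  have hca : c ≠ a := fun h => by
    rw [h] at hc
    exact hab (hc.symm.trans hw.2)
  have hcb : c ≠ b := fun h => by
    rw [h] at hc
    exact hab ((smul_swap hw).symm.trans hc)
  -- an element of prime order
  obtain ⟨p, hp, hpx⟩ := Nat.exists_prime_and_dvd (mt orderOf_eq_one_iff.1 hx1)
  haveI := Fact.mk hp
  haveI := Fact.mk hr
  set x' := x ^ (orderOf x / p) with hx'
  have hx'o : orderOf x' = p := orderOf_pow_orderOf_div (orderOf_pos x).ne' hpx
  set X := Subgroup.zpowers x' with hXdef
  have hX : IsPGroup p X := IsPGroup.of_card (n := 1) (by rw [Nat.card_zpowers, hx'o, pow_one])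
  have hXD : X ≤ pairStab G a b := Subgroup.zpowers_le.2 (pow_mem hx _)
  have haX : a ∈ Fx X := hXD.trans inf_le_left
  have hbX : b ∈ Fx X := hXD.trans inf_le_right
  have hcX : c ∈ Fx X := mem_Fx_of_cen hG ⟨hw.1, hc⟩ (Subgroup.zpowers_le.2
    (Subgroup.mem_centralizer_singleton_iff.2 (Commute.pow_left hxw _).eq))
  have h3 : Three X Ω := ⟨a, b, c, hab, hca, hcb, haX, hbX, hcX⟩
  have hcenX : ∀ {g : G}, x * g = g * x → g ∈ Subgroup.centralizer (X : Set G) := by
    intro g hg
    refine Subgroup.mem_centralizer_iff.2 fun y hy => ?_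
    obtain ⟨n, rfl⟩ := Subgroup.mem_zpowers_iff.1 hy
    exact (((Commute.pow_left hg _).zpow_left n)).eq
  -- an inverted element commuting with an involution at `a` is trivial
  have hkill : ∀ {j s : G}, j ∈ pairStab G a b → w * j * w⁻¹ = j⁻¹ → s ∈ invAt G a →
      j * s = s * j → j = 1 := by
    intro j s hj hjw hs hjs
    by_contra hj1
    rcases eq_or_eq_of_inverted hG hF hab hw hj hj1 hjw (e := s • b)
      (by rw [smul_smul, hjs, ← smul_smul, (hj.2 : j • b = b)]) with h | h
    · exact hab (MulAction.injective s (hs.2.trans h.symm))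
    · exact hab (hG.eq_of_fix hs.1 hs.2 h)
  obtain ⟨s₀, hs₀⟩ := exists_cen hG hF hX h3 haX
  haveI : Nonempty ↥(invCen X a) := ⟨⟨s₀, hs₀⟩⟩
  have hconjS : ∀ {g : G}, g ∈ Subgroup.centralizer (X : Set G) → g • a = a →
      ∀ {s : G}, s ∈ invCen X a → g * s * g⁻¹ ∈ invCen X a := by
    intro g hg hga s hs
    have h := OneFix.conj_mem_invAt (g := g) hs.1
    rw [hga] at h
    exact ⟨h, cen_conj (Subgroup.centralizer_le_normalizer _ hg) hs.2⟩
  rcases Nat.eq_or_lt_of_le (show 1 ≤ Nat.card (invCen X a) from Nat.card_pos) with h1 | hm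
  · -- one involution at `a`: `k` centralises it
    haveI := (Nat.card_eq_one_iff_unique.1 h1.symm).1
    have hks : k * s₀ * k⁻¹ = s₀ := congrArg Subtype.val
      (Subsingleton.elim (⟨_, hconjS (hcenX hxk) hk.1 hs₀⟩ : ↥(invCen X a)) ⟨s₀, hs₀⟩)
    have hk1 := hkill hk hkw hs₀.1 (mul_inv_eq_iff_eq_mul.1 hks)
    rw [hk1, orderOf_one] at hko
    exact hr.ne_one hko.symm
  -- the involutions at `a` centralising `X` commute
  have hne : Subgroup.centralizer (X : Set G) ≠ ⊤ := fun h => by
    have h2 : x' ∈ Subgroup.center G := Subgroup.mem_center_iff.2 fun g =>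
      (Subgroup.mem_centralizer_iff.1 (h.ge (Subgroup.mem_top g)) x' (Subgroup.mem_zpowers x')).symm
    rw [hcenter, Subgroup.mem_bot] at h2
    rw [h2, orderOf_one] at hx'o
    exact hp.ne_one hx'o.symm
  have hcomm : ∀ s ∈ invCen X a, ∀ t ∈ invCen X a, s * t = t * s := fun s hs t ht =>
    Central.comm_cen hG hF hX h3 haX hm hbelow hne (mem_cen hs.2) hs.1.2 (k := 1)
      (by rw [pow_one, pow_two]; exact invol_mul_self hs.1.1) ht
  set E := Subgroup.closure (invCen X a) with hEdef
  have hEcomm : ∀ e ∈ E, ∀ f ∈ E, e * f = f * e := by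
    have h1 : E ≤ Subgroup.centralizer (invCen X a) := (Subgroup.closure_le _).2 fun s hs =>
      Subgroup.mem_centralizer_iff.2 fun t ht => hcomm t ht s hs
    have h2 : E ≤ Subgroup.centralizer (E : Set G) := (Subgroup.closure_le _).2 fun s hs =>
      Subgroup.mem_centralizer_iff.2 fun e he => (Subgroup.mem_centralizer_iff.1 (h1 he) s hs).symm
    exact fun e he f hf => Subgroup.mem_centralizer_iff.1 (h2 hf) e he
  have hEsq : ∀ e ∈ E, e * e = 1 := by
    intro e he
    induction he using Subgroup.closure_induction with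
    | mem s hs => exact invol_mul_self hs.1.1
    | one => exact one_mul 1
    | mul s t hs ht ih1 ih2 =>
      calc s * t * (s * t) = s * (t * s) * t := by group
        _ = s * (s * t) * t := by rw [hEcomm t ht s hs]
        _ = (s * s) * (t * t) := by group
        _ = 1 := by rw [ih1, ih2, one_mul]
    | inv s hs ih => rw [← mul_inv_rev, ih, inv_one]
  haveI : Fact (Nat.Prime 2) := ⟨Nat.prime_two⟩
  have hE2 : IsPGroup 2 E := fun e => ⟨1, Subtype.ext (by
    rw [pow_one, SubmonoidClass.coe_pow, pow_two, OneMemClass.coe_one]; exact hEsq _ e.2)⟩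
  have hEa : E ≤ stabilizer G a := (Subgroup.closure_le _).2 fun s hs => hs.1.2
  have hnorm : ∀ {g : G}, g ∈ Subgroup.centralizer (X : Set G) → g • a = a →
      g ∈ Subgroup.normalizer (E : Set G) := by
    intro g hg hga
    rw [Subgroup.mem_normalizer_iff_map_conj_eq, MonoidHom.map_closure]
    refine congrArg _ (Set.eq_of_subset_of_ncard_le (by
      rintro _ ⟨s, hs, rfl⟩; exact hconjS hg hga hs)
      (Set.ncard_image_of_injective _ (MulAut.conj g).injective).ge (Set.toFinite _))
  have hle : Subgroup.closure ({l, k} : Set G) ≤ pairStab G a b :=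
    (Subgroup.closure_le _).2 (Set.insert_subset hl (Set.singleton_subset_iff.2 hk))
  obtain ⟨n, hn⟩ := IsPGroup.iff_card.1 hE2
  have hr2 : Odd r := hko ▸ hodd.of_dvd_nat (Subgroup.orderOf_dvd_natCard _ hk)
  have hgen := Cfsg.Agent.Lib.Coprime.le_lineCentralizers (q := r) (e := l) (f := k) hkl.symm
    (hnorm (hcenX hxl) hl.1) (hnorm (hcenX hxk) hk.1)
    (by rw [← hlo, pow_orderOf_eq_one]; exact one_mem _)
    (by rw [← hko, pow_orderOf_eq_one]; exact one_mem _)
    (by rw [hn]; exact (Nat.coprime_two_right.2 (hodd.of_dvd_nat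
      (Subgroup.card_dvd_of_le hle))).pow_right n)
    (by rw [hn]; exact (Nat.coprime_two_right.2 hr2).pow_right n)
  have hfix : ∀ j ∈ pairStab G a b, w * j * w⁻¹ = j⁻¹ → j ≠ 1 →
      E ⊓ Subgroup.centralizer {j} = ⊥ := by
    intro j hj hjw hj1
    refine (Subgroup.eq_bot_iff_forall _).2 fun e he => ?_
    by_contra he1
    exact hj1 (hkill hj hjw ⟨invol_iff.2 ⟨hEsq e he.1, he1⟩, hEa he.1⟩
      (Subgroup.mem_centralizer_singleton_iff.1 he.2).symm)
  have hEbot : E ≤ ⊥ := by
    refine hgen.trans (sup_le (hfix k hk hkw fun h => ?_).le (iSup_le fun t => (hfix _ ?_ ?_ ?_).le))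
    · rw [h, orderOf_one] at hko
      exact hr.ne_one hko.symm
    · exact mul_mem hl (pow_mem hk _)
    · have hc1 : Commute l⁻¹ (k ^ t.val)⁻¹ :=
        ((Commute.pow_right (show Commute l k from hkl.symm) t.val).inv_left).inv_right
      rw [← conj_mul, ← conj_pow, hlw, hkw, inv_pow, mul_inv_rev, hc1.eq]
    · intro h
      exact hlk (eq_inv_of_mul_eq_one_left h ▸ inv_mem (pow_mem (Subgroup.mem_zpowers k) _))
  have hs₀1 : s₀ = 1 := Subgroup.mem_bot.1 (hEbot (Subgroup.subset_closure hs₀))
  have h2 := hs₀.1.1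
  rw [hs₀1, orderOf_one] at h2
  exact absurd h2 (by decide)

end Cfsg.Agent.Lib.BenderOne83.InvertedCyclic
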