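import Mathlib

/-!
# Bender's theorem, part I, node C2: two by two matrix groups of odd order with a diagonal element

A solvable group of odd order of invertible `2 × 2` matrices containing a non-scalar diagonal
matrix fixes one of the two coordinate axes.
-/

set_option autoImplicit false
set_option linter.style.haveILetI false

namespace Cfsg.Agent.Lib.BenderOne83.Axis

open Matrix
open scoped commutatorElement

variable {K : Type*} [Field K] {D : Type*} [Group D] (f : D →* Matrix (Fin 2) (Fin 2) K)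

/-- `f g` is a scalar matrix. -/
def Sc (g : D) : Prop := f g 0 1 = 0 ∧ f g 1 0 = 0 ∧ f g 0 0 = f g 1 1

theorem sc_iff {g : D} : Sc f g ↔ ∃ s : K, f g = s • (1 : Matrix (Fin 2) (Fin 2) K) := by
  constructor
  · rintro ⟨h1, h2, h3⟩
    refine ⟨f g 0 0, ?_⟩
    ext a b
    fin_cases a <;> fin_cases b <;> simp [h1, h2, h3]
  · rintro ⟨s, hs⟩
    simp [Sc, hs]

theorem sc_pow {g : D} (h : Sc f g) (n : ℕ) : Sc f (g ^ n) := by
  obtain ⟨s, hs⟩ := (sc_iff f).1 h
  exact (sc_iff f).2 ⟨s ^ n, by rw [map_pow, hs, smul_pow, one_pow]⟩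

theorem sc_of_sq [Finite D] (hodd : Odd (Nat.card D)) {g : D} (h : Sc f (g * g)) : Sc f g := by
  obtain ⟨n, hn⟩ := hodd.of_dvd_nat (orderOf_dvd_natCard g)
  have e : g = (g * g) ^ (n + 1) := by
    rw [← pow_two, ← pow_mul, show 2 * (n + 1) = orderOf g + 1 by omega, pow_succ,
      pow_orderOf_eq_one, one_mul]
  rw [e]
  exact sc_pow f h _

theorem entry_mul (g h : D) (a b : Fin 2) :
    f (g * h) a b = f g a 0 * f h 0 b + f g a 1 * f h 1 b := by
  rw [map_mul, Matrix.mul_apply, Fin.sum_univ_two]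

theorem det_ne_zero (g : D) : f g 0 0 * f g 1 1 - f g 0 1 * f g 1 0 ≠ 0 := by
  intro h
  have h1 : (f g).det * (f g⁻¹).det = 1 := by
    rw [← Matrix.det_mul, ← map_mul, mul_inv_cancel, map_one, Matrix.det_one]
  rw [Matrix.det_fin_two (f g), h, zero_mul] at h1
  exact zero_ne_one h1

/-- A non-scalar normal subgroup, minimal as such, has commutative image. -/
theorem exists_abelian_nonscalar [Finite D] [Group.IsSolvable D] (hodd : Odd (Nat.card D))
    {y : D} (hy : ¬ Sc f y) : ∃ N : Subgroup D, N.Normal ∧ (∃ g ∈ N, ¬ Sc f g) ∧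
      ∀ g ∈ N, ∀ h ∈ N, f (g * h) = f (h * g) := by
  classical
  obtain ⟨N, ⟨hNn, g, hg, hgs⟩, hmin⟩ :=
    (Set.toFinite {N : Subgroup D | N.Normal ∧ ∃ g ∈ N, ¬ Sc f g}).exists_minimal
      ⟨⊤, inferInstance, y, Subgroup.mem_top _, hy⟩
  haveI := hNn
  have hne : N ≠ ⊥ := by
    rintro rfl
    rw [Subgroup.mem_bot.1 hg] at hgs
    exact hgs ⟨by simp, by simp, by simp⟩
  have hlt := Group.IsSolvable.commutator_lt_of_ne_bot hne
  have hsc : ∀ c ∈ ⁅N, N⁆, Sc f c := by
    intro c hc
    by_contra hcs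
    exact hlt.not_ge (hmin ⟨inferInstance, c, hc, hcs⟩ hlt.le)
  refine ⟨N, hNn, ⟨g, hg, hgs⟩, fun a ha b hb => ?_⟩
  obtain ⟨s, hs⟩ := (sc_iff f).1 (hsc _ (Subgroup.commutator_mem_commutator ha hb))
  have hdet : (f ⁅a, b⁆).det = 1 := by
    have hinv : ∀ v : D, (f v).det * (f v⁻¹).det = 1 := fun v => by
      rw [← Matrix.det_mul, ← map_mul, mul_inv_cancel, map_one, Matrix.det_one]
    rw [commutatorElement_def, map_mul, map_mul, map_mul, Matrix.det_mul, Matrix.det_mul,
      Matrix.det_mul, mul_assoc (_ * _) _ _]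
    calc (f a).det * (f b).det * ((f a⁻¹).det * (f b⁻¹).det)
        = ((f a).det * (f a⁻¹).det) * ((f b).det * (f b⁻¹).det) := by ring
      _ = 1 := by rw [hinv, hinv, one_mul]
  rw [hs, Matrix.det_smul, Matrix.det_one, mul_one, Fintype.card_fin] at hdet
  obtain ⟨n, hn⟩ := hodd.of_dvd_nat (orderOf_dvd_natCard ⁅a, b⁆)
  have h1 : s ^ orderOf ⁅a, b⁆ = 1 := by
    have h2 : f (⁅a, b⁆ ^ orderOf ⁅a, b⁆) = 1 := by rw [pow_orderOf_eq_one, map_one]
    rw [map_pow, hs, smul_pow, one_pow] at h2
    have h3 := congr_fun (congr_fun h2 0) 0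
    simpa using h3
  rw [hn, pow_succ, pow_mul, hdet, one_pow, one_mul] at h1
  rw [h1, one_smul] at hs
  calc f (a * b) = f (⁅a, b⁆ * (b * a)) := by
        congr 1
        rw [commutatorElement_def]
        group
    _ = f (b * a) := by rw [map_mul, hs, one_mul]

/-- A solvable matrix group of odd order with a non-scalar diagonal element fixes an axis. -/
theorem fixes_axis [Finite D] [Group.IsSolvable D] (hodd : Odd (Nat.card D)) {y : D}
    (h01 : f y 0 1 = 0) (h10 : f y 1 0 = 0) (hne : f y 0 0 ≠ f y 1 1) :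
    (∀ d : D, f d 0 1 = 0) ∨ ∀ d : D, f d 1 0 = 0 := by
  have hys : ¬ Sc f y := fun h => hne h.2.2
  obtain ⟨N, hNn, ⟨g, hg, hgs⟩, hab⟩ := exists_abelian_nonscalar f hodd hys
  set a := f y 0 0 with ha'
  set b := f y 1 1 with hb'
  set α := f g 0 0 with hα
  set β := f g 0 1 with hβ
  set γ := f g 1 0 with hγ
  set δ := f g 1 1 with hδ
  have hdety := det_ne_zero f y
  rw [h01, zero_mul, sub_zero] at hdety
  have ha : a ≠ 0 := left_ne_zero_of_mul hdety
  have hb : b ≠ 0 := right_ne_zero_of_mul hdety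
  have hsum : a + b ≠ 0 := by
    intro h
    refine hys (sc_of_sq f hodd ⟨?_, ?_, ?_⟩) <;> simp only [entry_mul, h01, h10, ← ha', ← hb']
    · ring
    · ring
    · linear_combination (a - b) * h
  have hsub : a - b ≠ 0 := sub_ne_zero.2 hne
  have key : ∀ d : D, ∀ p q : Fin 2,
      f (d * g * d⁻¹) p 0 * f g 0 q + f (d * g * d⁻¹) p 1 * f g 1 q =
        f g p 0 * f (d * g * d⁻¹) 0 q + f g p 1 * f (d * g * d⁻¹) 1 q ∧
      f (d * g * d⁻¹) p 0 * f d 0 q + f (d * g * d⁻¹) p 1 * f d 1 q =
        f d p 0 * f g 0 q + f d p 1 * f g 1 q := by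
    intro d p q
    simp only [← entry_mul]
    refine ⟨by rw [hab _ (hNn.conj_mem g hg d) g hg], ?_⟩
    rw [inv_mul_cancel_right]
  -- the conjugate of `g` by `y`
  set k := f (y * g * y⁻¹) with hk
  have k00 := (key y 0 0).2
  have k01 := (key y 0 1).2
  have k10 := (key y 1 0).2
  have k11 := (key y 1 1).2
  simp only [h01, h10, mul_zero, zero_mul, add_zero, zero_add, ← ha', ← hb', ← hα, ← hβ, ← hγ,
    ← hδ, ← hk] at k00 k01 k10 k11
  have k00' : k 0 0 = α := mul_right_cancel₀ ha (by rw [k00, mul_comm])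
  have k11' : k 1 1 = δ := mul_right_cancel₀ hb (by rw [k11, mul_comm])
  have c00 := (key y 0 0).1
  have c01 := (key y 0 1).1
  have c10 := (key y 1 0).1
  simp only [← hα, ← hβ, ← hγ, ← hδ, ← hk, k00', k11'] at c00 c01 c10
  have e1 : β * γ = 0 := by
    have : β * γ * ((a - b) * (a + b)) = 0 := by
      linear_combination (a * b) * c00 + β * b * k10 - γ * a * k01
    simpa [hsum, hsub] using this
  have e2 : β * (α - δ) = 0 := by
    have : β * (α - δ) * (a - b) = 0 := by
      linear_combination (-b) * c01 + (δ - α) * k01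
    simpa [hsub] using this
  have e3 : γ * (α - δ) = 0 := by
    have : γ * (α - δ) * (a - b) = 0 := by
      linear_combination (-a) * c10 + (α - δ) * k10
    simpa [hsub] using this
  by_cases hβ0 : β = 0
  · by_cases hγ0 : γ = 0
    · -- diagonal
      have hαδ : α - δ ≠ 0 := sub_ne_zero.2 fun h => hgs ⟨hβ0, hγ0, h⟩
      refine Or.inr fun d => ?_
      set h := f (d * g * d⁻¹) with hh
      have d01 := (key d 0 1).1
      have d10 := (key d 1 0).1
      simp only [← hα, ← hβ, ← hγ, ← hδ, ← hh, hβ0, hγ0, mul_zero, zero_mul, add_zero,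
        zero_add] at d01 d10
      have hh01 : h 0 1 = 0 := by
        have : h 0 1 * (α - δ) = 0 := by linear_combination -d01
        simpa [hαδ] using this
      have hh10 : h 1 0 = 0 := by
        have : h 1 0 * (α - δ) = 0 := by linear_combination d10
        simpa [hαδ] using this
      have r00 := (key d 0 0).2
      have r01 := (key d 0 1).2
      have r10 := (key d 1 0).2
      have r11 := (key d 1 1).2
      simp only [← hα, ← hβ, ← hγ, ← hδ, ← hh, hβ0, hγ0, hh01, hh10, mul_zero, zero_mul, add_zero,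
        zero_add] at r00 r01 r10 r11
      have p0 : f d 0 0 * f d 0 1 = 0 := by
        have : f d 0 0 * f d 0 1 * (α - δ) = 0 := by
          linear_combination -(f d 0 1) * r00 + f d 0 0 * r01
        simpa [hαδ] using this
      have p1 : f d 1 0 * f d 1 1 = 0 := by
        have : f d 1 0 * f d 1 1 * (α - δ) = 0 := by
          linear_combination -(f d 1 1) * r10 + f d 1 0 * r11
        simpa [hαδ] using this
      by_contra hd10
      have hd11 : f d 1 1 = 0 := by simpa [hd10] using p1
      have hdet := det_ne_zero f d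
      rw [hd11, mul_zero, zero_sub] at hdet
      have hd01 : f d 0 1 ≠ 0 := left_ne_zero_of_mul (neg_ne_zero.1 hdet)
      have hd00 : f d 0 0 = 0 := by simpa [hd01] using p0
      refine hd01 (sc_of_sq f hodd ⟨?_, ?_, ?_⟩).1 <;>
        simp only [entry_mul, hd00, hd11, mul_zero, zero_mul, add_zero, zero_add]
      exact mul_comm _ _
    · -- lower shear
      have hαδ : α = δ := by simpa [hγ0, sub_eq_zero] using e3
      refine Or.inl fun d => ?_
      set h := f (d * g * d⁻¹) with hh
      have d00 := (key d 0 0).1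
      simp only [← hα, ← hβ, ← hγ, ← hδ, ← hh, hβ0, mul_zero, zero_mul, add_zero, zero_add] at d00
      have hh01 : h 0 1 = 0 := by
        have : h 0 1 * γ = 0 := by linear_combination d00
        simpa [hγ0] using this
      have r00 := (key d 0 0).2
      have r01 := (key d 0 1).2
      simp only [← hα, ← hβ, ← hγ, ← hδ, ← hh, hβ0, hh01, mul_zero, zero_mul, add_zero,
        zero_add] at r00 r01
      have : f d 0 1 * f d 0 1 * γ = 0 := by
        linear_combination -(f d 0 1) * r00 + f d 0 0 * r01 - f d 0 0 * f d 0 1 * hαδ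
      simpa [hγ0] using this
  · -- upper shear
    have hγ0 : γ = 0 := by simpa [hβ0] using e1
    have hαδ : α = δ := by simpa [hβ0, sub_eq_zero] using e2
    refine Or.inr fun d => ?_
    set h := f (d * g * d⁻¹) with hh
    have d11 := (key d 1 1).1
    simp only [← hα, ← hβ, ← hγ, ← hδ, ← hh, hγ0, mul_zero, zero_mul, add_zero, zero_add] at d11
    have hh10 : h 1 0 = 0 := by
      have : h 1 0 * β = 0 := by linear_combination d11
      simpa [hβ0] using this
    have r10 := (key d 1 0).2
    have r11 := (key d 1 1).2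
    simp only [← hα, ← hβ, ← hγ, ← hδ, ← hh, hγ0, hh10, mul_zero, zero_mul, add_zero,
      zero_add] at r10 r11
    have : f d 1 0 * f d 1 0 * β = 0 := by
      linear_combination -(f d 1 0) * r11 + f d 1 1 * r10 + f d 1 0 * f d 1 1 * hαδ
    simpa [hβ0] using this

end Cfsg.Agent.Lib.BenderOne83.Axis
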