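import Mathlib

/-!
# Bender's theorem, part I, node C2: coordinates in an extraspecial group of order `r^3`
-/

set_option autoImplicit false
set_option linter.style.haveILetI false
set_option linter.unusedSectionVars false

namespace Cfsg.Agent.Lib.BenderOne83.Heis

variable {G : Type*} [Group G] {r : ℕ} [NeZero r]

/-- The element with coordinates `a`, `b`, `c`. -/
def el (r : ℕ) (x i z : G) (a b c : ZMod r) : G := x ^ a.val * i ^ b.val * z ^ c.val

/-- `R` has exponent `r`, is generated by `x`, `i`, `z` with `z = [x, i] ≠ 1` central. -/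
structure IsHeis (r : ℕ) (R : Subgroup G) (x i z : G) : Prop where
  hx : x ∈ R
  hi : i ∈ R
  hz : z ∈ R
  ne : z ≠ 1
  comm : x * i = z * i * x
  cen : ∀ g ∈ R, z * g = g * z
  exp : ∀ g ∈ R, g ^ r = 1
  dec : ∀ g ∈ R, ∃ a b c, g = el r x i z a b c

/-- The first two coordinates. -/
noncomputable def coord (r : ℕ) (x i z : G) (g : G) : ZMod r × ZMod r :=
  Classical.epsilon fun p => ∃ c, g = el r x i z p.1 p.2 c

theorem pow_val_add {g : G} (hg : g ^ r = 1) (a b : ZMod r) :
    g ^ (a + b).val = g ^ a.val * g ^ b.val := by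
  rw [← pow_add, ZMod.val_add, ← pow_eq_pow_mod _ hg]

theorem pow_val_natCast {g : G} (hg : g ^ r = 1) (n : ℕ) : g ^ (n : ZMod r).val = g ^ n := by
  rw [ZMod.val_natCast, ← pow_eq_pow_mod _ hg]

theorem pow_val_eq_one {g : G} [Fact r.Prime] (hg : g ^ r = 1) (hne : g ≠ 1) {a : ZMod r}
    (h : g ^ a.val = 1) : a = 0 := by
  have h1 := orderOf_dvd_of_pow_eq_one h
  rw [orderOf_eq_prime hg hne] at h1
  rw [← ZMod.natCast_zmod_val a, ZMod.natCast_eq_zero_iff]
  exact h1

variable {R : Subgroup G} {x i z : G} (H : IsHeis r R x i z)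
include H

theorem el_mem (a b c : ZMod r) : el r x i z a b c ∈ R :=
  mul_mem (mul_mem (pow_mem H.hx _) (pow_mem H.hi _)) (pow_mem H.hz _)

theorem x_i_pow (m : ℕ) : x * i ^ m = z ^ m * i ^ m * x := by
  induction m with
  | zero => simp
  | succ n ih =>
    calc x * i ^ (n + 1) = x * i ^ n * i := by rw [pow_succ, mul_assoc]
      _ = z ^ n * i ^ n * (x * i) := by rw [ih, mul_assoc]
      _ = z ^ n * (i ^ n * z) * i * x := by rw [H.comm]; group
      _ = z ^ n * (z * i ^ n) * i * x := by rw [H.cen _ (pow_mem H.hi n)]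
      _ = z ^ (n + 1) * i ^ (n + 1) * x := by rw [pow_succ, pow_succ]; group

theorem x_pow_i_pow (n m : ℕ) : x ^ n * i ^ m = z ^ (n * m) * i ^ m * x ^ n := by
  induction n with
  | zero => simp
  | succ k ih =>
    have hc : x * z ^ (k * m) = z ^ (k * m) * x :=
      (Commute.pow_left (show Commute z x from H.cen x H.hx) _).symm
    calc x ^ (k + 1) * i ^ m = x * (x ^ k * i ^ m) := by rw [pow_succ', mul_assoc]
      _ = x * z ^ (k * m) * i ^ m * x ^ k := by rw [ih]; group
      _ = z ^ (k * m) * (x * i ^ m) * x ^ k := by rw [hc]; group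
      _ = z ^ (k * m) * z ^ m * i ^ m * (x * x ^ k) := by rw [x_i_pow H]; group
      _ = z ^ ((k + 1) * m) * i ^ m * x ^ (k + 1) := by
        rw [← pow_add, ← pow_succ', Nat.succ_mul]

theorem i_pow_x_pow (a b : ZMod r) :
    i ^ b.val * x ^ a.val = x ^ a.val * i ^ b.val * z ^ (-(a * b)).val := by
  have h0 : z ^ (a.val * b.val) = z ^ (a * b).val := by
    rw [← pow_val_natCast (H.exp z H.hz) (a.val * b.val), Nat.cast_mul, ZMod.natCast_zmod_val,
      ZMod.natCast_zmod_val]
  have hc : z ^ (-(a * b)).val * (i ^ b.val * x ^ a.val) =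
      i ^ b.val * x ^ a.val * z ^ (-(a * b)).val :=
    Commute.pow_left (H.cen _ (mul_mem (pow_mem H.hi _) (pow_mem H.hx _))) _
  rw [x_pow_i_pow H, h0, mul_assoc (z ^ _), mul_assoc, ← hc, ← mul_assoc,
    ← pow_val_add (H.exp z H.hz), add_neg_cancel, ZMod.val_zero, pow_zero, one_mul]

theorem el_mul (a b c a' b' c' : ZMod r) :
    el r x i z a b c * el r x i z a' b' c' = el r x i z (a + a') (b + b') (c + c' - b * a') := by
  have hz : ∀ (n : ℕ) {g : G}, g ∈ R → z ^ n * g = g * z ^ n := fun n g hg =>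
    Commute.pow_left (H.cen g hg) n
  simp only [el]
  calc x ^ a.val * i ^ b.val * z ^ c.val * (x ^ a'.val * i ^ b'.val * z ^ c'.val)
      = x ^ a.val * i ^ b.val * (z ^ c.val * (x ^ a'.val * i ^ b'.val)) * z ^ c'.val := by group
    _ = x ^ a.val * (i ^ b.val * x ^ a'.val) * i ^ b'.val * (z ^ c.val * z ^ c'.val) := by
      rw [hz _ (mul_mem (pow_mem H.hx _) (pow_mem H.hi _))]; group
    _ = x ^ a.val * x ^ a'.val * i ^ b.val * (z ^ (-(a' * b)).val * i ^ b'.val) *
        (z ^ c.val * z ^ c'.val) := by rw [i_pow_x_pow H]; group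
    _ = (x ^ a.val * x ^ a'.val) * (i ^ b.val * i ^ b'.val) *
        (z ^ (-(a' * b)).val * (z ^ c.val * z ^ c'.val)) := by
      rw [hz _ (pow_mem H.hi _)]; group
    _ = _ := by
      rw [← pow_val_add (H.exp x H.hx), ← pow_val_add (H.exp i H.hi),
        ← pow_val_add (H.exp z H.hz), ← pow_val_add (H.exp z H.hz)]
      congr 3
      ring

omit [NeZero r] H in
theorem el_zero_left [NeZero r] (c : ZMod r) : el r x i z 0 0 c = z ^ c.val := by simp [el]

variable [Fact r.Prime]

theorem el_x : el r x i z 1 0 0 = x := by simp [el, ZMod.val_one]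

theorem el_i : el r x i z 0 1 0 = i := by simp [el, ZMod.val_one]

theorem el_z : el r x i z 0 0 1 = z := by simp [el, ZMod.val_one]

theorem i_mul_el (a b c : ZMod r) :
    i * el r x i z a b c = el r x i z a (1 + b) (c - a) := by
  nth_rw 1 [← el_i H]
  rw [el_mul H]
  simp

theorem el_mul_i (a b c : ZMod r) : el r x i z a b c * i = el r x i z a (b + 1) c := by
  nth_rw 2 [← el_i H]
  rw [el_mul H]
  simp

theorem el_inj {a b c a' b' c' : ZMod r} (h : el r x i z a b c = el r x i z a' b' c') :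
    a = a' ∧ b = b' := by
  have hz : ∀ {k l : ZMod r} (p q : ZMod r), el r x i z p q k = el r x i z p q l → k = l := by
    intro k l p q e
    simp only [el, mul_right_inj] at e
    have h2 : z ^ (k - l).val * z ^ l.val = 1 * z ^ l.val := by
      rw [← pow_val_add (H.exp z H.hz), sub_add_cancel, e, one_mul]
    exact sub_eq_zero.1 (pow_val_eq_one (H.exp z H.hz) H.ne (mul_right_cancel h2))
  constructor
  · have h1 : i * el r x i z a b c = i * el r x i z a' b' c' := by rw [h]
    have h2 : el r x i z a b c * i = el r x i z a' b' c' * i := by rw [h]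
    rw [i_mul_el H, i_mul_el H] at h1
    rw [el_mul_i H, el_mul_i H] at h2
    -- compare with a shift of the last coordinate
    have h3 : el r x i z a' (1 + b') (c' - a') * el r x i z 0 0 a =
        el r x i z a' (b' + 1) c' := by
      rw [← h1, ← h2, el_mul H]
      ring_nf
    rw [el_mul H, add_zero, add_zero, mul_zero, sub_zero, add_comm 1 b'] at h3
    exact (by linear_combination hz _ _ h3)
  · have h1 : x * el r x i z a b c = x * el r x i z a' b' c' := by rw [h]
    have h2 : el r x i z a b c * x = el r x i z a' b' c' * x := by rw [h]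
    nth_rw 1 [← el_x H] at h1
    nth_rw 3 [← el_x H] at h1
    nth_rw 2 [← el_x H] at h2
    nth_rw 4 [← el_x H] at h2
    rw [el_mul H, el_mul H] at h1 h2
    have h3 : el r x i z (a' + 1) (b' + 0) (c' + 0 - b' * 1) * el r x i z 0 0 b =
        el r x i z (1 + a') (0 + b') (0 + c' - 0 * a') := by
      rw [← h1, ← h2, el_mul H]
      ring_nf
    rw [el_mul H] at h3
    simp only [add_zero, zero_add, mul_zero, sub_zero, mul_one, zero_mul, add_comm 1 a'] at h3
    exact (by linear_combination hz _ _ h3)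

theorem coord_el (a b c : ZMod r) : coord r x i z (el r x i z a b c) = (a, b) := by
  obtain ⟨c', hc'⟩ := Classical.epsilon_spec
    (p := fun p : ZMod r × ZMod r => ∃ c', el r x i z a b c = el r x i z p.1 p.2 c') ⟨(a, b), c, rfl⟩
  obtain ⟨h1, h2⟩ := el_inj H hc'
  exact Prod.ext h1.symm h2.symm

theorem eq_el {g : G} (hg : g ∈ R) :
    ∃ c, g = el r x i z (coord r x i z g).1 (coord r x i z g).2 c := by
  obtain ⟨a, b, c, rfl⟩ := H.dec g hg
  exact ⟨c, by rw [coord_el H]⟩

theorem coord_x : coord r x i z x = (1, 0) := by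
  have := coord_el H 1 0 0
  rwa [el_x H] at this

theorem coord_i : coord r x i z i = (0, 1) := by
  have := coord_el H 0 1 0
  rwa [el_i H] at this

theorem coord_z_pow (c : ZMod r) : coord r x i z (z ^ c.val) = 0 := by
  rw [← el_zero_left (x := x) (i := i), coord_el H]
  rfl

theorem coord_mul {g h : G} (hg : g ∈ R) (hh : h ∈ R) :
    coord r x i z (g * h) = coord r x i z g + coord r x i z h := by
  obtain ⟨a, b, c, rfl⟩ := H.dec g hg
  obtain ⟨a', b', c', rfl⟩ := H.dec h hh
  rw [el_mul H, coord_el H, coord_el H, coord_el H]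
  rfl

theorem coord_one : coord r x i z 1 = 0 := by
  have := coord_z_pow H 0
  rwa [ZMod.val_zero, pow_zero] at this

theorem coord_pow {g : G} (hg : g ∈ R) (n : ℕ) :
    coord r x i z (g ^ n) = n • coord r x i z g := by
  induction n with
  | zero => rw [pow_zero, coord_one H, zero_nsmul]
  | succ k ih => rw [pow_succ, coord_mul H (pow_mem hg k) hg, ih, succ_nsmul]

theorem coord_inv {g : G} (hg : g ∈ R) : coord r x i z g⁻¹ = -coord r x i z g := by
  have := coord_mul H (inv_mem hg) hg
  rw [inv_mul_cancel, coord_one H] at this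
  exact eq_neg_of_add_eq_zero_left this.symm

theorem eq_z_pow {g : G} (hg : g ∈ R) (h : coord r x i z g = 0) : ∃ c : ZMod r, g = z ^ c.val := by
  obtain ⟨c, hc⟩ := eq_el H hg
  rw [h] at hc
  exact ⟨c, by rw [hc]; exact el_zero_left c⟩

/-- The commutator of two elements in coordinates. -/
theorem comm_formula {g h : G} (hg : g ∈ R) (hh : h ∈ R) :
    g * h = z ^ ((coord r x i z g).1 * (coord r x i z h).2 -
      (coord r x i z g).2 * (coord r x i z h).1).val * (h * g) := by
  obtain ⟨a, b, c, rfl⟩ := H.dec g hg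
  obtain ⟨a', b', c', rfl⟩ := H.dec h hh
  rw [coord_el H, coord_el H, ← el_zero_left (x := x) (i := i), el_mul H, el_mul H, el_mul H]
  simp only [el]
  congr 3 <;> (simp only [zero_add, zero_mul, sub_zero]; ring)

/-- Conjugation by a normalising element is linear on coordinates. -/
theorem coord_conj {n g : G} (hn : n ∈ Subgroup.normalizer (R : Set G)) (hg : g ∈ R) :
    coord r x i z (n * g * n⁻¹) = (coord r x i z g).1 • coord r x i z (n * x * n⁻¹) +
      (coord r x i z g).2 • coord r x i z (n * i * n⁻¹) := by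
  obtain ⟨a, b, c, rfl⟩ := H.dec g hg
  rw [coord_el H]
  have hc : ∀ {w : G}, w ∈ R → n * w * n⁻¹ ∈ R := fun {w} hw =>
    (Subgroup.mem_normalizer_iff.1 hn w).1 hw
  have hz : coord r x i z (n * z * n⁻¹) = 0 := by
    have e : n * x * n⁻¹ * (n * i * n⁻¹) = n * z * n⁻¹ * (n * i * n⁻¹ * (n * x * n⁻¹)) := by
      calc n * x * n⁻¹ * (n * i * n⁻¹) = n * (x * i) * n⁻¹ := by group
        _ = _ := by rw [H.comm]; group
    have := congrArg (coord r x i z) e
    rw [coord_mul H (hc H.hx) (hc H.hi), coord_mul H (hc H.hz) (mul_mem (hc H.hi) (hc H.hx)),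
      coord_mul H (hc H.hi) (hc H.hx), add_comm (coord r x i z (n * i * n⁻¹))] at this
    simpa using this
  have hsmul : ∀ (k : ZMod r) (v : ZMod r × ZMod r), k.val • v = k • v := fun k v => by
    rw [← Nat.cast_smul_eq_nsmul (ZMod r), ZMod.natCast_zmod_val]
  simp only [el]
  rw [show n * (x ^ a.val * i ^ b.val * z ^ c.val) * n⁻¹ =
      (n * x * n⁻¹) ^ a.val * (n * i * n⁻¹) ^ b.val * (n * z * n⁻¹) ^ c.val by
        simp only [conj_pow]; group,
    coord_mul H (mul_mem (pow_mem (hc H.hx) _) (pow_mem (hc H.hi) _)) (pow_mem (hc H.hz) _),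
    coord_mul H (pow_mem (hc H.hx) _) (pow_mem (hc H.hi) _), coord_pow H (hc H.hx),
    coord_pow H (hc H.hi), coord_pow H (hc H.hz), hz, smul_zero, add_zero, hsmul, hsmul]

end Cfsg.Agent.Lib.BenderOne83.Heis
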