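import Mathlib
import Cfsg.Agent.Lib.Involutions.Basic
import Cfsg.Agent.Lib.BenderOne83.C2.Axis
import Cfsg.Agent.Lib.BenderOne83.C2.Heis

/-!
# Bender's theorem, part I, node C2: no extraspecial group of order `r^3` in the core

A group `D` of odd order with a swapper `u` and a single element centralised by `u` cannot
normalise an extraspecial `r^3` meeting `C(u)` in which all small invariant subgroups are cyclic.
-/

set_option autoImplicit false
set_option linter.style.haveILetI false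
set_option linter.unusedSectionVars false

namespace Cfsg.Agent.Lib.BenderOne83.Extraspecial

open Subgroup Cfsg.Agent.Lib.Involutions.Basic Heis

variable {G : Type*} [Group G] [Finite G]

/-- The conjugates of `u` under `D` centralised by `g`. -/
def centralised (D : Subgroup G) (u g : G) : Set G :=
  {w | (∃ d ∈ D, d * u * d⁻¹ = w) ∧ g * w = w * g}

/-- Conjugation by `n` maps centralised sets to centralised sets. -/
theorem conj_mem_centralised {D : Subgroup G} {u g w n : G} (hn : n ∈ D)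
    (hw : w ∈ centralised D u g) : n * w * n⁻¹ ∈ centralised D u (n * g * n⁻¹) := by
  obtain ⟨⟨d, hd, rfl⟩, hc⟩ := hw
  refine ⟨⟨n * d, mul_mem hn hd, by group⟩, ?_⟩
  calc n * g * n⁻¹ * (n * (d * u * d⁻¹) * n⁻¹) = n * (g * (d * u * d⁻¹)) * n⁻¹ := by group
    _ = _ := by rw [hc]; group

theorem card_centralised_conj {D : Subgroup G} {u g n : G} (hn : n ∈ D) :
    Nat.card (centralised D u (n * g * n⁻¹)) = Nat.card (centralised D u g) := by
  have hback : ∀ {w : G}, w ∈ centralised D u (n * g * n⁻¹) →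
      n⁻¹ * w * n ∈ centralised D u g := by
    intro w hw
    have h := conj_mem_centralised (inv_mem hn) hw
    rwa [show n⁻¹ * (n * g * n⁻¹) * n⁻¹⁻¹ = g by group, inv_inv] at h
  refine Nat.card_congr
    { toFun := fun w => ⟨n⁻¹ * w * n, hback w.2⟩
      invFun := fun w => ⟨n * w * n⁻¹, conj_mem_centralised hn w.2⟩
      left_inv := fun w => Subtype.ext (show n * (n⁻¹ * (w : G) * n) * n⁻¹ = w by group)
      right_inv := fun w => Subtype.ext (show n⁻¹ * (n * (w : G) * n⁻¹) * n = w by group) }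

/-- A `q`-group normalising `⟨g⟩` and centralising no conjugate of `u` but `u` tells by counting
whether `g` centralises `u`. -/
theorem dvd_iff_not_mem {D X : Subgroup G} {u g : G} {q : ℕ} [Fact q.Prime] (hXD : X ≤ D)
    (hX : IsPGroup q X) (hXu : ∀ y ∈ X, y * u = u * y)
    (hn : ∀ y ∈ X, y * g * y⁻¹ ∈ zpowers g)
    (honly : ∀ d ∈ D, (∀ y ∈ X, y * (d * u * d⁻¹) = d * u * d⁻¹ * y) → d * u * d⁻¹ = u) :
    q ∣ Nat.card (centralised D u g) ↔ u ∉ centralised D u g := by
  classical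
  have hmap : ∀ y ∈ X, ∀ w ∈ centralised D u g, y * w * y⁻¹ ∈ centralised D u g := by
    intro y hy w hw
    have hz : zpowers (y * g * y⁻¹) = zpowers g :=
      eq_of_le_of_card_ge (zpowers_le.2 (hn y hy))
        (by rw [Nat.card_zpowers, Nat.card_zpowers, orderOf_conj_eq])
    obtain ⟨h1, h2⟩ := conj_mem_centralised (hXD hy) hw
    have hg : g ∈ zpowers (y * g * y⁻¹) := hz.symm ▸ mem_zpowers g
    obtain ⟨k, hk⟩ := mem_zpowers_iff.1 hg
    refine ⟨h1, ?_⟩
    have h3 := (show Commute (y * g * y⁻¹) (y * w * y⁻¹) from h2).zpow_left k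
    rwa [hk] at h3
  letI : MulAction X (centralised D u g) :=
    { smul := fun y w => ⟨(y : G) * w * (y : G)⁻¹, hmap y y.2 w w.2⟩
      one_smul := fun w => Subtype.ext (show (1 : G) * (w : G) * (1 : G)⁻¹ = w by group)
      mul_smul := fun y y' w => Subtype.ext (show ((y : G) * y') * (w : G) * ((y : G) * y')⁻¹ =
        (y : G) * ((y' : G) * w * (y' : G)⁻¹) * (y : G)⁻¹ by group) }
  have hfix : ∀ w : centralised D u g,
      w ∈ MulAction.fixedPoints X (centralised D u g) ↔ (w : G) = u := by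
    intro w
    constructor
    · intro hw
      obtain ⟨⟨d, hd, hdw⟩, -⟩ := w.2
      rw [← hdw]
      refine honly d hd fun y hy => ?_
      rw [hdw]
      exact mul_inv_eq_iff_eq_mul.1 (congrArg Subtype.val (hw ⟨y, hy⟩))
    · intro hw y
      refine Subtype.ext ?_
      show (y : G) * (w : G) * (y : G)⁻¹ = w
      rw [hw]
      exact mul_inv_eq_iff_eq_mul.2 (hXu y y.2)
  have hmod := hX.card_modEq_card_fixedPoints (centralised D u g)
  constructor
  · intro hd hu
    haveI : Unique (MulAction.fixedPoints X (centralised D u g)) :=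
      { default := ⟨⟨u, hu⟩, (hfix _).2 rfl⟩
        uniq := fun w => Subtype.ext (Subtype.ext ((hfix w.1).1 w.2)) }
    rw [Nat.card_unique (α := MulAction.fixedPoints X (centralised D u g))] at hmod
    exact (Fact.out : q.Prime).one_lt.ne'
      (Nat.dvd_one.1 (Nat.modEq_zero_iff_dvd.1 (hmod.symm.trans (Nat.modEq_zero_iff_dvd.2 hd))))
  · intro hu
    haveI : IsEmpty (MulAction.fixedPoints X (centralised D u g)) := ⟨fun w => hu (by
      have h1 := (hfix w.1).1 w.2
      have h2 := w.1.2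
      rw [h1] at h2
      exact h2)⟩
    rw [Nat.card_of_isEmpty (α := MulAction.fixedPoints X (centralised D u g))] at hmod
    exact Nat.modEq_zero_iff_dvd.1 hmod

variable {D : Subgroup G} {u : G} {r : ℕ} [Fact r.Prime] {R : Subgroup G} {x i z : G}

/-- The subgroup of `R` where one linear coordinate vanishes. -/
def axisSub (H : IsHeis r R x i z) (l : ZMod r × ZMod r →+ ZMod r) : Subgroup G where
  carrier := {g | g ∈ R ∧ l (coord r x i z g) = 0}
  one_mem' := ⟨one_mem R, by rw [coord_one H, map_zero]⟩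
  mul_mem' := fun {a b} ha hb => ⟨mul_mem ha.1 hb.1, by
    rw [coord_mul H ha.1 hb.1, map_add, ha.2, hb.2, add_zero]⟩
  inv_mem' := fun {a} ha => ⟨inv_mem ha.1, by rw [coord_inv H ha.1, map_neg, ha.2, neg_zero]⟩

theorem mem_normalizer_axisSub (H : IsHeis r R x i z) (l : ZMod r × ZMod r →+ ZMod r) {n : G}
    (hn : n ∈ normalizer (R : Set G))
    (h : ∀ g ∈ R, l (coord r x i z g) = 0 → l (coord r x i z (n * g * n⁻¹)) = 0) :
    n ∈ normalizer ((axisSub H l : Subgroup G) : Set G) := by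
  have hmem : ∀ g ∈ axisSub H l, n * g * n⁻¹ ∈ axisSub H l := fun g hg =>
    ⟨(mem_normalizer_iff.1 hn g).1 hg.1, h g hg.1 hg.2⟩
  refine mem_normalizer_iff.2 fun g => ⟨hmem g, fun hg => ?_⟩
  have hsub : (MulAut.conj n) '' (axisSub H l : Set G) = axisSub H l :=
    Set.eq_of_subset_of_ncard_le (by rintro _ ⟨a, ha, rfl⟩; exact hmem a ha)
      (Set.ncard_image_of_injective _ (MulEquiv.injective _)).ge (Set.toFinite _)
  obtain ⟨a, ha, e⟩ : n * g * n⁻¹ ∈ (MulAut.conj n) '' (axisSub H l : Set G) := hsub.symm ▸ hg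
  exact (mul_left_cancel (mul_right_cancel (show n * a * n⁻¹ = n * g * n⁻¹ from e))) ▸ ha

/-- The contradiction from an extraspecial group of order `r^3`. -/
theorem no_heis [Group.IsSolvable D] (hD : Odd (Nat.card D))
    (hr2 : r ≠ 2) (H : IsHeis r R x i z) (hRD : R ≤ D) (hDR : D ≤ normalizer (R : Set G))
    (huR : u ∈ normalizer (R : Set G)) (hxu : u * x * u⁻¹ = x) (hiu : u * i * u⁻¹ = i⁻¹)
    (hsmall : ∀ A : Subgroup G, A ≤ R → D ≤ normalizer (A : Set G) →
      u ∈ normalizer (A : Set G) → (∀ a ∈ A, ∀ b ∈ A, a * b = b * a) →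
      ∀ a ∈ A, a ≠ 1 → ∀ b ∈ A, b ∈ zpowers a)
    (hcyc : ∀ w ∈ D, w * u = u * w → w * z = z * w → w * i = i * w → w = 1)
    (hsingle : ∃ (q : ℕ) (X : Subgroup G), q.Prime ∧ X ≤ D ∧ IsPGroup q X ∧ X ≠ ⊥ ∧
      (∀ y ∈ X, y * u = u * y) ∧
      ∀ d ∈ D, (∀ y ∈ X, y * (d * u * d⁻¹) = d * u * d⁻¹ * y) → d * u * d⁻¹ = u) : False := by
  have h2 : (2 : ZMod r) ≠ 0 := fun h => hr2
    ((Nat.prime_dvd_prime_iff_eq (Fact.out : r.Prime) Nat.prime_two).1
      ((ZMod.natCast_eq_zero_iff 2 r).1 (by exact_mod_cast h)))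
  set π := coord r x i z with hπ
  have hconj : ∀ {n g : G}, n ∈ normalizer (R : Set G) → g ∈ R →
      π (n * g * n⁻¹) = (π g).1 • π (n * x * n⁻¹) + (π g).2 • π (n * i * n⁻¹) :=
    fun hn hg => coord_conj H hn hg
  have hmemR : ∀ {n g : G}, n ∈ normalizer (R : Set G) → g ∈ R → n * g * n⁻¹ ∈ R :=
    fun {n g} hn hg => (mem_normalizer_iff.1 hn g).1 hg
  have hπu : ∀ g ∈ R, π (u * g * u⁻¹) = ((π g).1, -(π g).2) := by
    intro g hg
    rw [hconj huR hg, hxu, hiu, hπ, coord_inv H H.hi, coord_x H, coord_i H]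
    simp
  have hzpow : ∀ {k l : ZMod r}, z ^ k.val = z ^ l.val → k = l := by
    intro k l h
    refine sub_eq_zero.1 (pow_val_eq_one (H.exp z H.hz) H.ne (mul_right_cancel (b := z ^ l.val) ?_))
    rw [← pow_val_add (H.exp z H.hz), sub_add_cancel, h, one_mul]
  have hzc : ∀ (c : ZMod r) {g : G}, g ∈ R → z ^ c.val * g = g * z ^ c.val := fun c g hg =>
    Commute.pow_left (H.cen g hg) _
  -- commutator of conjugates
  have hzconj : ∀ {n : G}, n ∈ normalizer (R : Set G) → n * z * n⁻¹ =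
      z ^ ((π (n * x * n⁻¹)).1 * (π (n * i * n⁻¹)).2 -
        (π (n * x * n⁻¹)).2 * (π (n * i * n⁻¹)).1).val := by
    intro n hn
    have h1 := comm_formula H (hmemR hn H.hx) (hmemR hn H.hi)
    refine mul_right_cancel (b := n * i * n⁻¹ * (n * x * n⁻¹)) ?_
    rw [← h1]
    calc n * z * n⁻¹ * (n * i * n⁻¹ * (n * x * n⁻¹)) = n * (z * i * x) * n⁻¹ := by group
      _ = n * x * n⁻¹ * (n * i * n⁻¹) := by rw [← H.comm]; group
  have hzu : u * z * u⁻¹ ≠ z := by
    intro h
    have h1 := hzconj huR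
    rw [h, hxu, hiu, hπ, coord_inv H H.hi, coord_x H, coord_i H] at h1
    simp only [Prod.neg_mk, neg_zero, mul_zero, sub_zero, one_mul] at h1
    have h3 := hzpow (k := 1) (l := -1) (by rw [ZMod.val_one, pow_one]; exact h1)
    exact h2 (by linear_combination h3)
  -- `D` moves both axes
  have hnox : ∃ d ∈ D, (π (d * x * d⁻¹)).2 ≠ 0 := by
    by_contra hno
    push Not at hno
    let A := axisSub H (AddMonoidHom.snd (ZMod r) (ZMod r))
    have hn : ∀ n ∈ normalizer (R : Set G), (π (n * x * n⁻¹)).2 = 0 →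
        n ∈ normalizer (A : Set G) := fun n hn h => mem_normalizer_axisSub H _ hn
      fun g hg (hg0 : (π g).2 = 0) => show (π (n * g * n⁻¹)).2 = 0 by
        rw [hconj hn hg, hg0]
        simp [h]
    have := hsmall A (fun g hg => hg.1) (fun d hd => hn d (hDR hd) (hno d hd))
      (hn u huR (by rw [hxu, hπ, coord_x H])) (fun a ha b hb => by
        rw [comm_formula H ha.1 hb.1, show (coord r x i z a).2 = 0 from ha.2,
          show (coord r x i z b).2 = 0 from hb.2]
        simp)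
      z ⟨H.hz, by
        have := coord_z_pow H 1
        rw [ZMod.val_one, pow_one] at this
        rw [this, map_zero]⟩ H.ne x ⟨H.hx, by rw [coord_x H]; rfl⟩
    obtain ⟨k, hk⟩ := (mem_powers_iff_mem_zpowers.2 this : x ∈ Submonoid.powers z)
    have h1 : π x = k • π z := by rw [← hk]; exact coord_pow H H.hz k
    have hz0 : π z = 0 := by
      have := coord_z_pow H 1
      rwa [ZMod.val_one, pow_one] at this
    rw [hz0, smul_zero, hπ, coord_x H] at h1
    exact one_ne_zero (congrArg Prod.fst h1)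
  have hnoi : ∃ d ∈ D, (π (d * i * d⁻¹)).1 ≠ 0 := by
    by_contra hno
    push Not at hno
    let A := axisSub H (AddMonoidHom.fst (ZMod r) (ZMod r))
    have hn : ∀ n ∈ normalizer (R : Set G), (π (n * i * n⁻¹)).1 = 0 →
        n ∈ normalizer (A : Set G) := fun n hn h => mem_normalizer_axisSub H _ hn
      fun g hg (hg0 : (π g).1 = 0) => show (π (n * g * n⁻¹)).1 = 0 by
        rw [hconj hn hg, hg0]
        simp [h]
    have := hsmall A (fun g hg => hg.1) (fun d hd => hn d (hDR hd) (hno d hd))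
      (hn u huR (by rw [hiu, hπ, coord_inv H H.hi, coord_i H]; simp)) (fun a ha b hb => by
        rw [comm_formula H ha.1 hb.1, show (coord r x i z a).1 = 0 from ha.2,
          show (coord r x i z b).1 = 0 from hb.2]
        simp)
      z ⟨H.hz, by
        have := coord_z_pow H 1
        rw [ZMod.val_one, pow_one] at this
        rw [this, map_zero]⟩ H.ne i ⟨H.hi, by rw [coord_i H]; rfl⟩
    obtain ⟨k, hk⟩ := (mem_powers_iff_mem_zpowers.2 this : i ∈ Submonoid.powers z)
    have h1 : π i = k • π z := by rw [← hk]; exact coord_pow H H.hz k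
    have hz0 : π z = 0 := by
      have := coord_z_pow H 1
      rwa [ZMod.val_one, pow_one] at this
    rw [hz0, smul_zero, hπ, coord_i H] at h1
    exact one_ne_zero (congrArg Prod.snd h1)
  obtain ⟨q, X, hq, hXD, hX, hX1, hXu, honly⟩ := hsingle
  haveI : Fact q.Prime := ⟨hq⟩
  have hxu' : x * u = u * x := (mul_inv_eq_iff_eq_mul.1 hxu).symm
  have hzmul : ∀ k l : ZMod r, (z ^ k.val) ^ l.val = z ^ (k * l).val := fun k l => by
    rw [← pow_mul, ← pow_val_natCast (H.exp z H.hz) (k.val * l.val), Nat.cast_mul,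
      ZMod.natCast_zmod_val, ZMod.natCast_zmod_val]
  -- `X` fixes both axes
  have hyX : ∀ y ∈ X, u * (y * x * y⁻¹) * u⁻¹ = y * x * y⁻¹ := fun y hy => by
    calc u * (y * x * y⁻¹) * u⁻¹ = (u * y) * x * (u * y)⁻¹ := by group
      _ = y * (u * x * u⁻¹) * y⁻¹ := by rw [← hXu y hy]; group
      _ = _ := by rw [hxu]
  have hyI : ∀ y ∈ X, u * (y * i * y⁻¹) * u⁻¹ = (y * i * y⁻¹)⁻¹ := fun y hy => by
    calc u * (y * i * y⁻¹) * u⁻¹ = (u * y) * i * (u * y)⁻¹ := by group
      _ = y * (u * i * u⁻¹) * y⁻¹ := by rw [← hXu y hy]; group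
      _ = _ := by rw [hiu]; group
  have hX2 : ∀ y ∈ X, (π (y * x * y⁻¹)).2 = 0 := fun y hy => by
    have h1 := congrArg Prod.snd (hπu _ (hmemR (hDR (hXD hy)) H.hx))
    rw [hyX y hy] at h1
    have : (2 : ZMod r) * (π (y * x * y⁻¹)).2 = 0 := by linear_combination h1
    simpa [h2] using this
  have hI1 : ∀ y ∈ X, (π (y * i * y⁻¹)).1 = 0 := fun y hy => by
    have hyR := hDR (hXD hy)
    have h1 := congrArg Prod.fst (hπu _ (hmemR hyR H.hi))
    rw [hyI y hy, hπ, coord_inv H (hmemR hyR H.hi), ← hπ] at h1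
    simp only [Prod.fst_neg] at h1
    have : (2 : ZMod r) * (π (y * i * y⁻¹)).1 = 0 := by linear_combination -h1
    simpa [h2] using this
  by_cases hall : ∀ y ∈ X, (π (y * x * y⁻¹)).1 = (π (y * i * y⁻¹)).2
  swap
  · -- a non-scalar diagonal element
    push Not at hall
    obtain ⟨y, hy, hab⟩ := hall
    let f : D →* Matrix (Fin 2) (Fin 2) (ZMod r) :=
      { toFun := fun d => !![(π (d * x * (d : G)⁻¹)).1, (π (d * i * (d : G)⁻¹)).1;
          (π (d * x * (d : G)⁻¹)).2, (π (d * i * (d : G)⁻¹)).2]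
        map_one' := by
          simp [hπ, coord_x H, coord_i H, Matrix.one_fin_two]
        map_mul' := fun d e => by
          have h : ∀ g ∈ R, π (((d * e : D) : G) * g * ((d * e : D) : G)⁻¹) =
              (π (e * g * (e : G)⁻¹)).1 • π (d * x * (d : G)⁻¹) +
                (π (e * g * (e : G)⁻¹)).2 • π (d * i * (d : G)⁻¹) := by
            intro g hg
            rw [← hconj (hDR d.2) (hmemR (hDR e.2) hg)]
            push_cast
            group
          rw [h x H.hx, h i H.hi, Matrix.mul_fin_two]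
          simp only [Prod.fst_add, Prod.snd_add, Prod.smul_fst, Prod.smul_snd, smul_eq_mul]
          simp [mul_comm] }
    rcases Axis.fixes_axis f hD (y := ⟨y, hXD hy⟩) (hI1 y hy) (hX2 y hy) hab with h | h
    · obtain ⟨d, hd, hne⟩ := hnoi
      exact hne (h ⟨d, hd⟩)
    · obtain ⟨d, hd, hne⟩ := hnox
      exact hne (h ⟨d, hd⟩)
  -- `X` is scalar on `R / ⟨z⟩`
  set sc : G → ZMod r := fun y => (π (y * x * y⁻¹)).1 with hsc
  have hscal : ∀ y ∈ X, ∀ g ∈ R, π (y * g * y⁻¹) = sc y • π g := by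
    intro y hy g hg
    rw [hconj (hDR (hXD hy)) hg]
    ext <;> simp [hI1 y hy, hX2 y hy, hsc, ← hall y hy, mul_comm]
  have ha0 : ∀ y ∈ X, sc y ≠ 0 := by
    intro y hy h
    have hyR := hDR (hXD hy)
    have h1 : π (y * x * y⁻¹) = 0 := Prod.ext h (hX2 y hy)
    have h3 : π (y⁻¹ * (y * x * y⁻¹) * y⁻¹⁻¹) = 0 := by
      rw [hconj (inv_mem hyR) (hmemR hyR H.hx), h1]
      simp
    rw [show y⁻¹ * (y * x * y⁻¹) * y⁻¹⁻¹ = x by group, hπ, coord_x H] at h3
    exact one_ne_zero (congrArg Prod.fst h3)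
  have hyz : ∀ y ∈ X, y * z * y⁻¹ = z ^ (sc y * sc y).val := by
    intro y hy
    rw [hzconj (hDR (hXD hy)), hX2 y hy, hI1 y hy, ← hall y hy]
    simp [hsc]
  have hya : ∀ y ∈ X, ∀ g ∈ R, ∃ c : ZMod r, y * g * y⁻¹ = g ^ (sc y).val * z ^ c.val := by
    intro y hy g hg
    have hyR := hDR (hXD hy)
    obtain ⟨c, hc⟩ := eq_z_pow H (mul_mem (inv_mem (pow_mem hg (sc y).val)) (hmemR hyR hg)) (by
      rw [coord_mul H (inv_mem (pow_mem hg _)) (hmemR hyR hg), coord_inv H (pow_mem hg _),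
        coord_pow H hg, ← hπ, hscal y hy g hg, ← Nat.cast_smul_eq_nsmul (ZMod r),
        ZMod.natCast_zmod_val, neg_add_cancel])
    exact ⟨c, by rw [← hc, mul_inv_cancel_left]⟩
  have hyx : ∀ y ∈ X, y * x * y⁻¹ = x ^ (sc y).val := by
    intro y hy
    obtain ⟨c', hc'⟩ := hya y hy x H.hx
    have h1 : u * (y * x * y⁻¹) * u⁻¹ = x ^ (sc y).val * (u * z * u⁻¹) ^ c'.val := by
      calc u * (y * x * y⁻¹) * u⁻¹ = (u * x * u⁻¹) ^ (sc y).val * (u * z * u⁻¹) ^ c'.val := by
            rw [hc', conj_pow, conj_pow]; group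
        _ = _ := by rw [hxu]
    have h4 := hzconj huR
    rw [hxu, hiu, hπ, coord_inv H H.hi, coord_x H, coord_i H] at h4
    simp only [Prod.neg_mk, neg_zero, mul_zero, sub_zero, one_mul] at h4
    rw [hyX y hy, hc', h4, hzmul] at h1
    have h5 := hzpow (mul_left_cancel h1)
    have h6 : c' = 0 := by
      have : (2 : ZMod r) * c' = 0 := by linear_combination h5
      simpa [h2] using this
    rw [hc', h6, ZMod.val_zero, pow_zero, mul_one]
  by_cases hone : ∀ y ∈ X, sc y = 1
  · -- `X` centralises `R / ⟨z⟩`: it is generated by `x`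
    have hle : X ≤ zpowers x := by
      intro y hy
      obtain ⟨c, hc⟩ := hya y hy i H.hi
      rw [hone y hy, ZMod.val_one, pow_one] at hc
      have hyx1 : y * x * y⁻¹ = x := by rw [hyx y hy, hone y hy, ZMod.val_one, pow_one]
      have hyz1 : y * z * y⁻¹ = z := by rw [hyz y hy, hone y hy, one_mul, ZMod.val_one, pow_one]
      have hxc : x ^ c.val * i * (x ^ c.val)⁻¹ = i * z ^ c.val := by
        rw [mul_inv_eq_iff_eq_mul, ← pow_one i, x_pow_i_pow H, mul_one, pow_one, hzc c H.hi]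
      have hy' : (x ^ c.val)⁻¹ * y = 1 := by
        refine hcyc _ (mul_mem (inv_mem (pow_mem (hRD H.hx) _)) (hXD hy)) ?_ ?_ ?_
        · exact ((Commute.pow_left hxu' _).inv_left.mul_left (hXu y hy)).eq
        · exact ((Commute.pow_left (show Commute x z from (H.cen x H.hx).symm) _).inv_left.mul_left
            (mul_inv_eq_iff_eq_mul.1 hyz1)).eq
        · refine mul_inv_eq_iff_eq_mul.1 ?_
          calc (x ^ c.val)⁻¹ * y * i * ((x ^ c.val)⁻¹ * y)⁻¹
              = (x ^ c.val)⁻¹ * (y * i * y⁻¹) * x ^ c.val := by group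
            _ = (x ^ c.val)⁻¹ * (x ^ c.val * i * (x ^ c.val)⁻¹) * x ^ c.val := by rw [hc, hxc]
            _ = i := by group
      rw [← inv_mul_eq_one.1 hy']
      exact pow_mem (mem_zpowers x) _
    refine hzu (mul_inv_eq_iff_eq_mul.2 (mul_inv_eq_iff_eq_mul.1 (honly z (hRD H.hz) ?_)).symm)
    intro y hy
    obtain ⟨k, rfl⟩ := mem_zpowers_iff.1 (hle hy)
    have hzx : Commute x z := (H.cen x H.hx).symm
    exact (((hzx.mul_right hxu').mul_right hzx.inv_right).zpow_left k).eq
  -- some element of `X` moves `R / ⟨z⟩`, so `q ≠ r`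
  have hqr : q ≠ r := by
    rintro rfl
    refine hone fun y hy => ?_
    obtain ⟨n, hn⟩ := hX ⟨y, hy⟩
    have hn' : y ^ q ^ n = 1 := congrArg Subtype.val hn
    have hit : ∀ k : ℕ, π (y ^ k * x * (y ^ k)⁻¹) = sc y ^ k • π x := by
      intro k
      induction k with
      | zero => simp
      | succ k ih =>
        rw [show y ^ (k + 1) * x * (y ^ (k + 1))⁻¹ = y * (y ^ k * x * (y ^ k)⁻¹) * y⁻¹ by
              rw [pow_succ']; group,
          hscal y hy _ (hmemR (pow_mem (hDR (hXD hy)) k) H.hx), ih, smul_smul, pow_succ']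
    have h1 := congrArg Prod.fst (hit (q ^ n))
    rw [hn', one_mul, inv_one, mul_one, hπ, coord_x H, Prod.smul_fst, smul_eq_mul, mul_one,
      ZMod.pow_card_pow] at h1
    exact h1.symm
  obtain ⟨d, hd, hd0⟩ := hnox
  set h₀ := d * x * d⁻¹ with hh₀
  have hh₀R : h₀ ∈ R := hmemR (hDR hd) H.hx
  -- the complements to `⟨z⟩` in `⟨h₀, z⟩`
  let f : ZMod r → Subgroup G := fun j => zpowers (h₀ * z ^ j.val)
  have hmemj : ∀ j : ZMod r, h₀ * z ^ j.val ∈ R := fun j => mul_mem hh₀R (pow_mem H.hz _)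
  have hπj : ∀ j : ZMod r, π (h₀ * z ^ j.val) = π h₀ := fun j => by
    rw [hπ, coord_mul H hh₀R (pow_mem H.hz _), coord_z_pow H, add_zero]
  have hinj : Function.Injective f := by
    intro j k h
    have hk : h₀ * z ^ k.val ∈ zpowers (h₀ * z ^ j.val) := by
      have := mem_zpowers (h₀ * z ^ k.val)
      rwa [show zpowers (h₀ * z ^ k.val) = zpowers (h₀ * z ^ j.val) from h.symm] at this
    obtain ⟨n, hn⟩ := (mem_powers_iff_mem_zpowers.2 hk : _ ∈ Submonoid.powers (h₀ * z ^ j.val))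
    have h1 := congrArg π hn
    rw [hπ, coord_pow H (hmemj j), ← hπ, hπj, hπj] at h1
    have h3 := congrArg Prod.snd h1
    simp only [Prod.smul_snd] at h3
    rw [nsmul_eq_mul, mul_eq_right₀ hd0] at h3
    simp only at hn
    rw [(show Commute h₀ (z ^ j.val) from (hzc j hh₀R).symm).mul_pow, ← pow_val_natCast
      (H.exp h₀ hh₀R), h3, ZMod.val_one, pow_one, ← pow_val_natCast (H.exp _ (pow_mem H.hz _)),
      h3, ZMod.val_one, pow_one] at hn
    exact hzpow (mul_left_cancel hn)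
  have hmove : ∀ y ∈ X, ∀ j : ZMod r, ∃ k : ZMod r,
      (f j).map (MulAut.conj y).toMonoidHom = f k := by
    intro y hy j
    obtain ⟨c, hc⟩ := hya y hy _ (hmemj j)
    set a := sc y
    refine ⟨(c + j * a) / a, ?_⟩
    rw [MonoidHom.map_zpowers]
    show zpowers (y * (h₀ * z ^ j.val) * y⁻¹) = zpowers (h₀ * z ^ ((c + j * a) / a).val)
    have hka : ((c + j * a) / a) * a = c + j * a := div_mul_cancel₀ _ (ha0 y hy)
    have e : y * (h₀ * z ^ j.val) * y⁻¹ = (h₀ * z ^ ((c + j * a) / a).val) ^ a.val := by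
      rw [hc, (show Commute h₀ (z ^ j.val) from (hzc j hh₀R).symm).mul_pow,
        (show Commute h₀ (z ^ ((c + j * a) / a).val) from (hzc _ hh₀R).symm).mul_pow, hzmul,
        hzmul, hka, pow_val_add (H.exp z H.hz), mul_assoc, (Commute.refl z).pow_pow]
    refine eq_of_le_of_card_ge (zpowers_le.2 (e ▸ pow_mem (mem_zpowers _) _)) ?_
    rw [Nat.card_zpowers, Nat.card_zpowers, orderOf_conj_eq]
    refine le_of_eq ?_
    have hne : ∀ k : ZMod r, h₀ * z ^ k.val ≠ 1 := fun k h => hd0 (by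
      have h5 := hπj k
      rw [h, hπ, coord_one H] at h5
      exact (congrArg Prod.snd h5).symm)
    rw [orderOf_eq_prime (H.exp _ (hmemj _)) (hne _), orderOf_eq_prime (H.exp _ (hmemj _)) (hne _)]
  letI : MulAction X (Set.range f) :=
    { smul := fun y S => ⟨S.1.map (MulAut.conj (y : G)).toMonoidHom, by
        obtain ⟨j, hj⟩ := S.2
        obtain ⟨k, hk⟩ := hmove y y.2 j
        exact ⟨k, by rw [← hj, hk]⟩⟩
      one_smul := fun S => Subtype.ext (by
        show S.1.map (MulAut.conj (1 : G)).toMonoidHom = S.1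
        ext g; simp)
      mul_smul := fun y y' S => Subtype.ext (by
        show S.1.map (MulAut.conj ((y : G) * y')).toMonoidHom =
          (S.1.map (MulAut.conj (y' : G)).toMonoidHom).map (MulAut.conj (y : G)).toMonoidHom
        rw [Subgroup.map_map]
        congr 1
        ext g
        simp [mul_assoc]) }
  obtain ⟨⟨S, j, rfl⟩, hS⟩ : (MulAction.fixedPoints X (Set.range f)).Nonempty :=
    hX.nonempty_fixed_point_of_prime_not_dvd_card _ fun h => by
      rw [Nat.card_congr (Equiv.ofInjective f hinj).symm, Nat.card_zmod] at h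
      exact hqr ((Nat.prime_dvd_prime_iff_eq hq (Fact.out : r.Prime)).1 h)
  set h := h₀ * z ^ j.val with hhdef
  have hhR : h ∈ R := hmemj j
  have hyh : ∀ y ∈ X, y * h * y⁻¹ ∈ zpowers h := by
    intro y hy
    have h1 : (f j).map (MulAut.conj y).toMonoidHom = f j := congrArg Subtype.val (hS ⟨y, hy⟩)
    have h3 : y * h * y⁻¹ ∈ (f j).map (MulAut.conj y).toMonoidHom := ⟨h, mem_zpowers h, rfl⟩
    rwa [h1] at h3
  obtain ⟨k, hk⟩ : ∃ k : ZMod r, d⁻¹ * z ^ j.val * d = z ^ k.val := by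
    have h1 : π (d⁻¹ * z ^ j.val * d⁻¹⁻¹) = 0 := by
      rw [hconj (inv_mem (hDR hd)) (pow_mem H.hz _), hπ, coord_z_pow H]
      simp
    rw [inv_inv] at h1
    refine eq_z_pow H ?_ h1
    have := hmemR (inv_mem (hDR hd)) (pow_mem H.hz j.val)
    rwa [inv_inv] at this
  -- `h` is a `D`-conjugate of `x`
  set E := el r x i z 0 (-k) 0 with hE
  have hER : E ∈ R := el_mem H _ _ _
  have hEx : E * x * E⁻¹ = x * z ^ k.val := by
    rw [mul_inv_eq_iff_eq_mul]
    have e1 : x * z ^ k.val = el r x i z 1 0 k := by simp [el, ZMod.val_one]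
    rw [e1]
    nth_rw 1 [← el_x H]
    rw [hE, el_mul H, el_mul H]
    simp
  have hconjh : d * E * x * (d * E)⁻¹ = h := by
    calc d * E * x * (d * E)⁻¹ = d * (E * x * E⁻¹) * d⁻¹ := by group
      _ = d * x * d⁻¹ * (d * (d⁻¹ * z ^ j.val * d) * d⁻¹) := by rw [hEx, hk]; group
      _ = h := by rw [hhdef, hh₀]; group
  have hcard := card_centralised_conj (u := u) (g := x) (mul_mem hd (hRD hER))
  rw [hconjh] at hcard
  have hmemu : u ∈ centralised D u x := ⟨⟨1, one_mem D, by group⟩, hxu'⟩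
  refine (dvd_iff_not_mem hXD hX hXu
    (fun y hy => by rw [hyx y hy]; exact pow_mem (mem_zpowers x) _) honly).1
    (hcard ▸ (dvd_iff_not_mem hXD hX hXu hyh honly).2 ?_) hmemu
  intro hmem
  have h1 := congrArg Prod.snd (hπu h hhR)
  rw [mul_inv_eq_iff_eq_mul.2 hmem.2.symm] at h1
  have h3 : (π h).2 = 0 := by
    have : (2 : ZMod r) * (π h).2 = 0 := by linear_combination h1
    simpa [h2] using this
  rw [hhdef, hπj] at h3
  exact hd0 h3

end Cfsg.Agent.Lib.BenderOne83.Extraspecial
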