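import Mathlib
import Cfsg.Agent.Lib.Cores.Basic
import Cfsg.Agent.Lib.PGroups.UniqueInvolution
import Cfsg.Agent.Lib.BenderOne83.C2.Inverted
import Cfsg.Agent.Lib.BenderOne83.C2.Extraspecial

/-!
# Bender's theorem, part I, node C2: the inverted elements form an abelian normal subgroup

Step (i) of note N4: `D` of odd order, `u` a swapper with fixed subgroup `C_D(u)` containing a
single element; elementary abelian invariant subgroups meet `C(u)` trivially and inverted elements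
of prime order centralised by a common fixed element are cyclic.
-/

set_option autoImplicit false
set_option linter.style.haveILetI false
set_option linter.unusedSectionVars false

namespace Cfsg.Agent.Lib.BenderOne83.KAbelian

open Subgroup Cfsg.Agent.Lib.Involutions.Basic
open scoped commutatorElement

variable {G : Type*} [Group G]

theorem mul_pow_of_comm {g h c : G} (e : h * g = c * g * h) (hcg : c * g = g * c)
    (hch : c * h = h * c) (n : ℕ) : (g * h) ^ n = g ^ n * h ^ n * c ^ n.choose 2 := by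
  have hgpow : ∀ m : ℕ, h ^ m * g = g * h ^ m * c ^ m := by
    intro m
    induction m with
    | zero => simp
    | succ k ih =>
      calc h ^ (k + 1) * g = h ^ k * (h * g) := by rw [pow_succ, mul_assoc]
        _ = h ^ k * (g * h * c) := by rw [e, mul_assoc c, (Commute.mul_right hcg hch).eq]
        _ = g * h ^ k * (c ^ k * h) * c := by rw [← mul_assoc, ← mul_assoc, ih]; group
        _ = g * h ^ (k + 1) * c ^ (k + 1) := by
          rw [(Commute.pow_left (show Commute c h from hch) k).eq, pow_succ, pow_succ]; group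
  induction n with
  | zero => simp
  | succ k ih =>
    have hcgh : Commute (c ^ k.choose 2) (g * h) :=
      (Commute.mul_right hcg hch).pow_left _
    calc (g * h) ^ (k + 1) = g ^ k * h ^ k * (c ^ k.choose 2 * (g * h)) := by
          rw [pow_succ, ih]; group
      _ = g ^ k * (h ^ k * g) * h * c ^ k.choose 2 := by rw [hcgh.eq]; group
      _ = g ^ k * g * h ^ k * (c ^ k * h) * c ^ k.choose 2 := by rw [hgpow]; group
      _ = g ^ (k + 1) * h ^ (k + 1) * (c ^ k * c ^ k.choose 2) := by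
        rw [(Commute.pow_left (show Commute c h from hch) k).eq, pow_succ, pow_succ]; group
      _ = _ := by rw [← pow_add, Nat.choose_succ_succ, Nat.choose_one_right]

/-- The central elements of exponent `r` of a subgroup. -/
def zOne (R : Subgroup G) (r : ℕ) : Subgroup G where
  carrier := {g | g ∈ R ∧ g ^ r = 1 ∧ ∀ h ∈ R, g * h = h * g}
  one_mem' := ⟨one_mem R, one_pow r, fun h _ => by group⟩
  mul_mem' := fun {a b} ha hb => ⟨mul_mem ha.1 hb.1,
    by rw [(show Commute a b from ha.2.2 b hb.1).mul_pow, ha.2.1, hb.2.1, one_mul],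
    fun h hh => (Commute.mul_left (ha.2.2 h hh) (hb.2.2 h hh)).eq⟩
  inv_mem' := fun {a} ha => ⟨inv_mem ha.1, by rw [inv_pow, ha.2.1, inv_one],
    fun h hh => (show Commute a h from ha.2.2 h hh).inv_left.eq⟩

/-- The elements of exponent `r` with all commutators in `zOne R r`. -/
def zTwo (R : Subgroup G) {r : ℕ} (hr : r.Prime) (hr2 : r ≠ 2) : Subgroup G where
  carrier := {g | g ∈ R ∧ g ^ r = 1 ∧ ∀ h ∈ R, g * h * g⁻¹ * h⁻¹ ∈ zOne R r}
  one_mem' := ⟨one_mem R, one_pow r, fun h _ => by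
    rw [show (1 : G) * h * 1⁻¹ * h⁻¹ = 1 by group]; exact one_mem _⟩
  mul_mem' := fun {a b} ha hb => by
    have hc := hb.2.2 a ha.1
    refine ⟨mul_mem ha.1 hb.1, ?_, fun h hh => ?_⟩
    · have e : b * a = (b * a * b⁻¹ * a⁻¹) * a * b := by group
      rw [mul_pow_of_comm e (hc.2.2 a ha.1) (hc.2.2 b hb.1), ha.2.1, hb.2.1, one_mul, one_mul]
      obtain ⟨k, hk⟩ := hr.dvd_choose_self (k := 2) (by norm_num) (lt_of_le_of_ne hr.two_le hr2.symm)
      rw [hk, pow_mul, hc.2.1, one_pow]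
    · have h2 := hb.2.2 h hh
      rw [show a * b * h * (a * b)⁻¹ * h⁻¹ = a * (b * h * b⁻¹ * h⁻¹) * (h * a⁻¹ * h⁻¹) by group,
        ← h2.2.2 a ha.1, mul_assoc,
        show a * (h * a⁻¹ * h⁻¹) = a * h * a⁻¹ * h⁻¹ by group]
      exact mul_mem h2 (ha.2.2 h hh)
  inv_mem' := fun {a} ha => by
    refine ⟨inv_mem ha.1, by rw [inv_pow, ha.2.1, inv_one], fun h hh => ?_⟩
    have h2 := inv_mem (ha.2.2 h hh)
    rw [show a⁻¹ * h * a⁻¹⁻¹ * h⁻¹ = a⁻¹ * (a * h * a⁻¹ * h⁻¹)⁻¹ * a by group,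
      mul_assoc a⁻¹, h2.2.2 a ha.1, inv_mul_cancel_left]
    exact h2

theorem mem_normalizer_zOne {R : Subgroup G} {r : ℕ} {n : G} (hn : n ∈ normalizer (R : Set G)) :
    n ∈ normalizer ((zOne R r : Subgroup G) : Set G) := by
  have key : ∀ {n g : G}, n ∈ normalizer (R : Set G) → g ∈ zOne R r →
      n * g * n⁻¹ ∈ zOne R r := by
    intro n g hn hg
    refine ⟨(mem_normalizer_iff.1 hn g).1 hg.1, by rw [conj_pow, hg.2.1, mul_one, mul_inv_cancel],
      fun h hh => ?_⟩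
    have h1 := hg.2.2 _ ((mem_normalizer_iff''.1 hn h).1 hh)
    calc n * g * n⁻¹ * h = n * (g * (n⁻¹ * h * n)) * n⁻¹ := by group
      _ = h * (n * g * n⁻¹) := by rw [h1]; group
  refine mem_normalizer_iff.2 fun g => ⟨key hn, fun hg => ?_⟩
  have h := key (inv_mem hn) hg
  rwa [show n⁻¹ * (n * g * n⁻¹) * n⁻¹⁻¹ = g by group] at h

theorem mem_normalizer_zTwo {R : Subgroup G} {r : ℕ} {hr : r.Prime} {hr2 : r ≠ 2} {n : G}
    (hn : n ∈ normalizer (R : Set G)) :
    n ∈ normalizer ((zTwo R hr hr2 : Subgroup G) : Set G) := by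
  have key : ∀ {n g : G}, n ∈ normalizer (R : Set G) → g ∈ zTwo R hr hr2 →
      n * g * n⁻¹ ∈ zTwo R hr hr2 := by
    intro n g hn hg
    refine ⟨(mem_normalizer_iff.1 hn g).1 hg.1, by rw [conj_pow, hg.2.1, mul_one, mul_inv_cancel],
      fun h hh => ?_⟩
    have h1 := (mem_normalizer_iff.1 (mem_normalizer_zOne (r := r) hn) _).1
      (hg.2.2 _ ((mem_normalizer_iff''.1 hn h).1 hh))
    rwa [show n * (g * (n⁻¹ * h * n) * g⁻¹ * (n⁻¹ * h * n)⁻¹) * n⁻¹ =
      n * g * n⁻¹ * h * (n * g * n⁻¹)⁻¹ * h⁻¹ by group] at h1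
  refine mem_normalizer_iff.2 fun g => ⟨key hn, fun hg => ?_⟩
  have h := key (inv_mem hn) hg
  rwa [show n⁻¹ * (n * g * n⁻¹) * n⁻¹⁻¹ = g by group] at h

variable [Finite G]

/-- A normal elementary abelian subgroup of order `r^2` of an `r`-group has central commutators. -/
theorem commutator_mem_center {P : Type*} [Group P] [Finite P] {r : ℕ} [Fact r.Prime]
    (hP : IsPGroup r P) (E : Subgroup P) [E.Normal] (hE : Nat.card E = r ^ 2) {g : P} (hg : g ∈ E)
    (h : P) : g * h * g⁻¹ * h⁻¹ ∈ E ∧ g * h * g⁻¹ * h⁻¹ ∈ center P := by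
  have hle : ⁅E, (⊤ : Subgroup P)⁆ ≤ E := Subgroup.commutator_le_left E ⊤
  have hmem : g * h * g⁻¹ * h⁻¹ ∈ ⁅E, (⊤ : Subgroup P)⁆ :=
    commutator_mem_commutator hg (mem_top h)
  haveI : Group.IsNilpotent P := hP.isNilpotent
  have hlt : ⁅E, (⊤ : Subgroup P)⁆ ≠ E := by
    intro e
    have hall : ∀ n, E ≤ Subgroup.lowerCentralSeries (⊤ : Subgroup P) n := by
      intro n
      induction n with
      | zero => exact le_top
      | succ k ih => rw [← e]; exact commutator_mono ih le_rfl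
    obtain ⟨n, hn⟩ := Subgroup.nilpotent_iff_lowerCentralSeries.1 this
    have h1 : E = ⊥ := le_bot_iff.1 (hn ▸ hall n)
    rw [h1, Subgroup.card_bot] at hE
    exact (Nat.one_lt_pow two_ne_zero (Fact.out : r.Prime).one_lt).ne hE
  obtain ⟨k, hk, hkeq⟩ := (Nat.dvd_prime_pow (Fact.out : r.Prime)).1 (hE ▸ card_dvd_of_le hle)
  refine ⟨hle hmem, ?_⟩
  have hk2 : k < 2 := lt_of_le_of_ne hk fun e =>
    hlt (eq_of_le_of_card_ge hle (by rw [hkeq, hE, e]))
  rcases (show k = 0 ∨ k = 1 by omega) with rfl | rfl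
  · rw [pow_zero, Subgroup.card_eq_one] at hkeq
    rw [hkeq, mem_bot] at hmem
    rw [hmem]
    exact one_mem _
  · rw [pow_one] at hkeq
    exact PGroups.le_center_of_normal_card_prime hP _ hkeq hmem

/-- **Step (i) of N4.** The elements of `D` inverted by the swapper form an abelian normal
subgroup. -/
theorem exists_abelian_normal {D : Subgroup G} [Group.IsSolvable D] {u : G}
    (hD : Odd (Nat.card D)) (hu : orderOf u = 2) (huD : u ∈ normalizer (D : Set G))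
    (hcyc : ∀ x ∈ D, x * u = u * x → x ≠ 1 → ∀ r : ℕ, r.Prime → ∀ k ∈ D, ∀ l ∈ D,
      orderOf k = r → orderOf l = r → u * k * u⁻¹ = k⁻¹ → u * l * u⁻¹ = l⁻¹ →
      x * k = k * x → x * l = l * x → k * l = l * k → l ∈ zpowers k)
    (hedge : ∀ (r : ℕ) (A : Subgroup G), r.Prime → A ≤ D → D ≤ normalizer (A : Set G) →
      u ∈ normalizer (A : Set G) → (∀ a ∈ A, ∀ b ∈ A, a * b = b * a) → (∀ a ∈ A, a ^ r = 1) →
      ∀ a ∈ A, u * a = a * u → a = 1)
    (hsingle : ∃ (q : ℕ) (X : Subgroup G), q.Prime ∧ X ≤ D ∧ IsPGroup q X ∧ X ≠ ⊥ ∧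
      (∀ y ∈ X, y * u = u * y) ∧
      ∀ d ∈ D, (∀ y ∈ X, y * (d * u * d⁻¹) = d * u * d⁻¹ * y) → d * u * d⁻¹ = u) :
    ∃ K : Subgroup G, K ≤ D ∧ D ≤ normalizer (K : Set G) ∧ u ∈ normalizer (K : Set G) ∧
      (∀ k ∈ K, u * k * u⁻¹ = k⁻¹) ∧ (∀ a ∈ K, ∀ b ∈ K, a * b = b * a) ∧
      ∀ k ∈ D, u * k * u⁻¹ = k⁻¹ → k ∈ K := by
  set F : Subgroup G := (fittingSubgroup D).map D.subtype with hFdef
  have hFD : F ≤ D := map_subtype_le _
  by_cases hF : ∀ c ∈ F, u * c = c * u → c = 1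
  · -- the Fitting subgroup is inverted
    have huF : u ∈ normalizer (F : Set G) := Inverted.le_normalizer_map_char _ huD
    refine Inverted.exists_inverted_normal hD hu huD hFD
      (le_normalizer.trans (Inverted.le_normalizer_map_char _)) huF
      (fun c hc => Inverted.all_inverted (hD.of_dvd_nat (card_dvd_of_le hFD)) hu huF hF hc) ?_
    intro y hy hyu hyc
    refine hF y ⟨⟨y, hy⟩, Cores.centralizer_fittingSubgroup_le
      (mem_centralizer_iff.2 fun c hc => Subtype.ext (hyc c ⟨c, hc, rfl⟩)), rfl⟩ hyu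
  push Not at hF
  obtain ⟨_, ⟨y, hyF, rfl⟩, hyu, hy1⟩ := hF
  rw [coe_subtype] at hyu hy1
  -- an element of prime order `r` of `F(D)` fixed by `u`
  obtain ⟨r, hr, hrd⟩ := Nat.exists_prime_and_dvd (mt orderOf_eq_one_iff.1 hy1)
  haveI : Fact r.Prime := ⟨hr⟩
  obtain ⟨m, hm⟩ := hrd
  set x₀ : D := y ^ m with hx₀
  have hmdvd : m ∣ orderOf (y : G) := hm ▸ dvd_mul_left m r
  have hm0 : m ≠ 0 := fun h => by
    rw [h, mul_zero] at hm
    exact (orderOf_pos (y : G)).ne' hm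
  have hx₀o : orderOf (x₀ : G) = r := by
    rw [hx₀, coe_pow, orderOf_pow_of_dvd hm0 hmdvd, hm, Nat.mul_div_cancel _ (Nat.pos_of_ne_zero hm0)]
  have hx₀F : x₀ ∈ fittingSubgroup D := pow_mem hyF m
  have hx₀u : (x₀ : G) * u = u * (x₀ : G) := by
    rw [hx₀, coe_pow]
    exact (Commute.pow_left (show Commute (y : G) u from hyu.symm) m).eq
  have hx₀R : x₀ ∈ pCore r D := by
    let N := fittingSubgroup D
    haveI hNnil : Group.IsNilpotent N := Cores.fittingSubgroup_isNilpotent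
    have hp : IsPGroup r (zpowers (⟨x₀, hx₀F⟩ : N)) := IsPGroup.of_card (n := 1)
      (by rw [Nat.card_zpowers, pow_one, ← Subgroup.orderOf_coe, ← Subgroup.orderOf_coe]
          exact hx₀o)
    obtain ⟨P, hP⟩ := hp.exists_le_sylow
    haveI : (P : Subgroup N).Normal := inferInstance
    haveI := P.characteristic_of_normal this
    haveI := Cores.normal_map_subtype N (P : Subgroup N)
    exact Cores.le_pCore (P.isPGroup'.map N.subtype) ⟨⟨x₀, hx₀F⟩, hP (mem_zpowers _), rfl⟩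
  set R : Subgroup G := (pCore r D).map D.subtype with hRdef
  have hRD : R ≤ D := map_subtype_le _
  have hDR : D ≤ normalizer (R : Set G) :=
    le_normalizer.trans (Inverted.le_normalizer_map_char _)
  have huR : u ∈ normalizer (R : Set G) := Inverted.le_normalizer_map_char _ huD
  have hRr : IsPGroup r R := (Cores.pCore_isPGroup r).map _
  have hxR : (x₀ : G) ∈ R := ⟨x₀, hx₀R, rfl⟩
  have hx1 : (x₀ : G) ≠ 1 := fun h => hr.ne_one (by rw [← hx₀o, h, orderOf_one])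
  have hr2 : r ≠ 2 := fun h => by
    have h1 := hD.of_dvd_nat (D.orderOf_dvd_natCard x₀.2)
    rw [hx₀o, h] at h1
    exact absurd h1 (by decide)
  have hord : ∀ {g : G}, g ^ r = 1 → g ≠ 1 → orderOf g = r := fun hg h1 => orderOf_eq_prime hg h1
  by_cases hsmall : ∀ A : Subgroup G, A ≤ R → D ≤ normalizer (A : Set G) →
      u ∈ normalizer (A : Set G) → (∀ a ∈ A, ∀ b ∈ A, a * b = b * a) → (∀ a ∈ A, a ^ r = 1) →
      ∀ a ∈ A, a ≠ 1 → ∀ b ∈ A, b ∈ zpowers a
  swap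
  · -- a non-cyclic invariant elementary abelian subgroup
    push Not at hsmall
    obtain ⟨A, hAR, hDA, huA, hAc, hAe, a, ha, ha1, b, hb, hba⟩ := hsmall
    have hAinv : ∀ c ∈ A, u * c * u⁻¹ = c⁻¹ := fun c hc =>
      Inverted.all_inverted (hD.of_dvd_nat (card_dvd_of_le (hAR.trans hRD))) hu huA
        (hedge r A hr (hAR.trans hRD) hDA huA hAc hAe) hc
    refine Inverted.exists_inverted_normal hD hu huD (hAR.trans hRD) hDA huA hAinv ?_
    intro w hw hwu hwc
    by_contra hw1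
    have hb1 : b ≠ 1 := fun h => hba (h ▸ one_mem _)
    exact hba (hcyc w hw hwu.symm hw1 r hr a (hRD (hAR ha)) b (hRD (hAR hb)) (hord (hAe a ha) ha1)
      (hord (hAe b hb) hb1) (hAinv a ha) (hAinv b hb) (hwc a ha).symm (hwc b hb).symm
      (hAc a ha b hb))
  exfalso
  -- the centre of `R`
  set Z1 := zOne R r with hZ1
  have hZ1D : Z1 ≤ D := fun g hg => hRD hg.1
  have hZinv : ∀ c ∈ Z1, u * c * u⁻¹ = c⁻¹ := fun c hc =>
    Inverted.all_inverted (hD.of_dvd_nat (card_dvd_of_le hZ1D)) hu (mem_normalizer_zOne huR)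
      (hedge r Z1 hr hZ1D (fun d hd => mem_normalizer_zOne (hDR hd)) (mem_normalizer_zOne huR)
        (fun a ha b hb => ha.2.2 b hb.1) (fun a ha => ha.2.1)) hc
  have hsq : ∀ {c : G}, c ∈ D → c = c⁻¹ → c = 1 := by
    intro c hc h
    have h1 : c ^ 2 = 1 := by rw [pow_two]; exact mul_eq_one_iff_eq_inv.2 h
    rcases (Nat.dvd_prime Nat.prime_two).1 (orderOf_dvd_of_pow_eq_one h1) with h2 | h2
    · exact orderOf_eq_one_iff.1 h2
    · have h3 := hD.of_dvd_nat (D.orderOf_dvd_natCard hc)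
      rw [h2] at h3
      exact absurd h3 (by decide)
  have hfixZ : ∀ {c : G}, c ∈ Z1 → u * c = c * u → c = 1 := fun {c} hc h => hsq (hZ1D hc) (by
    rw [← hZinv c hc, h, mul_inv_cancel_right])
  have hsmallZ : ∀ a ∈ Z1, a ≠ 1 → ∀ b ∈ Z1, b ∈ zpowers a :=
    hsmall Z1 (fun g hg => hg.1) (fun d hd => mem_normalizer_zOne (hDR hd))
      (mem_normalizer_zOne huR) (fun a ha b hb => ha.2.2 b hb.1) (fun a ha => ha.2.1)
  -- `R` is not abelian
  have hnc : ¬ IsCyclic R := by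
    intro hc
    haveI := hc
    letI : CommGroup R := IsCyclic.commGroup
    exact hx1 (hfixZ ⟨hxR, by rw [← hx₀o]; exact pow_orderOf_eq_one _,
      fun h hh => congrArg Subtype.val (mul_comm (⟨x₀, hxR⟩ : R) ⟨h, hh⟩)⟩ hx₀u.symm)
  set R2 := zTwo R hr hr2 with hR2
  have hR2D : R2 ≤ D := fun g hg => hRD hg.1
  have hDR2 : D ≤ normalizer (R2 : Set G) := fun d hd => mem_normalizer_zTwo (hDR hd)
  have huR2 : u ∈ normalizer (R2 : Set G) := mem_normalizer_zTwo huR
  have hZR2 : ∀ c ∈ Z1, c ∈ R2 := fun c hc => ⟨hc.1, hc.2.1, fun h hh => by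
    rw [hc.2.2 h hh, mul_inv_cancel_right, mul_inv_cancel]; exact one_mem _⟩
  have hcomm : ∀ {a b : G}, a ∈ R2 → b ∈ R2 → a * b * a⁻¹ * b⁻¹ ∈ Z1 :=
    fun ha hb => ha.2.2 _ hb.1
  -- `R2` is not abelian
  have hnab : ¬ ∀ a ∈ R2, ∀ b ∈ R2, a * b = b * a := by
    intro hab
    have hsm := hsmall R2 (fun g hg => hg.1) hDR2 huR2 hab (fun a ha => ha.2.1)
    obtain ⟨E, hEn, ⟨-, hEe⟩, hEc⟩ := PGroups.exists_normal_elemAb_sq hr2 hRr hnc
    haveI := hEn
    have hER2 : E.map R.subtype ≤ R2 := by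
      rintro _ ⟨g, hg, rfl⟩
      refine ⟨g.2, congrArg Subtype.val (hEe g hg), fun h hh => ?_⟩
      obtain ⟨h1, h2⟩ := commutator_mem_center hRr E hEc hg ⟨h, hh⟩
      have h3 := congrArg Subtype.val (hEe _ h1)
      refine ⟨mul_mem (mul_mem (mul_mem g.2 hh) (inv_mem g.2)) (inv_mem hh), h3, fun k hk => ?_⟩
      exact (congrArg Subtype.val (mem_center_iff.1 h2 ⟨k, hk⟩)).symm
    have hcE : Nat.card (E.map R.subtype) = r ^ 2 := by
      rw [card_map_of_injective R.subtype_injective, hEc]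
    obtain ⟨a, ha, ha1⟩ : ∃ a ∈ E.map R.subtype, a ≠ 1 := by
      by_contra hno
      push Not at hno
      rw [(eq_bot_iff_forall _).2 hno, Subgroup.card_bot] at hcE
      exact (Nat.one_lt_pow two_ne_zero hr.one_lt).ne hcE
    have h1 : E.map R.subtype ≤ zpowers a := fun b hb => hsm a (hER2 ha) ha1 b (hER2 hb)
    have h2 := Nat.le_of_dvd Nat.card_pos (card_dvd_of_le h1)
    rw [hcE, Nat.card_zpowers, hord (hER2 ha).2.1 ha1] at h2
    exact absurd h2 (not_le.2 (by nlinarith [hr.one_lt]))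
  -- inverted elements of `R2` commute, so do fixed ones
  have hconjc : ∀ a b : G, u * (a * b * a⁻¹ * b⁻¹) * u⁻¹ =
      (u * a * u⁻¹) * (u * b * u⁻¹) * (u * a * u⁻¹)⁻¹ * (u * b * u⁻¹)⁻¹ := fun a b => by group
  have hinvc : ∀ {a b : G}, a ∈ R2 → b ∈ R2 → u * a * u⁻¹ = a⁻¹ → u * b * u⁻¹ = b⁻¹ →
      a * b = b * a := by
    intro a b ha hb hua hub
    have hc := hcomm ha hb
    have h1 := hZinv _ hc
    rw [hconjc, hua, hub] at h1
    have h2 : a⁻¹ * b⁻¹ * a * b = a * b * a⁻¹ * b⁻¹ := by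
      calc a⁻¹ * b⁻¹ * a * b = (b * a)⁻¹ * (a * b * a⁻¹ * b⁻¹) * (b * a) := by group
        _ = _ := by rw [mul_assoc, hc.2.2 _ (mul_mem hb.1 ha.1), inv_mul_cancel_left]
    rw [inv_inv, inv_inv, h2] at h1
    exact commutatorElement_eq_one_iff_mul_comm.1 (hsq (hZ1D hc) h1)
  have hfixc : ∀ {a b : G}, a ∈ R2 → b ∈ R2 → u * a * u⁻¹ = a → u * b * u⁻¹ = b →
      a * b = b * a := by
    intro a b ha hb hua hub
    have h1 : u * (a * b * a⁻¹ * b⁻¹) * u⁻¹ = a * b * a⁻¹ * b⁻¹ := by rw [hconjc, hua, hub]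
    exact commutatorElement_eq_one_iff_mul_comm.1
      (hfixZ (hcomm ha hb) (mul_inv_eq_iff_eq_mul.1 h1))
  -- decomposition
  have hdec : ∀ g ∈ R2, ∃ j ∈ R2, u * j * u⁻¹ = j⁻¹ ∧ u * (g * j) * u⁻¹ = g * j := by
    intro g hg
    set w := g⁻¹ * (u * g * u⁻¹) with hw
    have hwR : w ∈ R2 := mul_mem (inv_mem hg) ((mem_normalizer_iff.1 huR2 g).1 hg)
    have hwi : u * w * u⁻¹ = w⁻¹ := by
      rw [hw, invol_inv hu]
      calc u * (g⁻¹ * (u * g * u)) * u = u * g⁻¹ * u * g * (u * u) := by group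
        _ = _ := by
          rw [invol_mul_self hu, mul_one, mul_inv_rev, inv_inv, mul_inv_rev, mul_inv_rev,
            invol_inv hu]
          group
    obtain ⟨s, hs⟩ : Odd r := hr.odd_of_ne_two hr2
    refine ⟨w ^ (s + 1), pow_mem hwR _, by rw [← conj_pow, hwi, inv_pow], ?_⟩
    have h2 : w ^ (s + 1) * w ^ (s + 1) = w := by
      rw [← pow_add, show s + 1 + (s + 1) = r + 1 by omega, pow_succ, hwR.2.1, one_mul]
    calc u * (g * w ^ (s + 1)) * u⁻¹ = (u * g * u⁻¹) * (u * w * u⁻¹) ^ (s + 1) := by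
          rw [conj_pow]; group
      _ = g * w * (w ^ (s + 1))⁻¹ := by rw [hwi, inv_pow, hw]; group
      _ = g * (w ^ (s + 1) * w ^ (s + 1)) * (w ^ (s + 1))⁻¹ := by rw [h2]
      _ = g * w ^ (s + 1) := by group
  -- a fixed element
  obtain ⟨x, hx, hxu, hxne⟩ : ∃ x ∈ R2, u * x * u⁻¹ = x ∧ x ≠ 1 := by
    by_contra hno
    push Not at hno
    refine hnab fun a ha b hb => ?_
    have hinv : ∀ c ∈ R2, u * c * u⁻¹ = c⁻¹ := fun c hc =>
      Inverted.all_inverted (hD.of_dvd_nat (card_dvd_of_le hR2D)) hu huR2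
        (fun d hd hdu => hno d hd (mul_inv_eq_iff_eq_mul.2 hdu)) hc
    exact Inverted.comm_of_inverted hinv ha hb
  -- an inverted element outside the centre
  obtain ⟨i, hi, hiu, hiZ⟩ : ∃ i ∈ R2, u * i * u⁻¹ = i⁻¹ ∧ i ∉ Z1 := by
    by_contra hno
    push Not at hno
    refine hnab fun a ha b hb => ?_
    obtain ⟨ja, hja, hjai, hafix⟩ := hdec a ha
    obtain ⟨jb, hjb, hjbi, hbfix⟩ := hdec b hb
    have hjaZ := hno ja hja hjai
    have hjbZ := hno jb hjb hjbi
    have h1 : Commute (a * ja) (b * jb) := hfixc (mul_mem ha hja) (mul_mem hb hjb) hafix hbfix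
    have e1 : a = a * ja * ja⁻¹ := by group
    have e2 : b = b * jb * jb⁻¹ := by group
    have c1 : Commute ja⁻¹ (b * jb) := (inv_mem hjaZ).2.2 _ (mul_mem hb hjb).1
    have c2 : Commute jb⁻¹ (a * ja) := (inv_mem hjbZ).2.2 _ (mul_mem ha hja).1
    have c3 : Commute ja⁻¹ jb⁻¹ := (inv_mem hjaZ).2.2 _ (inv_mem hjb).1
    rw [e1, e2]
    exact (((h1.mul_right c2.symm).mul_left (c1.mul_right c3))).eq
  have hi1 : i ≠ 1 := fun h => hiZ (h ▸ one_mem _)
  set z := x * i * x⁻¹ * i⁻¹ with hzdef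
  have hzZ : z ∈ Z1 := hcomm hx hi
  have hxD := hR2D hx
  have hxu' : x * u = u * x := (mul_inv_eq_iff_eq_mul.1 hxu).symm
  -- elements of `Z1` and inverted elements
  have hcycZ : ∀ {m l : G}, m ∈ R2 → m * u = u * m → m ≠ 1 → l ∈ R2 → u * l * u⁻¹ = l⁻¹ →
      m * l = l * m → l ∈ Z1 := by
    intro m l hm hmu hm1 hl hlu hml
    by_cases hl1 : l = 1
    · exact hl1 ▸ one_mem _
    -- a generator of the centre
    haveI : Nontrivial R := ⟨⟨⟨x₀, hxR⟩, 1, fun h => hx1 (congrArg Subtype.val h)⟩⟩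
    haveI := hRr.center_nontrivial
    obtain ⟨⟨c, hc⟩, hco⟩ := exists_prime_orderOf_dvd_card' r (G := center R)
      (((hRr.to_subgroup (center R)).card_eq_or_dvd).resolve_left Finite.one_lt_card.ne')
    have hco' : orderOf (c : G) = r := by
      rw [Subgroup.orderOf_coe]; rwa [Subgroup.orderOf_mk] at hco
    have hcZ : (c : G) ∈ Z1 := ⟨c.2, by rw [← hco']; exact pow_orderOf_eq_one _,
      fun h hh => (congrArg Subtype.val (mem_center_iff.1 hc ⟨h, hh⟩)).symm⟩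
    exact zpowers_le.2 hcZ (hcyc m (hR2D hm) hmu hm1 r hr c (hZ1D hcZ) l (hR2D hl) hco'
      (hord hl.2.1 hl1) (hZinv _ hcZ) hlu (hcZ.2.2 m hm.1).symm hml (hcZ.2.2 l hl.1))
  have hz1 : z ≠ 1 := fun h =>
    hiZ (hcycZ hx hxu' hxne hi hiu (commutatorElement_eq_one_iff_mul_comm.1 h))
  have hzpow : ∀ c ∈ Z1, ∃ n : ℕ, c = z ^ n := fun c hc => by
    obtain ⟨n, hn⟩ := mem_powers_iff_mem_zpowers.2 (hsmallZ z hzZ hz1 c hc)
    exact ⟨n, hn.symm⟩
  have hzc : ∀ {g : G}, g ∈ R2 → z * g = g * z := fun hg => hzZ.2.2 _ hg.1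
  have hxi : ∀ n : ℕ, x * i ^ n * x⁻¹ = z ^ n * i ^ n := fun n => by
    rw [← conj_pow, show x * i * x⁻¹ = z * i by rw [hzdef]; group,
      (show Commute z i from hzc hi).mul_pow]
  have hix : ∀ n : ℕ, x ^ n * i * (x ^ n)⁻¹ = z ^ n * i := by
    intro n
    induction n with
    | zero => simp
    | succ k ih =>
      calc x ^ (k + 1) * i * (x ^ (k + 1))⁻¹ = x * (x ^ k * i * (x ^ k)⁻¹) * x⁻¹ := by
            rw [pow_succ']; group
        _ = (x * z ^ k) * i * x⁻¹ := by rw [ih]; group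
        _ = z ^ k * (x * i * x⁻¹) := by
          rw [((show Commute z x from hzc hx).pow_left k).symm.eq]; group
        _ = z ^ (k + 1) * i := by
          rw [show x * i * x⁻¹ = z * i by rw [hzdef]; group, pow_succ]; group
  haveI : NeZero r := ⟨hr.ne_zero⟩
  have hH : Heis.IsHeis r R2 x i z := by
    refine ⟨hx, hi, hZR2 z hzZ, hz1, by rw [hzdef]; group, fun g hg => hzc hg, fun g hg => hg.2.1,
      fun g hg => ?_⟩
    obtain ⟨j, hj, hji, hfix⟩ := hdec g hg
    -- the inverted part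
    have hj' := inv_mem hj
    have hji' : u * j⁻¹ * u⁻¹ = j := by
      calc u * j⁻¹ * u⁻¹ = (u * j * u⁻¹)⁻¹ := by group
        _ = j := by rw [hji, inv_inv]
    obtain ⟨b, hb⟩ := hzpow _ (hcomm hx hj')
    have hjb : j⁻¹ * (i ^ b)⁻¹ ∈ Z1 := by
      refine hcycZ hx hxu' hxne (mul_mem hj' (inv_mem (pow_mem hi b))) ?_ ?_
      · have hc1 : Commute j⁻¹ (i ^ b) :=
          Commute.pow_right (hinvc hj' hi (by rw [inv_inv]; exact hji') hiu) b
        calc u * (j⁻¹ * (i ^ b)⁻¹) * u⁻¹ = (u * j⁻¹ * u⁻¹) * ((u * i * u⁻¹) ^ b)⁻¹ := by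
              rw [conj_pow]; group
          _ = j * i ^ b := by rw [hji', hiu, inv_pow, inv_inv]
          _ = _ := by
            have hc2 := hc1.inv_left
            rw [inv_inv] at hc2
            rw [mul_inv_rev, inv_inv, inv_inv, hc2.eq]
      · refine mul_inv_eq_iff_eq_mul.1 ?_
        calc x * (j⁻¹ * (i ^ b)⁻¹) * x⁻¹ = (x * j⁻¹ * x⁻¹) * (x * i ^ b * x⁻¹)⁻¹ := by group
          _ = z ^ b * j⁻¹ * (z ^ b * i ^ b)⁻¹ := by
            rw [show x * j⁻¹ * x⁻¹ = z ^ b * j⁻¹ by rw [← hb]; group, hxi]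
          _ = z ^ b * (j⁻¹ * (i ^ b)⁻¹) * (z ^ b)⁻¹ := by group
          _ = _ := by
            rw [((show Commute z (j⁻¹ * (i ^ b)⁻¹) from
              hzc (mul_mem hj' (inv_mem (pow_mem hi b)))).pow_left b).eq, mul_inv_cancel_right]
    obtain ⟨c, hc⟩ := hzpow _ hjb
    -- the fixed part
    have hgj := mul_mem hg hj
    obtain ⟨a, ha⟩ := hzpow _ (hcomm hgj hi)
    have hm : (x ^ a)⁻¹ * (g * j) = 1 := by
      by_contra hne
      have hxa : u * x ^ a * u⁻¹ = x ^ a := by rw [← conj_pow, hxu]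
      refine hiZ (hcycZ (mul_mem (inv_mem (pow_mem hx a)) hgj) ?_ hne hi hiu ?_)
      · have e1 : Commute (x ^ a) u := Commute.pow_left hxu' a
        exact (e1.inv_left.mul_left (mul_inv_eq_iff_eq_mul.1 hfix).symm).eq
      · refine mul_inv_eq_iff_eq_mul.1 ?_
        calc (x ^ a)⁻¹ * (g * j) * i * ((x ^ a)⁻¹ * (g * j))⁻¹
            = (x ^ a)⁻¹ * ((g * j) * i * (g * j)⁻¹) * x ^ a := by group
          _ = (x ^ a)⁻¹ * (z ^ a * i) * x ^ a := by
            rw [show g * j * i * (g * j)⁻¹ = z ^ a * i by rw [← ha]; group]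
          _ = (x ^ a)⁻¹ * (x ^ a * i * (x ^ a)⁻¹) * x ^ a := by rw [hix]
          _ = i := by group
    refine ⟨(a : ZMod r), (b : ZMod r), (c : ZMod r), ?_⟩
    simp only [Heis.el, Heis.pow_val_natCast hx.2.1, Heis.pow_val_natCast hi.2.1,
      Heis.pow_val_natCast (hZR2 z hzZ).2.1]
    calc g = (g * j) * (j⁻¹ * (i ^ b)⁻¹ * i ^ b) := by group
      _ = x ^ a * (z ^ c * i ^ b) := by rw [← hc, inv_mul_eq_one.1 hm]
      _ = _ := by rw [((show Commute z i from hzc hi).pow_pow c b).eq, mul_assoc]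
  refine Extraspecial.no_heis hD hr2 hH hR2D hDR2 huR2 hxu hiu ?_ ?_ hsingle
  swap
  · intro w hw hwu hwz hwi
    by_contra hw1
    exact hiZ (zpowers_le.2 hzZ (hcyc w hw hwu hw1 r hr z (hZ1D hzZ) i (hR2D hi)
      (hord hzZ.2.1 hz1) (hord hi.2.1 hi1) (hZinv z hzZ) hiu hwz hwi (hzc hi)))
  intro A hAR hDA huA hAc a ha ha1 b hb
  exact hsmall A (fun g hg => (hAR hg).1) hDA huA hAc (fun g hg => (hAR hg).2.1) a ha ha1 b hb

end Cfsg.Agent.Lib.BenderOne83.KAbelian
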