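import Cfsg.Agent.Lib.BenderOne83.C2.Edge
import Cfsg.Agent.Lib.BenderOne83.C2.InvertedCyclic
import Cfsg.Agent.Lib.BenderOne83.C2.KAbelian
import Cfsg.Agent.Lib.OddOrder.FeitThompson

/-!
# Bender's theorem, part I, node C2: the abelian normal subgroup of a two point stabiliser

Step 3 of the node: if some element centralising the swapper has a single involution at a point
and only `1` centralises all of them, the inverted elements of `G_ab` form an abelian normal
subgroup.  The elementary abelian case is the edge lemma.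
-/

set_option autoImplicit false
set_option linter.style.haveILetI false
set_option linter.unusedSectionVars false

namespace Cfsg.Agent.Lib.BenderOne83.PairStab

open MulAction Cfsg.Agent.Lib.Involutions.Basic
open Cfsg.Agent.Lib.BenderOne20 Cfsg.Agent.Lib.BenderOne8

universe u

variable {G Ω : Type u} [Group G] [MulAction G Ω] [Finite G]

theorem mem_normalizer_pairStab {a b : Ω} {w : G} (hw : w ∈ swapSet G a b) :
    w ∈ Subgroup.normalizer (pairStab G a b : Set G) := by
  have key : ∀ d ∈ pairStab G a b, w * d * w⁻¹ ∈ pairStab G a b := by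
    rintro d ⟨hda, hdb⟩
    rw [invol_inv hw.1]
    refine ⟨?_, ?_⟩
    · show (w * d * w) • a = a
      rw [mul_smul, mul_smul, hw.2, (hdb : d • b = b), smul_swap hw]
    · show (w * d * w) • b = b
      rw [mul_smul, mul_smul, smul_swap hw, (hda : d • a = a), hw.2]
  refine Subgroup.mem_normalizer_iff.2 fun d => ⟨key d, fun h => ?_⟩
  have h2 := key _ h
  rwa [invol_inv hw.1, show w * (w * d * w) * w = (w * w) * d * (w * w) by group,
    invol_mul_self hw.1, one_mul, mul_one] at h2

variable (hG : OneFix G Ω) (hF : PropF G Ω) (hbelow : BenderOne.Below.{u} (Nat.card G))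
  (hcenter : Subgroup.center G = ⊥) {a b : Ω} (hab : a ≠ b) {w : G} (hw : w ∈ swapSet G a b)
  (hW0 : ∀ d ∈ pairStab G a b, (∀ s ∈ invAt G a, d * s = s * d) → d = 1)
include hG hF hbelow hcenter hab hw hW0

/-- An invariant elementary abelian subgroup meets the centraliser of the swapper trivially. -/
theorem eq_one_of_fixed {r : ℕ} (hr : r.Prime) {A : Subgroup G} (hAD : A ≤ pairStab G a b)
    (hDA : pairStab G a b ≤ Subgroup.normalizer (A : Set G))
    (hwA : w ∈ Subgroup.normalizer (A : Set G)) (hAc : ∀ x ∈ A, ∀ y ∈ A, x * y = y * x)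
    (hAr : ∀ x ∈ A, x ^ r = 1) {x : G} (hx : x ∈ A) (hxw : w * x = x * w) : x = 1 := by
  by_contra hx1
  haveI := Fact.mk hr
  have hodd := hG.odd_pairStab hab
  -- an involution at `a` centralising the fixed part of `A`
  obtain ⟨t, ht, htM⟩ : ∃ t ∈ invAt G a, ∀ y ∈ A, w * y = y * w → y * t = t * y := by
    obtain ⟨c, hc⟩ := hG.exists_fix hw.1
    have hca : c ≠ a := fun h => by
      rw [h] at hc
      exact hab (hc.symm.trans hw.2)
    have hcb : c ≠ b := fun h => by
      rw [h] at hc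
      exact hab ((smul_swap hw).symm.trans hc)
    set M := A ⊓ Subgroup.centralizer {w}
    have hMr : IsPGroup r M := fun y => ⟨1, Subtype.ext (by
      rw [pow_one, SubmonoidClass.coe_pow, OneMemClass.coe_one]; exact hAr _ y.2.1)⟩
    obtain ⟨t, ht⟩ := exists_cen hG hF hMr (x := a) ⟨a, b, c, hab, hca, hcb,
      inf_le_left.trans (hAD.trans inf_le_left), inf_le_left.trans (hAD.trans inf_le_right),
      mem_Fx_of_cen hG ⟨hw.1, hc⟩ inf_le_right⟩ (inf_le_left.trans (hAD.trans inf_le_left))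
    exact ⟨t, ht.1, fun y hy hyw => Subgroup.mem_centralizer_singleton_iff.1
      (ht.2 ⟨hy, Subgroup.mem_centralizer_singleton_iff.2 hyw.symm⟩)⟩
  set H := stabilizer G a
  let A' := A.subgroupOf H
  have hAH : A ≤ H := hAD.trans inf_le_left
  have hconj : ∀ s : H, orderOf s = 2 → ∃ d ∈ pairStab G a b, d * t * d⁻¹ = s := fun s hs =>
    hG.pairStab_conj_invAt hab ht ⟨(Subgroup.orderOf_coe s).trans hs, s.2⟩
  -- the centraliser of an involution in `A`
  have hst : ∀ s : G, s ∈ invAt G a → A ⊓ Subgroup.centralizer {s} ≠ ⊥ ∧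
      Nat.card (A ⊓ Subgroup.centralizer {s} : Subgroup G) =
        Nat.card (A ⊓ Subgroup.centralizer {t} : Subgroup G) := by
    intro s hs
    obtain ⟨d, hd, rfl⟩ := hG.pairStab_conj_invAt hab ht hs
    have e : A ⊓ Subgroup.centralizer {d * t * d⁻¹} =
        (A ⊓ Subgroup.centralizer {t}).map (MulAut.conj d).toMonoidHom := by
      ext y
      simp only [Subgroup.mem_inf, Subgroup.mem_centralizer_singleton_iff, Subgroup.mem_map,
        MulEquiv.coe_toMonoidHom, MulAut.conj_apply]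
      constructor
      · rintro ⟨hy, hyc⟩
        refine ⟨d⁻¹ * y * d, ⟨(Subgroup.mem_normalizer_iff''.1 (hDA hd) y).1 hy, ?_⟩, by group⟩
        calc d⁻¹ * y * d * t = d⁻¹ * (y * (d * t * d⁻¹)) * d := by group
          _ = t * (d⁻¹ * y * d) := by rw [hyc]; group
      · rintro ⟨z, ⟨hz, hzc⟩, rfl⟩
        refine ⟨(Subgroup.mem_normalizer_iff.1 (hDA hd) z).1 hz, ?_⟩
        calc d * z * d⁻¹ * (d * t * d⁻¹) = d * (z * t) * d⁻¹ := by group
          _ = d * t * d⁻¹ * (d * z * d⁻¹) := by rw [hzc]; group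
    refine ⟨?_, by rw [e, Subgroup.card_map_of_injective (MulAut.conj d).injective]⟩
    rw [e, Ne, Subgroup.map_eq_bot_iff_of_injective _ (MulAut.conj d).injective]
    intro h
    have h1 : x ∈ A ⊓ Subgroup.centralizer {t} :=
      ⟨hx, Subgroup.mem_centralizer_singleton_iff.2 (htM x hx hxw)⟩
    rw [h, Subgroup.mem_bot] at h1
    exact hx1 h1
  -- it has index at most `r`
  have hindex : Nat.card A ≤ r * Nat.card (A ⊓ Subgroup.centralizer {t} : Subgroup G) := by
    set T := A ⊓ Subgroup.centralizer {t}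
    obtain ⟨s, hs⟩ : Odd r := by
      have h1 : orderOf x = r := orderOf_eq_prime (hAr x hx) hx1
      exact h1 ▸ hodd.of_dvd_nat (Subgroup.orderOf_dvd_natCard _ (hAD hx))
    have hdec : ∀ g ∈ A, ∃ j ∈ A, w * j * w⁻¹ = j⁻¹ ∧ g * j ∈ T := by
      intro g hg
      set v := g⁻¹ * (w * g * w⁻¹) with hv
      have hvA : v ∈ A := mul_mem (inv_mem hg) ((Subgroup.mem_normalizer_iff.1 hwA g).1 hg)
      have hvi : w * v * w⁻¹ = v⁻¹ := by
        rw [hv, invol_inv hw.1]
        calc w * (g⁻¹ * (w * g * w)) * w = w * g⁻¹ * w * g * (w * w) := by group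
          _ = _ := by
            rw [invol_mul_self hw.1, mul_one, mul_inv_rev, inv_inv, mul_inv_rev, mul_inv_rev,
              invol_inv hw.1]
            group
      refine ⟨v ^ (s + 1), pow_mem hvA _, by rw [← conj_pow, hvi, inv_pow],
        mul_mem hg (pow_mem hvA _), Subgroup.mem_centralizer_singleton_iff.2
          (htM _ (mul_mem hg (pow_mem hvA _)) (mul_inv_eq_iff_eq_mul.1 ?_))⟩
      have h2 : v ^ (s + 1) * v ^ (s + 1) = v := by
        rw [← pow_add, show s + 1 + (s + 1) = r + 1 by omega, pow_succ, hAr v hvA, one_mul]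
      calc w * (g * v ^ (s + 1)) * w⁻¹ = (w * g * w⁻¹) * (w * v * w⁻¹) ^ (s + 1) := by
            rw [conj_pow]; group
        _ = g * v * (v ^ (s + 1))⁻¹ := by rw [hvi, inv_pow, hv]; group
        _ = g * (v ^ (s + 1) * v ^ (s + 1)) * (v ^ (s + 1))⁻¹ := by rw [h2]
        _ = g * v ^ (s + 1) := by group
    have hcyc : ∃ k : G, k ^ r = 1 ∧ ∀ j ∈ A, w * j * w⁻¹ = j⁻¹ → j ∈ Subgroup.zpowers k := by
      by_cases hk : ∃ k ∈ A, w * k * w⁻¹ = k⁻¹ ∧ k ≠ 1
      · obtain ⟨k, hkA, hkw, hk1⟩ := hk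
        refine ⟨k, hAr k hkA, fun j hj hjw => ?_⟩
        by_cases hj1 : j = 1
        · exact hj1 ▸ one_mem _
        exact InvertedCyclic.mem_zpowers hG hF hbelow hcenter hab hw (hAD hx) hxw.symm hx1 hr
          (hAD hkA) (hAD hj) (orderOf_eq_prime (hAr k hkA) hk1) (orderOf_eq_prime (hAr j hj) hj1)
          hkw hjw (hAc x hx k hkA) (hAc x hx j hj) (hAc k hkA j hj)
      · push Not at hk
        exact ⟨1, one_pow r, fun j hj hjw => by rw [hk j hj hjw]; exact one_mem _⟩
    obtain ⟨k, hkr, hk⟩ := hcyc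
    choose j hjA hjw hjT using hdec
    let f : A → T × Subgroup.zpowers k := fun g =>
      (⟨g * j g g.2, hjT g g.2⟩, ⟨j g g.2, hk _ (hjA g g.2) (hjw g g.2)⟩)
    have hf : Function.Injective f := by
      intro g h e
      have e1 : (g : G) * j g g.2 = h * j h h.2 := congrArg (fun p => ((p.1 : T) : G)) e
      have e2 : j g g.2 = j h h.2 := congrArg (fun p => ((p.2 : Subgroup.zpowers k) : G)) e
      rw [e2] at e1
      exact Subtype.ext (mul_right_cancel e1)
    have h1 := Nat.card_le_card_of_injective f hf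
    rw [Nat.card_prod, Nat.card_zpowers, mul_comm] at h1
    exact h1.trans (Nat.mul_le_mul_right _ (Nat.le_of_dvd hr.pos (orderOf_dvd_of_pow_eq_one hkr)))
  -- transport to the point stabiliser
  have hmem : ∀ {s y : H}, y ∈ Edge.st A' s ↔
      (y : G) ∈ A ⊓ Subgroup.centralizer {(s : G)} := fun {s y} => by
    rw [Edge.mem_st, Subgroup.mem_inf, Subgroup.mem_centralizer_singleton_iff,
      Subgroup.mem_subgroupOf]
    exact and_congr_right fun _ => ⟨fun e => congrArg Subtype.val e, fun e => Subtype.ext e⟩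
  have hmap : ∀ s : H, (Edge.st A' s).map H.subtype = A ⊓ Subgroup.centralizer {(s : G)} := by
    intro s
    ext y
    constructor
    · rintro ⟨z, hz, rfl⟩; exact hmem.1 hz
    · exact fun hy => ⟨⟨y, hAH hy.1⟩, hmem.2 hy, rfl⟩
  have hinv : ∀ s : H, orderOf s = 2 → (s : G) ∈ invAt G a := fun s hs =>
    ⟨(Subgroup.orderOf_coe s).trans hs, s.2⟩
  have hcardst : ∀ s : H, orderOf s = 2 → Nat.card (Edge.st A' s) =
      Nat.card (A ⊓ Subgroup.centralizer {t} : Subgroup G) := fun s hs => by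
    rw [← (hst s (hinv s hs)).2, ← hmap, Subgroup.card_map_of_injective H.subtype_injective]
  refine Edge.edge (A := A') (fun y hy z hz => Subtype.ext (hAc y hy z hz))
    ⟨⟨t, ht.2⟩, (Subgroup.orderOf_coe _).symm.trans ht.1⟩ (fun s hs h => ?_)
    (fun s s' hs hs' hle => ?_) (fun s s' hs hs' hne => ?_) (fun s v hs hv hle => ?_)
    fun y hy hyc => ?_
  · refine (hst s (hinv s hs)).1 ?_
    rw [← hmap, h, Subgroup.map_bot]
  · exact Subgroup.eq_of_le_of_card_ge hle ((hcardst s' hs').trans (hcardst s hs).symm).le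
  · set S := Edge.st A' s ⊔ Edge.st A' s'
    have hSA : S ≤ A' := sup_le inf_le_left inf_le_left
    have hlt : Edge.st A' s < S := lt_of_le_of_ne le_sup_left fun h => hne
      (Subgroup.eq_of_le_of_card_ge (h.symm ▸ le_sup_right : Edge.st A' s' ≤ Edge.st A' s)
        ((hcardst s hs).trans (hcardst s' hs').symm).le).symm
    refine (Subgroup.eq_of_le_of_card_ge hSA ?_).ge
    obtain ⟨m, hm⟩ := Subgroup.card_dvd_of_le hlt.le
    have hrA : IsPGroup r A' := fun y => ⟨1, Subtype.ext (Subtype.ext (by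
      simpa [pow_one] using hAr _ y.2))⟩
    have hm1 : m ≠ 1 := fun h => hlt.ne (Subgroup.eq_of_le_of_card_ge hlt.le
      (by rw [hm, h, mul_one]))
    obtain ⟨i, hi⟩ := IsPGroup.iff_card.1 (hrA.to_le hSA)
    obtain ⟨i', -, hm'⟩ := (Nat.dvd_prime_pow hr).1 (hi ▸ Dvd.intro_left _ hm.symm : m ∣ r ^ i)
    have hrm : r ≤ m := by
      rw [hm']
      exact Nat.le_self_pow (fun h => hm1 (by rw [hm', h, pow_zero])) r
    calc Nat.card A' = Nat.card A := Nat.card_congr (Subgroup.subgroupOfEquivOfLe hAH).toEquiv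
      _ ≤ r * Nat.card (Edge.st A' s) := by rw [hcardst s hs]; exact hindex
      _ ≤ Nat.card S := by rw [hm, mul_comm]; exact Nat.mul_le_mul_left _ hrm
  · by_cases hsv : s = v
    · subst hsv; rfl
    obtain ⟨z, hz, hz1⟩ : ∃ z ∈ A ⊓ Subgroup.centralizer {(s : G)}, z ≠ 1 := by
      by_contra hno
      push Not at hno
      exact (hst s (hinv s hs)).1 ((Subgroup.eq_bot_iff_forall _).2 hno)
    have hzs := Subgroup.mem_centralizer_singleton_iff.1 hz.2
    have hzv : z * (v : G) = v * z := congrArg Subtype.val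
      (Subgroup.mem_centralizer_singleton_iff.1 (hle ((@hmem s ⟨z, hAH hz.1⟩).2 hz)))
    set X := Subgroup.zpowers z with hXdef
    have hX : IsPGroup r X := IsPGroup.of_card (n := 1)
      (by rw [Nat.card_zpowers, orderOf_eq_prime (hAr z hz.1) hz1, pow_one])
    have hXD : X ≤ pairStab G a b := Subgroup.zpowers_le.2 (hAD hz.1)
    have haX : a ∈ Fx X := hXD.trans inf_le_left
    have hbX : b ∈ Fx X := hXD.trans inf_le_right
    have hsbX : (s : G) • b ∈ Fx X := Subgroup.zpowers_le.2 (show z • (s : G) • b = (s : G) • b by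
      rw [smul_smul, hzs, ← smul_smul, ((hAD hz.1).2 : z • b = b)])
    have h3 : Three X Ω := ⟨a, b, (s : G) • b, hab, fun h => hab (MulAction.injective (s : G)
      ((hinv s hs).2.trans h.symm)), fun h => hab (hG.eq_of_fix (hinv s hs).1 (hinv s hs).2 h),
      haX, hbX, hsbX⟩
    have hcs : ∀ {g : G}, z * g = g * z → g ∈ invAt G a → g ∈ invCen X a := fun hg hga =>
      ⟨hga, Subgroup.zpowers_le.2 (Subgroup.mem_centralizer_singleton_iff.2 hg)⟩
    have hs' := hcs hzs (hinv s hs)
    have hv' := hcs hzv (hinv v hv)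
    have hm : 1 < Nat.card (invCen X a) := by
      refine lt_of_le_of_ne (Nat.card_pos_iff.2 ⟨⟨⟨_, hs'⟩⟩, inferInstance⟩) fun h => hsv ?_
      haveI := (Nat.card_eq_one_iff_unique.1 h.symm).1
      exact Subtype.ext (congrArg (fun p : invCen X a => (p : G))
        (Subsingleton.elim (⟨_, hs'⟩ : invCen X a) ⟨_, hv'⟩))
    refine Subtype.ext (Central.comm_cen hG hF hX h3 haX hm hbelow (fun h => hz1 ?_)
      (mem_cen hs'.2) (hinv s hs).2 (k := 1)
      (by rw [pow_one, pow_two]; exact invol_mul_self (hinv s hs).1) hv')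
    have h2 : z ∈ Subgroup.center G := Subgroup.mem_center_iff.2 fun g =>
      (Subgroup.mem_centralizer_iff.1 (h.ge (Subgroup.mem_top g)) z (Subgroup.mem_zpowers z)).symm
    rwa [hcenter, Subgroup.mem_bot] at h2
  · exact Subtype.ext (hW0 y (hAD hy) fun s hs =>
      congrArg Subtype.val (hyc ⟨s, hs.2⟩ ((Subgroup.orderOf_coe _).symm.trans hs.1)))

/-- With a single element, the inverted elements of the two point stabiliser form an abelian
normal subgroup. -/
theorem exists_abelian_normal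
    (hsingle : ∃ (q : ℕ) (X : Subgroup G), q.Prime ∧ X ≤ pairStab G a b ∧ IsPGroup q X ∧ X ≠ ⊥ ∧
      (∀ y ∈ X, y * w = w * y) ∧ Nat.card (invCen X a) = 1) :
    ∃ K : Subgroup G, K ≤ pairStab G a b ∧
      pairStab G a b ≤ Subgroup.normalizer (K : Set G) ∧
      w ∈ Subgroup.normalizer (K : Set G) ∧ (∀ k ∈ K, w * k * w⁻¹ = k⁻¹) ∧
      (∀ x ∈ K, ∀ y ∈ K, x * y = y * x) ∧
      ∀ k ∈ pairStab G a b, w * k * w⁻¹ = k⁻¹ → k ∈ K := by
  have hodd := hG.odd_pairStab hab
  haveI : Group.IsSolvable (pairStab G a b) := OddOrder.FeitThompson.isSolvable_of_odd_card hodd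
  refine KAbelian.exists_abelian_normal hodd hw.1 (mem_normalizer_pairStab hw) ?_ ?_ ?_
  · intro x hx hxw hx1 r hr k hk l hl hko hlo hkw hlw hxk hxl hkl
    exact InvertedCyclic.mem_zpowers hG hF hbelow hcenter hab hw hx hxw hx1 hr hk hl hko hlo hkw
      hlw hxk hxl hkl
  · intro r A hr hAD hDA hwA hAc hAr x hx hxw
    exact eq_one_of_fixed hG hF hbelow hcenter hab hw hW0 hr hAD hDA hwA hAc hAr hx hxw
  · obtain ⟨q, X, hq, hXD, hX, hX1, hXw, hone⟩ := hsingle
    obtain ⟨hsub, ⟨⟨t, hmemt⟩⟩⟩ := Nat.card_eq_one_iff_unique.1 hone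
    refine ⟨q, X, hq, hXD, hX, hX1, hXw, fun d hd hcomm => ?_⟩
    set w' := d * w * d⁻¹ with hw'def
    have hw' : w' ∈ swapSet G a b := ⟨(orderOf_conj_eq d w).trans hw.1, by
      rw [hw'def, mul_smul, mul_smul, inv_smul_eq_iff.2 (hd.1 : d • a = a).symm, hw.2]
      exact hd.2⟩
    -- both swappers send `t` to an involution at `b` centralised by `X`; pull back by `w`
    refine hG.swap_unique hab hmemt.1 hw' hw ?_
    have hmem : w * (w' * t * w'⁻¹) * w⁻¹ ∈ invCen X a := by
      refine ⟨?_, fun y hy => Subgroup.mem_centralizer_singleton_iff.2 ?_⟩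
      · have h3 := OneFix.conj_mem_invAt (g := w) (OneFix.conj_mem_invAt (g := w') hmemt.1)
        rwa [hw'.2, smul_swap hw] at h3
      · have hyt : Commute y t := Subgroup.mem_centralizer_singleton_iff.1 (hmemt.2 hy)
        have h1 : Commute y w := hXw y hy
        have h1' : Commute y w' := hcomm y hy
        exact ((h1.mul_right ((h1'.mul_right hyt).mul_right h1'.inv_right)).mul_right
          h1.inv_right).eq
    have h4 : w * (w' * t * w'⁻¹) * w⁻¹ = t := congrArg (fun p : invCen X a => (p : G))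
      (Subsingleton.elim (⟨_, hmem⟩ : invCen X a) ⟨t, hmemt⟩)
    calc w' * t * w'⁻¹ = w⁻¹ * (w * (w' * t * w'⁻¹) * w⁻¹) * w := by group
      _ = w * t * w⁻¹ := by rw [h4, invol_inv hw.1]

end Cfsg.Agent.Lib.BenderOne83.PairStab
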