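import Cfsg.Agent.Lib.BenderOne83.C2.ShapeBase
import Cfsg.Agent.Lib.PGroups.UniqueInvolution
import Cfsg.Agent.Lib.BenderOne83.C2.KAbelian

/-!
# Bender's theorem, part I, node C2: a group acting on the inverted elements

`Y` acts faithfully on the abelian group `K` of order not a prime power, each non-identity element
fixing at most one line per prime; the primes of the abelian quotients of `Y` have free elements
only, and a subgroup without common fixed points on a fixed group `C` acts there as a Galois group.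
If some element is not free then `Y = R ⋊ T` with `R` of prime order `r` dividing `|K|` acting on
the `r`-part only, and `T` of prime order, free on `K` and on `R`.
-/

set_option autoImplicit false
set_option linter.style.haveILetI false
set_option linter.unusedSectionVars false

namespace Cfsg.Agent.Lib.BenderOne83.Structure

open Subgroup Cfsg.Agent.Lib.BenderOne83.ShapeBase
open Cfsg.Agent.Lib.BenderOne20 (SylowIn)
open scoped commutatorElement

variable {G : Type*} [Group G]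

/-- The hypotheses on `K` and `Y`. -/
structure Hyp (K Y : Subgroup G) : Prop where
  odd : Odd (Nat.card ↥(K ⊔ Y))
  comm : ∀ k ∈ K, ∀ l ∈ K, k * l = l * k
  norm : Y ≤ normalizer (K : Set G)
  faith : ∀ y ∈ Y, (∀ k ∈ K, y * k = k * y) → y = 1
  cyc : ∀ y ∈ Y, y ≠ 1 → ∀ s : ℕ, s.Prime → ∀ k ∈ K, ∀ l ∈ K, orderOf k = s → orderOf l = s →
    y * k = k * y → y * l = l * y → l ∈ zpowers k
  top : ∀ (q : ℕ) (M : Subgroup G), q.Prime → M ≤ Y → Y ≤ normalizer (M : Set G) →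
    Nat.card Y = q * Nat.card M → ∀ y ∈ Y, y ≠ 1 → (∃ n, y ^ q ^ n = 1) → Free K y
  galois : ∀ (p : ℕ) (X P : Subgroup G), p.Prime → IsPGroup p X → X ≠ ⊥ → X ≤ Y → P ≤ Y →
    P ≤ normalizer (X : Set G) → K ⊓ centralizer (X : Set G) ≠ ⊥ →
    (∀ k ∈ K ⊓ centralizer (X : Set G), (∀ y ∈ P, y * k = k * y) → k = 1) →
    ∃ e : ℕ, 2 ^ e = Nat.card ↥(K ⊓ centralizer (X : Set G)) + 1 ∧
      Nat.card P = e * Nat.card ↥(P ⊓ centralizer ((K ⊓ centralizer (X : Set G) : Subgroup G) : Set G))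

variable [Finite G] {K Y : Subgroup G}

theorem Hyp.solvable (h : Hyp K Y) {H : Subgroup G} (hH : H ≤ Y) : Group.IsSolvable H :=
  OddOrder.FeitThompson.isSolvable_of_odd_card
    (h.odd.of_dvd_nat (card_dvd_of_le (hH.trans le_sup_right)))

theorem Hyp.ne_two (h : Hyp K Y) {q : ℕ} (hq : q.Prime) (hd : q ∣ Nat.card Y) : q ≠ 2 := by
  rintro rfl
  exact Nat.not_even_iff_odd.2 (h.odd.of_dvd_nat (card_dvd_of_le le_sup_right))
    (even_iff_two_dvd.2 hd)

/-- A normal subgroup with abelian quotient: the primes of the index have free elements only. -/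
theorem Hyp.free_of_abelian (h : Hyp K Y) {M : Subgroup G} (hM : M ≤ Y)
    (hn : Y ≤ normalizer (M : Set G)) (hc : ∀ a ∈ Y, ∀ b ∈ Y, a * b * a⁻¹ * b⁻¹ ∈ M) {i s : ℕ}
    (hi : Nat.card Y = i * Nat.card M) (hs : s.Prime) (hsi : s ∣ i) {y : G} (hy : y ∈ Y)
    (hy1 : y ≠ 1) (hys : ∃ n, y ^ s ^ n = 1) : Free K y := by
  set M' := M.subgroupOf Y with hM'
  haveI : M'.Normal := (normal_subgroupOf_iff_le_normalizer hM).2 hn
  letI : CommGroup (Y ⧸ M') := { (inferInstance : Group (Y ⧸ M')) with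
    mul_comm := fun x z => by
      obtain ⟨x, rfl⟩ := QuotientGroup.mk'_surjective M' x
      obtain ⟨z, rfl⟩ := QuotientGroup.mk'_surjective M' z
      refine commutatorElement_eq_one_iff_mul_comm.1 ?_
      rw [← map_commutatorElement]
      exact (QuotientGroup.eq_one_iff _).2 (hc x x.2 z z.2) }
  have hcM : Nat.card M' = Nat.card M := Nat.card_congr (subgroupOfEquivOfLe hM).toEquiv
  have hQ : Nat.card (Y ⧸ M') = i := by
    have h1 := Subgroup.card_eq_card_quotient_mul_card_subgroup M'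
    rw [hcM, hi] at h1
    exact (Nat.eq_of_mul_eq_mul_right Nat.card_pos h1).symm
  obtain ⟨N, hN⟩ := exists_index_of_dvd (Q := Y ⧸ M') hs (hQ ▸ hsi)
  set N' := N.comap (QuotientGroup.mk' M') with hN'
  have hidx : N'.index = s := (index_comap_of_surjective N (QuotientGroup.mk'_surjective M')).trans hN
  haveI : N'.Normal := Subgroup.Normal.comap inferInstance _
  refine h.top s (N'.map Y.subtype) hs (map_subtype_le _) ?_ ?_ y hy hy1 hys
  · refine (normal_subgroupOf_iff_le_normalizer (map_subtype_le _)).1 ?_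
    rw [show (N'.map Y.subtype).subgroupOf Y = N' from comap_map_eq_self_of_injective
      Y.subtype_injective N']
    infer_instance
  · rw [card_map_of_injective Y.subtype_injective, ← N'.index_mul_card, hidx]

/-- The derived subgroup as a subgroup of `G`. -/
theorem derived_props (H : Subgroup G) :
    ⁅H, H⁆ ≤ H ∧ H ≤ normalizer ((⁅H, H⁆ : Subgroup G) : Set G) ∧
      ∀ a ∈ H, ∀ b ∈ H, a * b * a⁻¹ * b⁻¹ ∈ ⁅H, H⁆ :=
  ⟨commutator_le.2 fun a ha b hb => by
      rw [commutatorElement_def]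
      exact H.mul_mem (H.mul_mem (H.mul_mem ha hb) (H.inv_mem ha)) (H.inv_mem hb),
    Coprime.left_le_normalizer_commutator H H,
    fun a ha b hb => by
      rw [← commutatorElement_def]
      exact commutator_mem_commutator ha hb⟩

theorem derived_ne (h : Hyp K Y) {H : Subgroup G} (hH : H ≤ Y) (hne : H ≠ ⊥) : ⁅H, H⁆ ≠ H := by
  haveI := h.solvable hH
  intro e
  haveI := (nontrivial_iff_ne_bot H).2 hne
  refine (Group.IsSolvable.commutator_lt_top_of_nontrivial (G := H)).ne ?_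
  refine map_injective H.subtype_injective ?_
  rw [Subgroup.map_subtype_commutator, ← MonoidHom.range_eq_map, range_subtype]
  exact e

/-- There is a prime all whose elements are free, with an element of that order. -/
theorem Hyp.exists_top (h : Hyp K Y) (hY : Y ≠ ⊥) :
    ∃ (q : ℕ) (τ : G), q.Prime ∧ τ ∈ Y ∧ orderOf τ = q ∧
      ∀ y ∈ Y, y ≠ 1 → (∃ n, y ^ q ^ n = 1) → Free K y := by
  obtain ⟨hle, hn, hc⟩ := derived_props Y
  obtain ⟨i, hi⟩ := card_dvd_of_le hle
  have hi1 : i ≠ 1 := fun e => derived_ne h le_rfl hY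
    (eq_of_le_of_card_ge hle (by rw [hi, e, mul_one]))
  obtain ⟨q, hq, hqi⟩ := Nat.exists_prime_and_dvd hi1
  haveI := Fact.mk hq
  obtain ⟨τ, hτ⟩ := exists_prime_orderOf_dvd_card' q
    (hi ▸ Dvd.dvd.mul_left hqi _ : q ∣ Nat.card Y)
  refine ⟨q, τ, hq, τ.2, by rw [Subgroup.orderOf_coe, hτ], fun y hy hy1 hys => ?_⟩
  exact h.free_of_abelian hle hn hc (hi.trans (mul_comm _ _)) hq hqi hy hy1 hys

/-- A non-free element gives a non-free element of prime order in some `O_p`. -/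
theorem Hyp.exists_good_core (h : Hyp K Y) (hgood : ∃ y ∈ Y, y ≠ 1 ∧ ¬ Free K y) :
    ∃ (p : ℕ) (z : Y), p.Prime ∧ z ∈ Cfsg.pCore p Y ∧ orderOf z = p ∧ ¬ Free K z := by
  obtain ⟨y, hy, hy1, hyg⟩ := hgood
  obtain ⟨p, hp, hpy⟩ := Nat.exists_prime_and_dvd (mt orderOf_eq_one_iff.1 hy1)
  haveI := Fact.mk hp
  set z : Y := (⟨y, hy⟩ : Y) ^ (orderOf y / p) with hz
  have hzo : orderOf z = p := by
    have h1 : orderOf (⟨y, hy⟩ : Y) = orderOf y := Subgroup.orderOf_mk y hy
    rw [hz, ← h1]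
    exact orderOf_pow_orderOf_div (orderOf_pos _).ne' (h1 ▸ hpy)
  have hzg : ¬ Free K z := fun hf => hyg (Free.of_pow (n := orderOf y / p) (by simpa [hz] using hf))
  by_contra hno
  push Not at hno
  haveI := h.solvable (le_refl Y)
  -- the derived subgroup centralises `F(Y)`
  have hcore : ∀ (s : Nat.Primes), commutator Y ≤
      centralizer (Cfsg.pCore (s : ℕ) Y : Set Y) := by
    intro s
    haveI : Fact (s : ℕ).Prime := ⟨s.2⟩
    haveI : (Cfsg.pCore (s : ℕ) Y).Normal := inferInstance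
    have hP : IsPGroup (s : ℕ) (Cfsg.pCore (s : ℕ) Y) := Cores.pCore_isPGroup _
    by_cases hbot : Cfsg.pCore (s : ℕ) Y = ⊥
    · intro c _
      rw [hbot]
      refine mem_centralizer_iff.2 fun x hx => ?_
      rw [Subgroup.mem_bot.1 hx, one_mul, mul_one]
    have hs2 : (s : ℕ) ≠ 2 := h.ne_two s.2 (by
      obtain ⟨n, hn⟩ := IsPGroup.iff_card.1 hP
      have h1 : n ≠ 0 := fun e => hbot (eq_bot_of_card_eq _ (by rw [hn, e, pow_zero]))
      exact (dvd_pow_self _ h1).trans (hn ▸ card_subgroup_dvd_card _))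
    have hfree : ∀ x ∈ Cfsg.pCore (s : ℕ) Y, orderOf x = (s : ℕ) → Free K x := fun x hx ho =>
      hno s x s.2 hx ho
    haveI : IsCyclic (Cfsg.pCore (s : ℕ) Y) := by
      refine PGroups.isCyclic_of_unique_prime hs2 hP ?_
      haveI := (nontrivial_iff_ne_bot (Cfsg.pCore (s : ℕ) Y)).2 hbot
      haveI := hP.center_nontrivial
      obtain ⟨c, hc⟩ := exists_prime_orderOf_dvd_card' (s : ℕ)
        (G := Subgroup.center (Cfsg.pCore (s : ℕ) Y)) (by
          obtain ⟨n, hn⟩ := IsPGroup.iff_card.1 (hP.to_subgroup (Subgroup.center _))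
          have h1 : n ≠ 0 := fun e => by
            rw [e, pow_zero] at hn
            exact (Finite.one_lt_card (α := Subgroup.center (Cfsg.pCore (s : ℕ) Y))).ne' hn
          exact hn ▸ dvd_pow_self _ h1)
      set c' : Cfsg.pCore (s : ℕ) Y := c.1 with hc'
      have hco : orderOf c' = (s : ℕ) := by rw [hc', Subgroup.orderOf_coe, hc]
      have key : ∀ x : Cfsg.pCore (s : ℕ) Y, orderOf x = (s : ℕ) → x ∈ zpowers c' := by
        intro x hxo
        by_contra hx
        have hxc : Commute c' x := (Subgroup.mem_center_iff.1 c.2 x).symm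
        set E : Subgroup G := closure {((c' : Y) : G), ((x : Y) : G)} with hE
        let f : Cfsg.pCore (s : ℕ) Y →* G := Y.subtype.comp (Cfsg.pCore (s : ℕ) Y).subtype
        have hf : Function.Injective f :=
          Y.subtype_injective.comp (Cfsg.pCore (s : ℕ) Y).subtype_injective
        have hEle : E ≤ (closure ({c', x} : Set (Cfsg.pCore (s : ℕ) Y))).map f := by
          rw [MonoidHom.map_closure, hE, Set.image_pair]
          exact le_rfl
        have hpow : ∀ w ∈ closure ({c', x} : Set (Cfsg.pCore (s : ℕ) Y)), w ^ (s : ℕ) = 1 := by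
          intro w hw
          have hw' : w ∈ ((zpowers c' ⊔ zpowers x : Subgroup _) : Set _) :=
            (closure_le _).2 (Set.insert_subset (mem_sup_left (mem_zpowers c'))
              (Set.singleton_subset_iff.2 (mem_sup_right (mem_zpowers x)))) hw
          rw [coe_mul_of_right_le_normalizer_left (zpowers c') (zpowers x) (zpowers_le.2
            (centralizer_le_normalizer _ (mem_centralizer_iff.2 fun g hg => by
              obtain ⟨i, rfl⟩ := Subgroup.mem_zpowers_iff.1 hg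
              exact (hxc.zpow_left i).eq)))] at hw'
          obtain ⟨_, ⟨i, rfl⟩, _, ⟨j, rfl⟩, rfl⟩ := hw'
          dsimp only
          have hcs : c' ^ (s : ℕ) = 1 := orderOf_dvd_iff_pow_eq_one.1 hco.dvd
          have hxs : x ^ (s : ℕ) = 1 := orderOf_dvd_iff_pow_eq_one.1 hxo.dvd
          rw [((hxc.zpow_left i).zpow_right j).mul_pow, ← zpow_natCast, ← zpow_mul, mul_comm i,
            zpow_mul, zpow_natCast, hcs, one_zpow, ← zpow_natCast, ← zpow_mul, mul_comm j, zpow_mul,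
            zpow_natCast, hxs, one_zpow, mul_one]
        have hEK : E ≤ normalizer (K : Set G) := fun g hg => by
          obtain ⟨w, -, rfl⟩ := hEle hg
          exact h.norm (w : Y).2
        haveI : IsMulCommutative K := ⟨⟨fun a b => Subtype.ext (h.comm a a.2 b b.2)⟩⟩
        have hρ := Frobenius.isFPF_conj (A := E) (V := K) hEK fun g hg hg1 => by
          obtain ⟨w, hw, rfl⟩ := hEle hg
          refine (Subgroup.eq_bot_iff_forall _).2 fun k hk => ?_
          refine hfree (w : Y) w.2 ?_ k hk.1 (mem_centralizer_singleton_iff.1 hk.2).symm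
          rw [Subgroup.orderOf_coe]
          exact orderOf_eq_prime (hpow w hw) fun e => hg1 (by rw [e, map_one])
        letI : CommGroup K := { (inferInstance : Group K) with
          mul_comm := fun a b => Subtype.ext (h.comm a a.2 b b.2) }
        haveI : Nontrivial K := by
          obtain ⟨k, hk, -, hk1⟩ : ∃ k, k ∈ K ∧ (z : G) * k = k * z ∧ k ≠ 1 := by
            simpa [Free] using hzg
          exact ⟨⟨⟨k, hk⟩, 1, fun e => hk1 (congrArg Subtype.val e)⟩⟩
        have h2 := hρ.mem_zpowers_of_commute s.2 (x := ⟨f c', subset_closure (Or.inl rfl)⟩)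
          (y := ⟨f x, subset_closure (Or.inr rfl)⟩)
          (by rw [Subgroup.orderOf_mk, orderOf_injective f hf, hco])
          (Subtype.ext (by
            show f x ^ (s : ℕ) = 1
            rw [← map_pow, orderOf_dvd_iff_pow_eq_one.1 hxo.dvd, map_one]))
          (Subtype.ext (by
            show f c' * f x = f x * f c'
            rw [← map_mul, hxc.eq, map_mul]))
        obtain ⟨i, hi⟩ := Subgroup.mem_zpowers_iff.1 h2
        exact hx (Subgroup.mem_zpowers_iff.2 ⟨i, hf (by simpa using congrArg Subtype.val hi)⟩)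
      intro x w hxo hwo
      have h1 : zpowers x = zpowers c' := eq_of_le_of_card_ge (zpowers_le.2 (key x hxo))
        (by rw [Nat.card_zpowers, Nat.card_zpowers, hxo, hco])
      rw [h1]
      exact key w hwo
    rw [_root_.commutator_def, commutator_le]
    intro a _ b _
    refine mem_centralizer_iff.2 fun x hx => ?_
    rw [commutatorElement_def]
    exact (commutator_centralizes_cyclic (A := Cfsg.pCore (s : ℕ) Y)
      (by rw [normalizer_eq_top_iff.2 ‹(Cfsg.pCore (s : ℕ) Y).Normal›]; exact mem_top a)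
      (by rw [normalizer_eq_top_iff.2 ‹(Cfsg.pCore (s : ℕ) Y).Normal›]; exact mem_top b) hx).symm
  have hzd : z ∈ commutator Y := by
    obtain ⟨hle, hn, hc⟩ := derived_props Y
    obtain ⟨i, hi⟩ := card_dvd_of_le hle
    have hcop : ¬ p ∣ i := fun hpi => hzg (h.free_of_abelian hle hn hc (hi.trans (mul_comm _ _))
      hp hpi z.2 (fun e => hp.ne_one (by
        rw [← hzo, show z = 1 from Subtype.ext e, orderOf_one]))
      ⟨1, by rw [pow_one, ← hzo, ← Subgroup.orderOf_coe, pow_orderOf_eq_one]⟩)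
    refine (QuotientGroup.eq_one_iff z).1 (orderOf_eq_one_iff.1 ?_)
    have hcard : Nat.card (Y ⧸ commutator Y) = i := by
      have h1 := Subgroup.card_eq_card_quotient_mul_card_subgroup (commutator Y)
      rw [show Nat.card (commutator Y) = Nat.card (⁅Y, Y⁆ : Subgroup G) by
        rw [← card_map_of_injective Y.subtype_injective, Subgroup.map_subtype_commutator], hi,
        mul_comm] at h1
      exact (Nat.eq_of_mul_eq_mul_right Nat.card_pos h1).symm
    refine Nat.Coprime.eq_one_of_dvd ((hp.coprime_iff_not_dvd.2 hcop).coprime_dvd_left ?_)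
      (hcard ▸ orderOf_dvd_natCard _)
    rw [← hzo]
    exact orderOf_map_dvd (QuotientGroup.mk' (commutator Y)) z
  have hzC : z ∈ centralizer (Cfsg.fittingSubgroup Y : Set Y) := by
    rw [Cores.fittingSubgroup_eq_iSup_pCore]
    have h1 : (⨆ s : Nat.Primes, Cfsg.pCore (s : ℕ) Y) ≤ centralizer ({z} : Set Y) :=
      iSup_le fun s x hx => mem_centralizer_singleton_iff.2
        (mem_centralizer_iff.1 (hcore s hzd) x hx)
    exact mem_centralizer_iff.2 fun x hx => mem_centralizer_singleton_iff.1 (h1 hx)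
  exact hzg (hno p z hp (OddLocal.DerivedFitting.mem_pCore_of_mem_fitting
    (Cores.centralizer_fittingSubgroup_le hzC) ⟨1, by rw [hzo, pow_one]⟩) hzo)

/-- The commutator of a free element with an invariant `p`-group centralises the other parts. -/
theorem Hyp.commutator_parts (h : Hyp K Y) {p q : ℕ} [Fact p.Prime] {P : Subgroup G}
    (hP : IsPGroup p P) (hPY : P ≤ Y) {τ : G} (hq : q.Prime) (hτY : τ ∈ Y) (hτ : orderOf τ = q)
    (hfree : Free K τ) (hτP : τ ∈ normalizer (P : Set G)) (hqp : q ≠ p) {x : G} (hx : x ∈ P)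
    {s : ℕ} (hs : s.Prime) (hsp : s ≠ p) {k : G} (hk : k ∈ K) (hks : ∃ j, orderOf k = s ^ j) :
    (x * τ * x⁻¹ * τ⁻¹) * k = k * (x * τ * x⁻¹ * τ⁻¹) := by
  obtain ⟨j, hj⟩ := hks
  by_cases hk1 : k = 1
  · rw [hk1, one_mul, mul_one]
  have hj0 : j ≠ 0 := fun e => hk1 (orderOf_eq_one_iff.1 (by rw [hj, e, pow_zero]))
  have hqs : q ≠ s := fun e => not_dvd_of_free h.comm hq hτ (h.norm hτY) hfree
    (e ▸ ((hj ▸ dvd_pow_self s hj0 : s ∣ orderOf k).trans (K.orderOf_dvd_natCard hk)))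
  haveI := Fact.mk hq
  haveI := Fact.mk hs
  exact commutator_centralizes hqp hqs hsp.symm h.odd ((tors_le h.comm _).trans le_sup_left)
    (hPY.trans le_sup_right) (isPGroup_tors_pow h.comm s _) hP
    (mem_sup_right hτY) hτ (hPY.trans (h.norm.trans (le_normalizer_tors h.comm _)))
    (le_normalizer_tors h.comm _ (h.norm hτY)) hτP (fun w hw hc => hfree w hw.1 hc) hx
    (mem_tors_proj h.comm hs hk hj)

/-- An element of `Y` centralising all primary parts of `K` is trivial. -/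
theorem Hyp.eq_one_of_parts (h : Hyp K Y) {v : G} (hv : v ∈ Y)
    (hc : ∀ s : ℕ, s.Prime → ∀ k ∈ K, (∃ j, orderOf k = s ^ j) → v * k = k * v) : v = 1 :=
  h.faith v hv (commute_of_parts hc)

/-- A normal `p`-subgroup with non-trivial fixed group. -/
theorem Hyp.exists_abelian_good (h : Hyp K Y) (hgood : ∃ y ∈ Y, y ≠ 1 ∧ ¬ Free K y) :
    ∃ (p : ℕ) (X : Subgroup G), p.Prime ∧ IsPGroup p X ∧ X ≠ ⊥ ∧ X ≤ Y ∧
      Y ≤ normalizer (X : Set G) ∧ K ⊓ centralizer (X : Set G) ≠ ⊥ := by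
  have hY : Y ≠ ⊥ := fun e => by
    obtain ⟨y, hy, hy1, -⟩ := hgood
    exact hy1 (Subgroup.mem_bot.1 (e ▸ hy))
  obtain ⟨p, z, hp, hzO, hzo, hzg⟩ := h.exists_good_core hgood
  haveI := Fact.mk hp
  set P0 : Subgroup G := (Cfsg.pCore p Y).map Y.subtype with hP0def
  have hP0 : IsPGroup p P0 := (Cores.pCore_isPGroup p).map _
  have hP0Y : P0 ≤ Y := map_subtype_le _
  haveI hN : (Cfsg.pCore p Y).Normal := inferInstance
  have hP0n : Y ≤ normalizer (P0 : Set G) := (normal_subgroupOf_iff_le_normalizer hP0Y).1 (by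
    rw [hP0def, show ((Cfsg.pCore p Y).map Y.subtype).subgroupOf Y = Cfsg.pCore p Y from
      comap_map_eq_self_of_injective Y.subtype_injective _]
    exact hN)
  set X := KAbelian.zOne P0 p with hXdef
  have hXP0 : X ≤ P0 := fun g hg => hg.1
  have hXn : Y ≤ normalizer (X : Set G) := fun y hy => KAbelian.mem_normalizer_zOne (hP0n hy)
  have hzP0 : (z : G) ∈ P0 := ⟨z, hzO, rfl⟩
  have hzo' : orderOf (z : G) = p := by rw [Subgroup.orderOf_coe, hzo]
  have hz1 : (z : G) ≠ 1 := fun e => by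
    rw [e, orderOf_one] at hzo'
    exact hp.ne_one hzo'.symm
  have hXne : X ≠ ⊥ := by
    haveI := (nontrivial_iff_ne_bot P0).2 fun e => hz1 (Subgroup.mem_bot.1 (e ▸ hzP0))
    haveI := hP0.center_nontrivial
    obtain ⟨n, hn⟩ := IsPGroup.iff_card.1 (hP0.to_subgroup (Subgroup.center P0))
    have hn0 : n ≠ 0 := fun e => by
      rw [e, pow_zero] at hn
      exact (Finite.one_lt_card (α := Subgroup.center P0)).ne' hn
    obtain ⟨c, hc⟩ := exists_prime_orderOf_dvd_card' p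
      (hn ▸ dvd_pow_self p hn0 : p ∣ Nat.card (Subgroup.center P0))
    have hco : orderOf ((c : P0) : G) = p := by rw [Subgroup.orderOf_coe, Subgroup.orderOf_coe, hc]
    intro e
    have hcX : ((c : P0) : G) ∈ X := ⟨(c : P0).2, by rw [← hco, pow_orderOf_eq_one], fun y hy =>
      congrArg Subtype.val (Subgroup.mem_center_iff.1 c.2 ⟨y, hy⟩).symm⟩
    rw [e, Subgroup.mem_bot] at hcX
    rw [hcX, orderOf_one] at hco
    exact hp.ne_one hco.symm
  refine ⟨p, X, hp, hP0.to_le hXP0, hXne, hXP0.trans hP0Y, hXn, ?_⟩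
  have hof : ∀ {k : G}, k ∈ K → k ≠ 1 → (∀ x ∈ X, x * k = k * x) →
      K ⊓ centralizer (X : Set G) ≠ ⊥ := fun {k} hk hk1 hc e =>
    hk1 (Subgroup.mem_bot.1 (e ▸ ⟨hk, mem_centralizer_iff.2 hc⟩ : k ∈ (⊥ : Subgroup G)))
  by_cases hpK : p ∣ Nat.card K
  · obtain ⟨k, hk, hk1, hc⟩ := exists_fixed (hP0.to_le hXP0) (hXP0.trans (hP0Y.trans h.norm)) hpK
    exact hof hk hk1 hc
  obtain ⟨q, τ, hq, hτY, hτ, htop⟩ := h.exists_top hY
  haveI := Fact.mk hq
  have hτ1 : τ ≠ 1 := fun e => hq.ne_one (by rw [← hτ, e, orderOf_one])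
  have hτf : Free K τ := htop τ hτY hτ1 ⟨1, by rw [pow_one, ← hτ, pow_orderOf_eq_one]⟩
  have hqp : q ≠ p := fun e => hzg (htop z z.2 hz1 ⟨1, by
    rw [pow_one, e, ← hzo', pow_orderOf_eq_one]⟩)
  have hτc : ∀ x ∈ P0, x * τ = τ * x := by
    intro x hx
    have hv : x * τ * x⁻¹ * τ⁻¹ = 1 := h.eq_one_of_parts
      (Y.mul_mem (Y.mul_mem (Y.mul_mem (hP0Y hx) hτY) (Y.inv_mem (hP0Y hx))) (Y.inv_mem hτY))
      fun s hs k hk hks => by
        by_cases hsp : s = p
        · obtain ⟨j, hj⟩ := hks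
          have hk1 : k = 1 := orderOf_eq_one_iff.1 (by
            by_contra hne
            have hj0 : j ≠ 0 := fun e => hne (by rw [hj, e, pow_zero])
            exact hpK (hsp ▸ (hj ▸ dvd_pow_self s hj0 : s ∣ orderOf k).trans
              (K.orderOf_dvd_natCard hk)))
          rw [hk1, one_mul, mul_one]
        · exact h.commutator_parts hP0 hP0Y hq hτY hτ hτf (hP0n hτY) hqp hx hs hsp hk hks
    exact mul_inv_eq_iff_eq_mul.1 (mul_inv_eq_one.1 hv)
  -- the Galois group of `C_K(z)` has order `q`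
  set Z0 := zpowers (z : G) with hZ0
  set C1 := K ⊓ centralizer (Z0 : Set G) with hC1
  have hC1ne : C1 ≠ ⊥ := by
    intro e
    refine hzg fun k hk hc => Subgroup.mem_bot.1 (e ▸ ⟨hk, ?_⟩ : k ∈ (⊥ : Subgroup G))
    refine mem_centralizer_iff.2 fun w hw => ?_
    obtain ⟨i, rfl⟩ := Subgroup.mem_zpowers_iff.1 hw
    exact (Commute.zpow_left hc i).eq
  have hZ0p : IsPGroup p Z0 := IsPGroup.of_card (n := 1) (by rw [Nat.card_zpowers, hzo', pow_one])
  have hZ0ne : Z0 ≠ ⊥ := fun e => hz1 (Subgroup.mem_bot.1 (e ▸ mem_zpowers (z : G)))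
  have hnorm : ∀ {g : G}, g * z = (z : G) * g → g ∈ normalizer (Z0 : Set G) := fun {g} hg =>
    centralizer_le_normalizer _ (mem_centralizer_iff.2 fun w hw => by
      obtain ⟨i, rfl⟩ := Subgroup.mem_zpowers_iff.1 hw
      exact ((show Commute g (z : G) from hg).zpow_right i).eq.symm)
  have hτz : τ * z = (z : G) * τ := (hτc z hzP0).symm
  obtain ⟨e, he, hPe⟩ := h.galois p Z0 (zpowers τ) hp hZ0p hZ0ne (zpowers_le.2 z.2)
    (zpowers_le.2 hτY) (zpowers_le.2 (hnorm hτz)) hC1ne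
    (fun k hk hc => hτf k hk.1 (hc τ (mem_zpowers τ)))
  have hbot : zpowers τ ⊓ centralizer (C1 : Set G) = ⊥ := by
    refine (Subgroup.eq_bot_iff_forall _).2 fun w hw => ?_
    by_contra hw1
    obtain ⟨k, hk, hk1⟩ := (Subgroup.bot_or_exists_ne_one C1).resolve_left hC1ne
    exact hk1 (free_zpowers hq hτ hτf hw.1 hw1 k hk.1 (mem_centralizer_iff.1 hw.2 k hk).symm)
  rw [← hC1, hbot, Subgroup.card_bot, mul_one, Nat.card_zpowers, hτ] at hPe
  subst hPe
  obtain ⟨k, hk, hk1⟩ := (Subgroup.bot_or_exists_ne_one C1).resolve_left hC1ne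
  refine hof hk.1 hk1 fun x hx => ?_
  by_cases hx1 : x = 1
  · rw [hx1, one_mul, mul_one]
  have hxo : orderOf x = p := orderOf_eq_prime hx.2.1 hx1
  have hxτ : Commute τ x := (hτc x (hXP0 hx)).symm
  have hcop : (orderOf τ).Coprime (orderOf x) := by
    rw [hτ, hxo]; exact (Nat.coprime_primes hq hp).2 hqp
  set w := τ * x with hw
  have hwo : orderOf w = q * p := by rw [hw, hxτ.orderOf_mul_eq_mul_orderOf_of_coprime hcop, hτ, hxo]
  obtain ⟨e', he', hPe'⟩ := h.galois p Z0 (zpowers w) hp hZ0p hZ0ne (zpowers_le.2 z.2)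
    (zpowers_le.2 (Y.mul_mem hτY (hP0Y (hXP0 hx))))
    (zpowers_le.2 (mul_mem (hnorm hτz) (hnorm (hx.2.2 z hzP0)))) hC1ne
    (fun l hl hc => by
      refine free_zpowers hq hτ hτf (z := τ ^ p) (pow_mem (mem_zpowers τ) _) (fun h1 => ?_) l hl.1 ?_
      · exact (mt (Nat.prime_dvd_prime_iff_eq hq hp).1 hqp) (hτ ▸ orderOf_dvd_of_pow_eq_one h1)
      · have h1 : Commute w l := hc w (mem_zpowers w)
        have h2 := (h1.pow_left p).eq
        rwa [hw, hxτ.mul_pow, hx.2.1, mul_one] at h2)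
  have hee : e' = q := Nat.pow_right_injective le_rfl (he'.trans he.symm)
  rw [hee, Nat.card_zpowers, hwo] at hPe'
  have hc : Nat.card ↥(zpowers w ⊓ centralizer (C1 : Set G)) = p :=
    (Nat.eq_of_mul_eq_mul_left hq.pos hPe').symm
  haveI : ((zpowers w ⊓ centralizer (C1 : Set G)).subgroupOf (zpowers w)).Normal :=
    normal_of_isMulCommutative _
  have hidx : ((zpowers w ⊓ centralizer (C1 : Set G)).subgroupOf (zpowers w)).index = q := by
    have h1 := ((zpowers w ⊓ centralizer (C1 : Set G)).subgroupOf (zpowers w)).index_mul_card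
    rw [Nat.card_congr (subgroupOfEquivOfLe (inf_le_left : zpowers w ⊓ centralizer (C1 : Set G) ≤
      zpowers w)).toEquiv, hc, Nat.card_zpowers, hwo] at h1
    exact Nat.eq_of_mul_eq_mul_right hp.pos h1
  have h2 : w ^ q ∈ centralizer (C1 : Set G) := by
    have h3 := Subgroup.pow_index_mem ((zpowers w ⊓ centralizer (C1 : Set G)).subgroupOf (zpowers w))
      ⟨w, mem_zpowers w⟩
    rw [hidx] at h3
    exact (mem_subgroupOf.1 h3).2
  rw [hw, hxτ.mul_pow, ← hτ, pow_orderOf_eq_one, one_mul, hτ] at h2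
  obtain ⟨n, hn⟩ := exists_pow_eq_self_of_coprime (x := x) (n := q)
    (by rw [hxo]; exact (Nat.coprime_primes hq hp).2 hqp)
  have h3 : Commute (x ^ q) k := (mem_centralizer_iff.1 h2 k hk).symm
  rw [← hn]
  exact (h3.pow_left n).eq

/-- The kernel `N₀` of the action on a fixed group, of prime index `q`. -/
structure Base (K Y N₀ : Subgroup G) (τ : G) (q : ℕ) : Prop where
  prime : q.Prime
  memY : τ ∈ Y
  order : orderOf τ = q
  free : ∀ z ∈ zpowers τ, z ≠ 1 → Free K z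
  allFree : ∀ y ∈ Y, y ≠ 1 → (∃ n, y ^ q ^ n = 1) → Free K y
  le : N₀ ≤ Y
  ne_bot : N₀ ≠ ⊥
  norm : Y ≤ normalizer (N₀ : Set G)
  card : Nat.card Y = q * Nat.card N₀
  ndvd : ¬ q ∣ Nat.card N₀
  gen : N₀ ⊔ zpowers τ = Y
  onlyTop : ∀ (s : ℕ) (M : Subgroup G) (i : ℕ), s.Prime → M ≤ Y → Y ≤ normalizer (M : Set G) →
    (∀ a ∈ Y, ∀ b ∈ Y, a * b * a⁻¹ * b⁻¹ ∈ M) → Nat.card Y = i * Nat.card M → s ∣ i → s = q

/-- The kernel of the action on a fixed group has prime index. -/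
theorem Hyp.exists_base (h : Hyp K Y) (hgood : ∃ y ∈ Y, y ≠ 1 ∧ ¬ Free K y) :
    ∃ (N₀ : Subgroup G) (τ : G) (q : ℕ), Base K Y N₀ τ q := by
  have hY : Y ≠ ⊥ := fun e => by
    obtain ⟨y, hy, hy1, -⟩ := hgood
    exact hy1 (Subgroup.mem_bot.1 (e ▸ hy))
  obtain ⟨p, X, hp, hX, hXne, hXY, hXn, hC0⟩ := h.exists_abelian_good hgood
  set C0 := K ⊓ centralizer (X : Set G) with hC0def
  obtain ⟨k₀, hk₀, hk₀1⟩ := (Subgroup.bot_or_exists_ne_one C0).resolve_left hC0
  -- a free element of prime order gives the exponent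
  have hone : ∀ (s : ℕ) (σ : G), s.Prime → σ ∈ Y → orderOf σ = s → Free K σ →
      ∃ e, 2 ^ e = Nat.card C0 + 1 ∧ e = s := by
    intro s σ hs hσY hσ hσf
    obtain ⟨e, he, hPe⟩ := h.galois p X (zpowers σ) hp hX hXne hXY (zpowers_le.2 hσY)
      (zpowers_le.2 (hXn hσY)) hC0 (fun k hk hc => hσf k hk.1 (hc σ (mem_zpowers σ)))
    have hbot : zpowers σ ⊓ centralizer (C0 : Set G) = ⊥ := by
      refine (Subgroup.eq_bot_iff_forall _).2 fun w hw => ?_
      by_contra hw1
      exact hk₀1 (free_zpowers hs hσ hσf hw.1 hw1 k₀ hk₀.1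
        (mem_centralizer_iff.1 hw.2 k₀ hk₀).symm)
    rw [← hC0def, hbot, Subgroup.card_bot, mul_one, Nat.card_zpowers, hσ] at hPe
    exact ⟨e, he, hPe.symm⟩
  obtain ⟨q, τ, hq, hτY, hτ, htop⟩ := h.exists_top hY
  haveI := Fact.mk hq
  have hτ1 : τ ≠ 1 := fun e => hq.ne_one (by rw [← hτ, e, orderOf_one])
  have hτf : Free K τ := htop τ hτY hτ1 ⟨1, by rw [pow_one, ← hτ, pow_orderOf_eq_one]⟩
  obtain ⟨e, he, heq⟩ := hone q τ hq hτY hτ hτf
  subst heq
  obtain ⟨e', he', hPe⟩ := h.galois p X Y hp hX hXne hXY le_rfl hXn hC0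
    (fun k hk hc => hτf k hk.1 (hc τ hτY))
  rw [Nat.pow_right_injective le_rfl (he'.trans he.symm), ← hC0def] at hPe
  set N₀ := Y ⊓ centralizer (C0 : Set G) with hN₀
  have hnd : ¬ e ∣ Nat.card N₀ := by
    intro hd
    obtain ⟨w, hw⟩ := exists_prime_orderOf_dvd_card' e hd
    have hwo : orderOf (w : G) = e := by rw [Subgroup.orderOf_coe, hw]
    have hw1 : (w : G) ≠ 1 := fun e1 => hq.ne_one (by rw [← hwo, e1, orderOf_one])
    exact hk₀1 (htop w w.2.1 hw1 ⟨1, by rw [pow_one, ← hwo, pow_orderOf_eq_one]⟩ k₀ hk₀.1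
      (mem_centralizer_iff.1 w.2.2 k₀ hk₀).symm)
  have hYC : Y ≤ normalizer (C0 : Set G) := fun y hy => by
    refine mem_normalizer_iff.2 fun k => and_congr ?_ ?_
    · exact mem_normalizer_iff.1 (h.norm hy) k
    · have h1 := centralizer_le_normalizer (X : Set G)
      constructor
      · intro hk
        refine mem_centralizer_iff.2 fun x hx => ?_
        have h2 := mem_centralizer_iff.1 hk _ ((mem_normalizer_iff''.1 (hXn hy) x).1 hx)
        calc x * (y * k * y⁻¹) = y * (y⁻¹ * x * y * k) * y⁻¹ := by group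
          _ = y * k * y⁻¹ * x := by rw [h2]; group
      · intro hk
        refine mem_centralizer_iff.2 fun x hx => ?_
        have h2 := mem_centralizer_iff.1 hk _ ((mem_normalizer_iff.1 (hXn hy) x).1 hx)
        calc x * k = y⁻¹ * (y * x * y⁻¹ * (y * k * y⁻¹)) * y := by group
          _ = k * x := by rw [h2]; group
  refine ⟨N₀, τ, e, hq, hτY, hτ, fun z hz hz1 => free_zpowers hq hτ hτf hz hz1, htop, inf_le_left,
    ?_, ?_, hPe, hnd, ?_, ?_⟩
  · intro e0
    refine hXne ((Subgroup.eq_bot_iff_forall _).2 fun x hx => Subgroup.mem_bot.1 (e0 ▸ ?_))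
    exact ⟨hXY hx, mem_centralizer_iff.2 fun k hk => (mem_centralizer_iff.1 hk.2 x hx).symm⟩
  · intro y hy
    refine mem_normalizer_iff.2 fun n => and_congr ?_ ?_
    · exact mem_normalizer_iff.1 (Subgroup.le_normalizer hy) n
    · constructor
      · intro hn
        refine mem_centralizer_iff.2 fun x hx => ?_
        have h2 := mem_centralizer_iff.1 hn _ ((mem_normalizer_iff''.1 (hYC hy) x).1 hx)
        calc x * (y * n * y⁻¹) = y * (y⁻¹ * x * y * n) * y⁻¹ := by group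
          _ = y * n * y⁻¹ * x := by rw [h2]; group
      · intro hn
        refine mem_centralizer_iff.2 fun x hx => ?_
        have h2 := mem_centralizer_iff.1 hn _ ((mem_normalizer_iff.1 (hYC hy) x).1 hx)
        calc x * n = y⁻¹ * (y * x * y⁻¹ * (y * n * y⁻¹)) * y := by group
          _ = n * x := by rw [h2]; group
  · refine eq_of_le_of_card_ge (sup_le inf_le_left (zpowers_le.2 hτY))
      (Nat.le_of_dvd Nat.card_pos ?_)
    rw [hPe]
    refine (hq.coprime_iff_not_dvd.2 hnd).mul_dvd_of_dvd_of_dvd ?_ (card_dvd_of_le le_sup_left)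
    rw [← hτ, ← Nat.card_zpowers τ]
    exact card_dvd_of_le le_sup_right
  · intro s M i hs hM hMn hMc hi hsi
    haveI := Fact.mk hs
    obtain ⟨σ, hσ⟩ := exists_prime_orderOf_dvd_card' s
      (hi ▸ dvd_mul_of_dvd_left hsi _ : s ∣ Nat.card Y)
    have hσo : orderOf (σ : G) = s := by rw [Subgroup.orderOf_coe, hσ]
    have hσ1 : (σ : G) ≠ 1 := fun e1 => hs.ne_one (by rw [← hσo, e1, orderOf_one])
    have hσf := h.free_of_abelian hM hMn hMc hi hs hsi σ.2 hσ1
      ⟨1, by rw [pow_one, ← hσo, pow_orderOf_eq_one]⟩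
    obtain ⟨e1, he1, hes⟩ := hone s σ hs σ.2 hσo hσf
    rw [← hes]
    exact Nat.pow_right_injective le_rfl (he1.trans he.symm)

/-- An invariant subgroup of `N₀` with an abelian, centralised factor is `N₀`. -/
theorem Base.key {N₀ : Subgroup G} {τ : G} {q : ℕ} (B : Base K Y N₀ τ q)
    {M : Subgroup G} (hM : M ≤ N₀) (hMn : Y ≤ normalizer (M : Set G))
    (hc : ∀ a ∈ N₀, ∀ b ∈ N₀, a * b * a⁻¹ * b⁻¹ ∈ M)
    (hτc : ∀ n ∈ N₀, τ * n * τ⁻¹ * n⁻¹ ∈ M) : M = N₀ := by
  have hMY : M ≤ Y := hM.trans B.le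
  set M' := M.subgroupOf Y
  haveI : M'.Normal := (normal_subgroupOf_iff_le_normalizer hMY).2 hMn
  set π := QuotientGroup.mk' M' with hπ
  have hcm : ∀ {a b : Y}, (a : G) * b * (a : G)⁻¹ * (b : G)⁻¹ ∈ M → Commute (π a) (π b) := by
    intro a b hab
    refine commutatorElement_eq_one_iff_mul_comm.1 ?_
    rw [← map_commutatorElement]
    exact (QuotientGroup.eq_one_iff _).2 hab
  set τ' : Y := ⟨τ, B.memY⟩
  have hsplit : ∀ a ∈ Y, ∃ (n : Y) (i : ℤ), (n : G) ∈ N₀ ∧ a = ((n * τ' ^ i : Y) : G) := by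
    intro a ha
    have h1 : a ∈ ((N₀ ⊔ zpowers τ : Subgroup G) : Set G) := B.gen.symm ▸ ha
    rw [coe_mul_of_right_le_normalizer_left N₀ (zpowers τ)
      (zpowers_le.2 (B.norm B.memY))] at h1
    obtain ⟨n, hn, _, ⟨i, rfl⟩, rfl⟩ := h1
    exact ⟨⟨n, B.le hn⟩, i, hn, by simp [τ']⟩
  have hall : ∀ a ∈ Y, ∀ b ∈ Y, a * b * a⁻¹ * b⁻¹ ∈ M := by
    intro a ha b hb
    obtain ⟨n, i, hn, rfl⟩ := hsplit a ha
    obtain ⟨n', j, hn', rfl⟩ := hsplit b hb
    have h1 : Commute (π n) (π n') := hcm (hc _ hn _ hn')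
    have h2 : Commute (π τ') (π n) := hcm (hτc _ hn)
    have h3 : Commute (π τ') (π n') := hcm (hτc _ hn')
    have h4 : Commute (π (n * τ' ^ i)) (π (n' * τ' ^ j)) := by
      rw [map_mul, map_mul, map_zpow, map_zpow]
      exact (h1.mul_right (h2.symm.zpow_right j)).mul_left
        ((h3.zpow_left i).mul_right ((Commute.refl (π τ')).zpow_zpow i j))
    have h5 := commutatorElement_eq_one_iff_mul_comm.2 h4.eq
    rw [← map_commutatorElement] at h5
    exact mem_subgroupOf.1 ((QuotientGroup.eq_one_iff (N := M') _).1 h5)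
  obtain ⟨i, hi⟩ := card_dvd_of_le hM
  refine eq_of_le_of_card_ge hM (Nat.le_of_eq ?_)
  rw [hi]
  suffices i = 1 by rw [this, mul_one]
  by_contra hi1
  obtain ⟨s, hs, hsi⟩ := Nat.exists_prime_and_dvd hi1
  have hsq := B.onlyTop s M (q * i) hs hMY hMn hall (by rw [B.card, hi]; ring)
    (dvd_mul_of_dvd_right hsi _)
  exact B.ndvd (hi ▸ dvd_mul_of_dvd_right (hsq ▸ hsi) _)

/-- A normal subgroup of order prime to `q` lies in `N₀`. -/
theorem Base.le_base {N₀ : Subgroup G} {τ : G} {q : ℕ} (B : Base K Y N₀ τ q) {N : Subgroup G}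
    (hN : N ≤ Y) (hq : ¬ q ∣ Nat.card N) : N ≤ N₀ := by
  intro n hn
  haveI : (N₀.subgroupOf Y).Normal := (normal_subgroupOf_iff_le_normalizer B.le).2 B.norm
  have hidx : (N₀.subgroupOf Y).index = q := by
    have h1 := (N₀.subgroupOf Y).index_mul_card
    rw [Nat.card_congr (subgroupOfEquivOfLe B.le).toEquiv, B.card] at h1
    exact Nat.eq_of_mul_eq_mul_right Nat.card_pos h1
  have h1 : n ^ q ∈ N₀ := by
    have h2 := Subgroup.pow_index_mem (N₀.subgroupOf Y) ⟨n, hN hn⟩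
    rwa [hidx] at h2
  obtain ⟨i, hi⟩ := exists_pow_eq_self_of_coprime (x := n) (n := q)
    ((B.prime.coprime_iff_not_dvd.2 fun hd => hq (hd.trans (N.orderOf_dvd_natCard hn))))
  exact hi ▸ pow_mem h1 i

/-- The conclusion: `Y = R ⋊ T`. -/
structure Shape (K Y : Subgroup G) (hK : ∀ k ∈ K, ∀ l ∈ K, k * l = l * k) (r q : ℕ)
    (R : Subgroup G) (τ : G) : Prop where
  rprime : r.Prime
  qprime : q.Prime
  rdvd : r ∣ Nat.card K
  memY : τ ∈ Y
  order : orderOf τ = q
  le : R ≤ Y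
  card : Nat.card R = r
  norm : Y ≤ normalizer (R : Set G)
  gen : R ⊔ zpowers τ = Y
  free : ∀ z ∈ zpowers τ, z ≠ 1 → Free K z ∧ Free R z
  central : ∀ x ∈ R, ∀ k ∈ tors hK (Nat.card K / r ^ (Nat.card K).factorization r), x * k = k * x
  part_ne : tors hK (Nat.card K / r ^ (Nat.card K).factorization r) ≠ ⊥
  cyclic : IsCyclic (tors hK (Nat.card K / r ^ (Nat.card K).factorization r))

set_option maxHeartbeats 1000000 in
/-- The structure of `Y`. -/
theorem Hyp.exists_shape (h : Hyp K Y) (hm : ¬ IsPrimePow (Nat.card K))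
    (hgood : ∃ y ∈ Y, y ≠ 1 ∧ ¬ Free K y) :
    ∃ (r q : ℕ) (R : Subgroup G) (τ : G), Shape K Y h.comm r q R τ := by
  obtain ⟨N₀, τ, q, B⟩ := h.exists_base hgood
  haveI := Fact.mk B.prime
  haveI := h.solvable (H := N₀) B.le
  have hτ1 : τ ≠ 1 := fun e => B.prime.ne_one (by rw [← B.order, e, orderOf_one])
  have hτf : Free K τ := B.free τ (mem_zpowers τ) hτ1
  have hτN : τ ∈ normalizer (N₀ : Set G) := B.norm B.memY
  have hcopN : (Nat.card (zpowers τ)).Coprime (Nat.card N₀) := by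
    rw [Nat.card_zpowers, B.order]; exact B.prime.coprime_iff_not_dvd.2 B.ndvd
  have hcomm : ∀ {P : Subgroup G}, P ≤ N₀ → ∀ x ∈ P, x * τ * x⁻¹ * τ⁻¹ ∈ Y := fun {P} hP x hx =>
    Y.mul_mem (Y.mul_mem (Y.mul_mem (B.le (hP hx)) B.memY) (Y.inv_mem (B.le (hP hx))))
      (Y.inv_mem B.memY)
  obtain ⟨hdle, hdn, hdc⟩ := derived_props N₀
  have hdY : Y ≤ normalizer ((⁅N₀, N₀⁆ : Subgroup G) : Set G) := by
    refine le_trans B.norm fun g hg => ?_
    rw [mem_normalizer_iff_map_conj_eq] at hg ⊢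
    rw [map_commutator]
    exact congrArg₂ (fun A B : Subgroup G => ⁅A, B⁆) hg hg
  -- some invariant Sylow subgroup of `N₀` is not centralised by `τ`
  obtain ⟨r, P₁, hr, hP₁, hP₁N, hτP₁, x₁, hx₁, hv⟩ : ∃ (r : ℕ) (P : Subgroup G), r.Prime ∧
      IsPGroup r P ∧ P ≤ N₀ ∧ τ ∈ normalizer (P : Set G) ∧ ∃ x ∈ P, x * τ ≠ τ * x := by
    by_contra hno
    push Not at hno
    have hle : N₀ ≤ centralizer {τ} := Coprime.le_of_forall_sylow fun p hp => by
      haveI := Fact.mk hp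
      obtain ⟨S, hS⟩ := Coprime.exists_invariant_sylow (zpowers_le.2 hτN) hcopN
        (Or.inl (Coprime.isSolvable_zpowers τ)) p
      exact ⟨S, fun x hx => mem_centralizer_singleton_iff.2
        (hno p _ hp (S.2.map _) (map_subtype_le _) (hS (mem_zpowers τ)) x hx)⟩
    refine derived_ne h B.le B.ne_bot (B.key hdle hdY hdc fun n hn => ?_)
    rw [← mem_centralizer_singleton_iff.1 (hle hn), mul_inv_cancel_right, mul_inv_cancel]
    exact one_mem _
  haveI := Fact.mk hr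
  have hv1 : x₁ * τ * x₁⁻¹ * τ⁻¹ ≠ 1 := fun e => hv (mul_inv_eq_iff_eq_mul.1 (mul_inv_eq_one.1 e))
  have hqp : ∀ {p : ℕ} [Fact p.Prime] {P : Subgroup G}, IsPGroup p P → P ≤ N₀ → P ≠ ⊥ → q ≠ p := by
    intro p _ P hP hPN hP1 e
    obtain ⟨n, hn⟩ := IsPGroup.iff_card.1 hP
    have hn0 : n ≠ 0 := fun e' => hP1 (eq_bot_of_card_eq _ (by rw [hn, e', pow_zero]))
    exact B.ndvd (e ▸ (hn ▸ dvd_pow_self p hn0 : p ∣ Nat.card P).trans (card_dvd_of_le hPN))
  have hP₁1 : P₁ ≠ ⊥ := fun e => hv1 (by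
    rw [Subgroup.mem_bot.1 (e ▸ hx₁ : x₁ ∈ (⊥ : Subgroup G))]; group)
  have hv' : ∀ s : ℕ, s.Prime → s ≠ r → ∀ k ∈ K, (∃ j, orderOf k = s ^ j) →
      (x₁ * τ * x₁⁻¹ * τ⁻¹) * k = k * (x₁ * τ * x₁⁻¹ * τ⁻¹) := fun s hs hsr k hk hks =>
    h.commutator_parts hP₁ (hP₁N.trans B.le) B.prime B.memY B.order hτf hτP₁
      (hqp hP₁ hP₁N hP₁1) hx₁ hs hsr hk hks
  have hrK : r ∣ Nat.card K := by
    by_contra hrK
    refine hv1 (h.eq_one_of_parts (hcomm hP₁N x₁ hx₁) fun s hs k hk hks => ?_)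
    by_cases hsr : s = r
    · obtain ⟨j, hj⟩ := hks
      have hk1 : k = 1 := orderOf_eq_one_iff.1 (by
        by_contra hne
        have hj0 : j ≠ 0 := fun e => hne (by rw [hj, e, pow_zero])
        exact hrK (hsr ▸ (hj ▸ dvd_pow_self s hj0 : s ∣ orderOf k).trans
          (K.orderOf_dvd_natCard hk)))
      rw [hk1, one_mul, mul_one]
    · exact hv' s hs hsr k hk hks
  set Z := tors h.comm (Nat.card K / r ^ (Nat.card K).factorization r) with hZdef
  have hZmem : ∀ {k : G} {s j : ℕ}, s.Prime → s ≠ r → k ∈ K → orderOf k = s ^ j → k ∈ Z := by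
    intro k s j hs hsr hk hj
    refine ⟨hk, orderOf_dvd_iff_pow_eq_one.1 ?_⟩
    refine Nat.Coprime.dvd_of_dvd_mul_left
      (m := r ^ (Nat.card K).factorization r) ?_ ?_
    · rw [hj]
      exact ((Nat.coprime_primes hs hr).2 hsr).pow _ _
    · rw [Nat.ordProj_mul_ordCompl_eq_self]
      exact K.orderOf_dvd_natCard hk
  have hcopZ : ∀ {k : G} {s : ℕ}, s.Prime → k ∈ Z → orderOf k = s → s ≠ r := by
    intro k s hs hk hks e
    have h1 := Z.orderOf_dvd_natCard hk
    rw [hks, e] at h1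
    exact not_dvd_tors_compl h.comm hr h1
  have hZne : Z ≠ ⊥ := by
    intro hZ
    refine hm ((isPrimePow_nat_iff _).2 ⟨r, (Nat.card K).factorization r, hr,
      hr.factorization_pos_of_dvd Nat.card_pos.ne' hrK, ?_⟩)
    have hu := Nat.ordProj_mul_ordCompl_eq_self (Nat.card K) r
    set v := Nat.card K / r ^ (Nat.card K).factorization r with hvdef
    by_cases hv1 : v = 1
    · rw [hv1, mul_one] at hu
      exact hu
    exfalso
    obtain ⟨s, hs, hsv⟩ := Nat.exists_prime_and_dvd hv1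
    have hsr : s ≠ r := fun e => Nat.not_dvd_ordCompl hr Nat.card_pos.ne' (e ▸ hsv)
    haveI := Fact.mk hs
    obtain ⟨k, hk⟩ := exists_prime_orderOf_dvd_card' s
      (hu ▸ dvd_mul_of_dvd_right hsv _ : s ∣ Nat.card K)
    have hk' : orderOf (k : G) = s ^ 1 := by rw [Subgroup.orderOf_coe, hk, pow_one]
    have h1 := hZmem hs hsr k.2 hk'
    rw [hZ, Subgroup.mem_bot] at h1
    rw [h1, orderOf_one, pow_one] at hk'
    exact hs.ne_one hk'.symm
  -- the centraliser of the `r'`-part is `N₀`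
  have hYZ : Y ≤ normalizer (Z : Set G) := h.norm.trans (le_normalizer_tors h.comm _)
  set N := Y ⊓ centralizer (Z : Set G) with hNdef
  have hvN : x₁ * τ * x₁⁻¹ * τ⁻¹ ∈ N := by
    refine ⟨hcomm hP₁N x₁ hx₁, mem_centralizer_iff.2 fun k hk => ?_⟩
    refine (mem_centralizer_singleton_iff.1 (OddLocal.DerivedFitting.mem_of_primePow_parts
      (H := centralizer {x₁ * τ * x₁⁻¹ * τ⁻¹}) (y := k) fun s hs z hz hzs => ?_))
    refine mem_centralizer_singleton_iff.2 ?_
    by_cases hz1 : z = 1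
    · rw [hz1, one_mul, mul_one]
    obtain ⟨j, hj⟩ := hzs
    have hj0 : j ≠ 0 := fun e => hz1 (orderOf_eq_one_iff.1 (by rw [hj, e, pow_zero]))
    have hsr : s ≠ r := fun e => by
      have h1 := (hj ▸ dvd_pow_self s hj0 : s ∣ orderOf z).trans
        (Z.orderOf_dvd_natCard (zpowers_le.2 hk hz))
      rw [e] at h1
      exact not_dvd_tors_compl h.comm hr h1
    exact (hv' s hs hsr z (zpowers_le.2 hk hz : z ∈ Z).1 ⟨j, hj⟩).symm
  haveI hZc : IsCyclic Z := isCyclic_of_lines (fun a ha b hb => h.comm a ha.1 b hb.1)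
    fun s hs k hk l hl hko hlo => h.cyc _ hvN.1 hv1 s hs k hk.1 l hl.1 hko hlo
      (mem_centralizer_iff.1 hvN.2 k hk).symm (mem_centralizer_iff.1 hvN.2 l hl).symm
  obtain ⟨k₀, hk₀, hk₀1⟩ := (Subgroup.bot_or_exists_ne_one Z).resolve_left hZne
  have hNN₀ : N ≤ N₀ := by
    refine B.le_base inf_le_left fun hd => ?_
    obtain ⟨w, hw⟩ := exists_prime_orderOf_dvd_card' q hd
    have hwo : orderOf (w : G) = q := by rw [Subgroup.orderOf_coe, hw]
    have hw1 : (w : G) ≠ 1 := fun e1 => B.prime.ne_one (by rw [← hwo, e1, orderOf_one])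
    exact hk₀1 (B.allFree w w.2.1 hw1 ⟨1, by rw [pow_one, ← hwo, pow_orderOf_eq_one]⟩ k₀ hk₀.1
      (mem_centralizer_iff.1 w.2.2 k₀ hk₀).symm)
  have hNY : Y ≤ normalizer (N : Set G) := by
    refine fun y hy => mem_normalizer_iff.2 fun n => and_congr
      (mem_normalizer_iff.1 (Subgroup.le_normalizer hy) n) ⟨fun hn => ?_, fun hn => ?_⟩
    · refine mem_centralizer_iff.2 fun x hx => ?_
      have h2 := mem_centralizer_iff.1 hn _ ((mem_normalizer_iff''.1 (hYZ hy) x).1 hx)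
      calc x * (y * n * y⁻¹) = y * (y⁻¹ * x * y * n) * y⁻¹ := by group
        _ = y * n * y⁻¹ * x := by rw [h2]; group
    · refine mem_centralizer_iff.2 fun x hx => ?_
      have h2 := mem_centralizer_iff.1 hn _ ((mem_normalizer_iff.1 (hYZ hy) x).1 hx)
      calc x * n = y⁻¹ * (y * x * y⁻¹ * (y * n * y⁻¹)) * y := by group
        _ = n * x := by rw [h2]; group
  have hYab : ∀ a ∈ Y, ∀ b ∈ Y, a * b * a⁻¹ * b⁻¹ ∈ centralizer (Z : Set G) := fun a ha b hb =>
    mem_centralizer_iff.2 fun x hx =>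
      (commutator_centralizes_cyclic (A := Z) (hYZ ha) (hYZ hb) hx).symm
  have hYmem : ∀ {a b : G}, a ∈ Y → b ∈ Y → a * b * a⁻¹ * b⁻¹ ∈ Y := fun ha hb =>
    Y.mul_mem (Y.mul_mem (Y.mul_mem ha hb) (Y.inv_mem ha)) (Y.inv_mem hb)
  have hNeq : N = N₀ := B.key hNN₀ hNY
    (fun a ha b hb => ⟨hYmem (B.le ha) (B.le hb), hYab a (B.le ha) b (B.le hb)⟩)
    fun n hn => ⟨hYmem B.memY (B.le hn), hYab τ B.memY n (B.le hn)⟩
  have hNZ : ∀ n ∈ N₀, ∀ k ∈ Z, n * k = k * n := fun n hn k hk =>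
    (mem_centralizer_iff.1 (hNeq ▸ hn : n ∈ N).2 k hk).symm
  -- two independent elements of order `r`
  obtain ⟨k, hk, l, hl, hko, hlo, hkl⟩ : ∃ k ∈ K, ∃ l ∈ K,
      orderOf k = r ∧ orderOf l = r ∧ l ∉ zpowers k := by
    by_contra hno
    push Not at hno
    haveI : IsCyclic K := isCyclic_of_lines h.comm fun s hs k hk l hl hko hlo => by
      by_cases hsr : s = r
      · exact hno k hk l hl (hsr ▸ hko) (hsr ▸ hlo)
      · have hkZ := hZmem hs hsr hk (show orderOf k = s ^ 1 by rw [pow_one, hko])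
        have hlZ := hZmem hs hsr hl (show orderOf l = s ^ 1 by rw [pow_one, hlo])
        exact h.cyc _ hvN.1 hv1 s hs k hk l hl hko hlo
          (mem_centralizer_iff.1 hvN.2 k hkZ).symm (mem_centralizer_iff.1 hvN.2 l hlZ).symm
    refine B.ne_bot (B.key (M := ⊥) bot_le (fun y _ => ?_) (fun a ha b hb => ?_)
      fun n hn => ?_).symm
    · refine mem_normalizer_iff.2 fun x => ?_
      simp [Subgroup.mem_bot, mul_inv_eq_one]
    · exact Subgroup.mem_bot.2 (h.faith _ (hYmem (B.le ha) (B.le hb)) fun x hx =>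
        commutator_centralizes_cyclic (A := K) (h.norm (B.le ha)) (h.norm (B.le hb)) hx)
    · exact Subgroup.mem_bot.2 (h.faith _ (hYmem B.memY (B.le hn)) fun x hx =>
        commutator_centralizes_cyclic (A := K) (h.norm B.memY) (h.norm (B.le hn)) hx)
  have hline : ∀ {R : Subgroup G}, IsPGroup r R → R ≤ N₀ → Nat.card R ≤ r := by
    intro R hR hRN
    refine card_le_of_line hR (V := tors h.comm r)
      ((hRN.trans (B.le.trans h.norm)).trans (le_normalizer_tors h.comm r)) (fun v hv => hv.2)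
      ⟨k, ⟨hk, hko ▸ pow_orderOf_eq_one k⟩, l, ⟨hl, hlo ▸ pow_orderOf_eq_one l⟩,
        fun e => hr.ne_one (by rw [← hko, e, orderOf_one]), hkl⟩ ?_
    intro x hx hx1 a ha b hb ha1 hxa hxb
    by_cases hb1 : b = 1
    · rw [hb1]; exact one_mem _
    exact h.cyc x (B.le (hRN hx)) hx1 r hr a ha.1 b hb.1 (orderOf_eq_prime ha.2 ha1)
      (orderOf_eq_prime hb.2 hb1) hxa hxb
  -- the other invariant subgroups of prime power order are centralised
  have hother : ∀ {p : ℕ} [Fact p.Prime] {P : Subgroup G}, p ≠ r → IsPGroup p P → P ≤ N₀ →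
      τ ∈ normalizer (P : Set G) → ∀ x ∈ P, x * τ = τ * x := by
    intro p _ P hpr hP hPN hτP x hx
    by_cases hP1 : P = ⊥
    · rw [Subgroup.mem_bot.1 (hP1 ▸ hx : x ∈ (⊥ : Subgroup G)), one_mul, mul_one]
    refine mul_inv_eq_iff_eq_mul.1 (mul_inv_eq_one.1
      (h.eq_one_of_parts (hcomm hPN x hx) fun s hs a ha has => ?_))
    by_cases hsp : s = p
    · obtain ⟨j, hj⟩ := has
      exact hNZ _ (N₀.mul_mem (hPN hx) ((mem_normalizer_iff.1 hτN _).1 (N₀.inv_mem (hPN hx))) |>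
        fun h1 => by rwa [← mul_assoc, ← mul_assoc] at h1) a
          (hZmem hs (hsp ▸ hpr) ha hj)
    · exact h.commutator_parts hP (hPN.trans B.le) B.prime B.memY B.order hτf hτP
        (hqp hP hPN hP1) hx hs hsp ha has
  set C := N₀ ⊓ centralizer {τ} with hCdef
  -- a Sylow `r`-subgroup
  obtain ⟨S, hS⟩ := Coprime.exists_invariant_sylow (zpowers_le.2 hτN) hcopN
    (Or.inl (Coprime.isSolvable_zpowers τ)) r
  set R := (S : Subgroup N₀).map N₀.subtype with hRdef
  have hRN : R ≤ N₀ := map_subtype_le _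
  have hRp : IsPGroup r R := S.2.map _
  have hτR : τ ∈ normalizer (R : Set G) := hS (mem_zpowers τ)
  have hgen : N₀ ≤ C ⊔ R := Coprime.le_of_forall_sylow fun p hp => by
    haveI := Fact.mk hp
    by_cases hpr : p = r
    · subst hpr
      exact ⟨S, le_sup_right⟩
    obtain ⟨T, hT⟩ := Coprime.exists_invariant_sylow (zpowers_le.2 hτN) hcopN
      (Or.inl (Coprime.isSolvable_zpowers τ)) p
    exact ⟨T, fun x hx => mem_sup_left ⟨map_subtype_le _ hx, mem_centralizer_singleton_iff.2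
      (hother hpr (T.2.map _) (map_subtype_le _) (hT (mem_zpowers τ)) x hx)⟩⟩
  have hCD : C ≤ ⁅N₀, N₀⁆ := by
    intro c hc
    haveI : ((⁅N₀, N₀⁆ : Subgroup G).subgroupOf N₀).Normal :=
      (normal_subgroupOf_iff_le_normalizer hdle).2 hdn
    set D := (⁅N₀, N₀⁆ : Subgroup G).subgroupOf N₀
    letI : CommGroup (N₀ ⧸ D) := { (inferInstance : Group (N₀ ⧸ D)) with
      mul_comm := fun x z => by
        obtain ⟨x, rfl⟩ := QuotientGroup.mk'_surjective D x
        obtain ⟨z, rfl⟩ := QuotientGroup.mk'_surjective D z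
        refine commutatorElement_eq_one_iff_mul_comm.1 ?_
        rw [← map_commutatorElement]
        exact (QuotientGroup.eq_one_iff _).2 (hdc x x.2 z z.2) }
    let σ : ℕ → (N₀ →* N₀ ⧸ D) := fun i => (QuotientGroup.mk' D).comp
      (N₀.normalizerMonoidHom ⟨τ ^ i, pow_mem hτN i⟩).toMonoidHom
    let ψ : N₀ →* N₀ ⧸ D := ∏ i ∈ Finset.range q, σ i
    have hψ : ∀ n : N₀, ψ n = ∏ i ∈ Finset.range q, σ i n := fun n =>
      MonoidHom.finsetProd_apply σ _ n
    have hσ : ∀ (i : ℕ) (n : N₀), σ i ⟨τ * n * τ⁻¹, (mem_normalizer_iff.1 hτN n).1 n.2⟩ =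
        σ (i + 1) n := fun i n => by
      refine congrArg (QuotientGroup.mk' D) (Subtype.ext ?_)
      show τ ^ i * (τ * n * τ⁻¹) * (τ ^ i)⁻¹ = τ ^ (i + 1) * n * (τ ^ (i + 1))⁻¹
      rw [pow_succ]; group
    have hψτ : ∀ n : N₀, ψ ⟨τ * n * τ⁻¹, (mem_normalizer_iff.1 hτN n).1 n.2⟩ = ψ n := by
      intro n
      rw [hψ, hψ, Finset.prod_congr rfl fun i _ => hσ i n]
      have h1 := Finset.prod_range_succ' (fun i => σ i n) q
      have h2 := Finset.prod_range_succ (fun i => σ i n) q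
      have h3 : σ q n = σ 0 n := by
        refine congrArg (QuotientGroup.mk' D) (Subtype.ext ?_)
        show τ ^ q * n * (τ ^ q)⁻¹ = τ ^ 0 * n * (τ ^ 0)⁻¹
        rw [← B.order, pow_orderOf_eq_one, pow_zero]
      rw [h2, h3] at h1
      exact (mul_right_cancel h1).symm
    set M := ψ.ker.map N₀.subtype with hMdef
    have hMn : Y ≤ normalizer (M : Set G) := by
      have hkey : ∀ g : G, g ∈ N₀ ∨ g = τ → ∀ m ∈ M, g * m * g⁻¹ ∈ M := by
        rintro g (hg | rfl) _ ⟨m, hm, rfl⟩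
        · refine ⟨⟨g, hg⟩ * m * ⟨g, hg⟩⁻¹, ?_, rfl⟩
          exact (MonoidHom.normal_ker ψ).conj_mem m hm _
        · exact ⟨⟨_, (mem_normalizer_iff.1 hτN m).1 m.2⟩, (hψτ m).trans hm, rfl⟩
      have hmem : ∀ g : G, g ∈ N₀ ∨ g = τ → g ∈ normalizer (M : Set G) := fun g hg => by
        rw [mem_normalizer_iff_map_conj_eq]
        refine eq_of_le_of_card_ge ?_ (card_map_of_injective (MulAut.conj g).injective).ge
        rintro _ ⟨m, hm, rfl⟩
        exact hkey g hg m hm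
      rw [← B.gen]
      exact sup_le (fun g hg => hmem g (Or.inl hg)) (zpowers_le.2 (hmem τ (Or.inr rfl)))
    have hMeq : M = N₀ := B.key (map_subtype_le _) hMn
      (fun a ha b hb => ⟨⁅(⟨a, ha⟩ : N₀), ⟨b, hb⟩⁆, by
        rw [SetLike.mem_coe, MonoidHom.mem_ker, map_commutatorElement,
          commutatorElement_eq_one_iff_mul_comm]
        exact mul_comm _ _, rfl⟩)
      fun n hn => ⟨⟨_, (mem_normalizer_iff.1 hτN n).1 hn⟩ * ⟨n, hn⟩⁻¹, by
        rw [SetLike.mem_coe, MonoidHom.mem_ker, map_mul, map_inv, mul_inv_eq_one]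
        exact hψτ ⟨n, hn⟩, rfl⟩
    obtain ⟨c', hc', hcc⟩ : c ∈ M := hMeq.symm ▸ hc.1
    have hc'' : c' = ⟨c, hc.1⟩ := Subtype.ext hcc
    subst hc''
    have h1 : ψ ⟨c, hc.1⟩ = (QuotientGroup.mk' D ⟨c, hc.1⟩) ^ q := by
      have h2 : ∀ i : ℕ, σ i ⟨c, hc.1⟩ = QuotientGroup.mk' D ⟨c, hc.1⟩ := fun i => by
        refine congrArg (QuotientGroup.mk' D) (Subtype.ext ?_)
        show τ ^ i * c * (τ ^ i)⁻¹ = c
        exact mul_inv_eq_iff_eq_mul.2
          (Commute.pow_left (mem_centralizer_singleton_iff.1 hc.2).symm i).eq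
      rw [hψ, Finset.prod_congr rfl fun i _ => h2 i, Finset.prod_const, Finset.card_range]
    rw [MonoidHom.mem_ker.1 hc'] at h1
    refine mem_subgroupOf.1 ((QuotientGroup.eq_one_iff (N := D) (⟨c, hc.1⟩ : N₀)).1
      (orderOf_eq_one_iff.1 ?_))
    refine Nat.Coprime.eq_one_of_dvd ((B.prime.coprime_iff_not_dvd.2 fun hd => B.ndvd
      (hd.trans ((orderOf_map_dvd (QuotientGroup.mk' D) _).trans (orderOf_dvd_natCard _)))).symm)
      (orderOf_dvd_of_pow_eq_one h1.symm)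
  have hRτ : ∃ x ∈ R, x * τ ≠ τ * x := by
    by_contra hno
    push Not at hno
    refine derived_ne h B.le B.ne_bot (le_antisymm hdle (hgen.trans (sup_le hCD ?_)))
    exact fun x hx => hCD ⟨hRN hx, mem_centralizer_singleton_iff.2 (hno x hx)⟩
  have hRcard : Nat.card R = r := by
    obtain ⟨n, hn⟩ := IsPGroup.iff_card.1 hRp
    have h1 := hline hRp hRN
    have hn0 : n ≠ 0 := fun e => by
      obtain ⟨x, hx, hne⟩ := hRτ
      rw [eq_bot_of_card_eq R (by rw [hn, e, pow_zero]), Subgroup.mem_bot] at hx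
      exact hne (by rw [hx, one_mul, mul_one])
    rw [hn] at h1 ⊢
    exact le_antisymm h1 (Nat.le_self_pow hn0 r)
  have hRgen : ∀ {w : G}, w ∈ R → w ≠ 1 → zpowers w = R := fun {w} hw hw1 => by
    refine eq_of_le_of_card_ge (zpowers_le.2 hw) ?_
    have h1 : orderOf w ∣ r := hRcard ▸ R.orderOf_dvd_natCard hw
    rw [hRcard, Nat.card_zpowers, ((Nat.dvd_prime hr).1 h1).resolve_left
      (mt orderOf_eq_one_iff.1 hw1)]
  -- `C` is the derived subgroup
  have hDC : ⁅N₀, N₀⁆ ≤ C := Coprime.le_of_forall_sylow fun p hp => by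
    haveI := Fact.mk hp
    have hτD : τ ∈ normalizer ((⁅N₀, N₀⁆ : Subgroup G) : Set G) := hdY B.memY
    obtain ⟨T, hT⟩ := Coprime.exists_invariant_sylow (zpowers_le.2 hτD)
      (hcopN.coprime_dvd_right (card_dvd_of_le hdle)) (Or.inl (Coprime.isSolvable_zpowers τ)) p
    set P := (T : Subgroup ↥⁅N₀, N₀⁆).map (⁅N₀, N₀⁆ : Subgroup G).subtype with hPdef
    have hPD : P ≤ ⁅N₀, N₀⁆ := map_subtype_le _
    refine ⟨T, fun x hx => ⟨hdle (hPD hx), mem_centralizer_singleton_iff.2 ?_⟩⟩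
    by_cases hpr : p = r
    swap
    · exact hother hpr (T.2.map _) (hPD.trans hdle) (hT (mem_zpowers τ)) x hx
    subst hpr
    by_cases hx1 : x = 1
    · rw [hx1, one_mul, mul_one]
    exfalso
    have hSy : SylowIn p R N₀ := ⟨hRN, Coprime.card_sylow_map S⟩
    obtain ⟨S', hS', hPS'⟩ := SylowIn.exists_ge (D := N₀) (T.2.map _) (hPD.trans hdle)
    obtain ⟨g, hg, hgS⟩ := hS'.conj_eq hSy
    have hgx : g * x * g⁻¹ ∈ R := hgS ▸ mem_map_of_mem (MulAut.conj g).toMonoidHom (hPS' hx)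
    have hgxD : g * x * g⁻¹ ∈ (⁅N₀, N₀⁆ : Subgroup G) :=
      (mem_normalizer_iff.1 (hdn hg) x).1 (hPD hx)
    have hle : R ≤ ⁅N₀, N₀⁆ := by
      rw [← hRgen hgx (fun e => hx1 (by simpa using e))]
      exact zpowers_le.2 hgxD
    exact derived_ne h B.le B.ne_bot (le_antisymm hdle (hgen.trans (sup_le hCD hle)))
  have hCn : ∀ {x c : G}, x ∈ N₀ → c ∈ C → x * c * x⁻¹ ∈ C := fun {x c} hx hc =>
    hDC ((mem_normalizer_iff.1 (hdn hx) c).1 (hCD hc))
  -- `R` centralises `C`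
  obtain ⟨x₀, hx₀, hne₀⟩ := hRτ
  have hRC : ∀ c ∈ C, ∀ x ∈ R, x * c = c * x := by
    intro c hc x hx
    set d := x₀⁻¹ * (τ * x₀ * τ⁻¹) with hd
    have hdR : d ∈ R := R.mul_mem (R.inv_mem hx₀) ((mem_normalizer_iff.1 hτR x₀).1 hx₀)
    have hd1 : d ≠ 1 := fun e => hne₀
      (mul_inv_eq_iff_eq_mul.1 (inv_mul_eq_one.1 e).symm).symm
    have h1 := mem_centralizer_singleton_iff.1 (hCn (hRN hx₀) hc).2
    have h2 := mem_centralizer_singleton_iff.1 hc.2
    have h3 : (τ * x₀ * τ⁻¹) * c * (τ * x₀ * τ⁻¹)⁻¹ = x₀ * c * x₀⁻¹ := by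
      calc (τ * x₀ * τ⁻¹) * c * (τ * x₀ * τ⁻¹)⁻¹ = τ * (x₀ * (τ⁻¹ * (c * τ)) * x₀⁻¹) * τ⁻¹ := by
            group
        _ = τ * (x₀ * c * x₀⁻¹) * τ⁻¹ := by rw [h2, inv_mul_cancel_left]
        _ = x₀ * c * x₀⁻¹ := by rw [← h1, mul_inv_cancel_right]
    have h4 : Commute d c := by
      show d * c = c * d
      calc d * c = x₀⁻¹ * ((τ * x₀ * τ⁻¹) * c * (τ * x₀ * τ⁻¹)⁻¹) * (τ * x₀ * τ⁻¹) := by
            rw [hd]; group
        _ = c * d := by rw [h3, hd]; group
    rw [← hRgen hdR hd1] at hx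
    obtain ⟨i, rfl⟩ := Subgroup.mem_zpowers_iff.1 hx
    exact (h4.zpow_left i).eq
  have hRc : ∀ x ∈ R, ∀ x' ∈ R, x * x' = x' * x := by
    intro x hx x' hx'
    by_cases hx1 : x = 1
    · rw [hx1, one_mul, mul_one]
    rw [← hRgen hx hx1] at hx'
    obtain ⟨i, rfl⟩ := Subgroup.mem_zpowers_iff.1 hx'
    exact ((Commute.refl x).zpow_right i).eq
  have hsplit : ∀ a ∈ N₀, ∃ c ∈ C, ∃ x ∈ R, a = c * x := fun a ha => by
    have h1 : a ∈ ((C ⊔ R : Subgroup G) : Set G) := hgen ha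
    rw [coe_mul_of_right_le_normalizer_left C R fun g hg => mem_normalizer_iff.2 fun c =>
      ⟨hCn (hRN hg), fun hc => by
        have := hCn (N₀.inv_mem (hRN hg)) hc
        rwa [show g⁻¹ * (g * c * g⁻¹) * g⁻¹⁻¹ = c by group] at this⟩] at h1
    obtain ⟨c, hc, x, hx, rfl⟩ := h1
    exact ⟨c, hc, x, hx, rfl⟩
  have hCbot : C = ⊥ := by
    by_contra hCne
    refine derived_ne h (inf_le_left.trans B.le) hCne
      (le_antisymm (derived_props C).1 (le_trans hCD (commutator_le.2 ?_)))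
    intro a ha b hb
    obtain ⟨c, hc, x, hx, rfl⟩ := hsplit a ha
    obtain ⟨c', hc', x', hx', rfl⟩ := hsplit b hb
    have e : ⁅c * x, c' * x'⁆ = ⁅c, c'⁆ := by
      rw [commutatorElement_def, commutatorElement_def]
      calc c * x * (c' * x') * (c * x)⁻¹ * (c' * x')⁻¹
          = c * (x * c') * x' * x⁻¹ * c⁻¹ * x'⁻¹ * c'⁻¹ := by group
        _ = c * c' * (x * x') * x⁻¹ * c⁻¹ * x'⁻¹ * c'⁻¹ := by rw [hRC c' hc' x hx]; group
        _ = c * c' * (x' * c⁻¹) * x'⁻¹ * c'⁻¹ := by rw [hRc x hx x' hx']; group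
        _ = c * c' * c⁻¹ * c'⁻¹ := by rw [hRC c⁻¹ (C.inv_mem hc) x' hx']; group
    rw [e]
    exact commutator_mem_commutator hc hc'
  have hNR : N₀ = R := le_antisymm (hgen.trans (by rw [hCbot, bot_sup_eq])) hRN
  refine ⟨r, q, R, τ, hr, B.prime, hrK, B.memY, B.order, hRN.trans B.le, hRcard,
    hNR ▸ B.norm, hNR ▸ B.gen, fun z hz hz1 => ⟨B.free z hz hz1, fun x hx hzx => ?_⟩,
    fun x hx k hk => hNZ x (hRN hx) k hk, hZne, hZc⟩
  by_contra hx1
  have hzc : z ∈ centralizer (R : Set G) := by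
    refine mem_centralizer_iff.2 fun w hw => ?_
    rw [← hRgen hx hx1, SetLike.mem_coe] at hw
    obtain ⟨i, rfl⟩ := Subgroup.mem_zpowers_iff.1 hw
    exact ((show Commute z x from hzx).zpow_right i).eq.symm
  have hτz : τ ∈ zpowers z := by
    have h1 : zpowers z = zpowers τ := eq_of_le_of_card_ge (zpowers_le.2 hz) (by
      rw [Nat.card_zpowers, Nat.card_zpowers, B.order,
        ((Nat.dvd_prime B.prime).1 (B.order ▸ Nat.card_zpowers τ ▸
          Subgroup.orderOf_dvd_natCard _ hz)).resolve_left (mt orderOf_eq_one_iff.1 hz1)])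
    rw [h1]; exact mem_zpowers τ
  exact hne₀ (mem_centralizer_iff.1 ((zpowers_le.2 hzc) hτz) x₀ hx₀)

end Cfsg.Agent.Lib.BenderOne83.Structure
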