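import Cfsg.Agent.Lib.BenderOne8.Single.TransJ
import Cfsg.Agent.Lib.BenderOne.LocalTools
import Cfsg.Agent.Lib.BenderOne83.C2.PairStab
import Cfsg.Agent.Lib.BenderOne83.C2.Galois
import Cfsg.Agent.Lib.BenderOne83.C2.Structure

/-!
# Bender's theorem, part one, node C2: the shape of `D ∩ L`

With a single subgroup in `D ∩ L` the inverted elements form an abelian `K ≤ D ∩ L` regular on the
involutions at `a`, an averaging argument gives `t` with `C_{D∩L}(t) = C_{D∩L}(u) = Y`, and the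
structure theorem for `Y` acting on `K` gives the three cases.
-/

set_option autoImplicit false
set_option linter.style.haveILetI false
set_option linter.unusedSectionVars false

namespace Cfsg.Agent.Lib.BenderOne83.Shape

open MulAction Cfsg.Agent.Lib.Involutions.Basic
open Cfsg.Agent.Lib.BenderOne20 Cfsg.Agent.Lib.BenderOne8
open Cfsg.Agent.Lib.BenderOne83.ShapeBase

universe u

section Average

variable {G : Type*} [Group G] [Finite G]

/-- If the subgroups of prime power order of `Y` fix a point of a torsor of an abelian group, so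
does `Y`. -/
theorem exists_fixed_conj {K Y : Subgroup G} (hK : ∀ k ∈ K, ∀ l ∈ K, k * l = l * k)
    (hYK : Y ≤ Subgroup.normalizer (K : Set G)) {t₀ : G}
    (hfree : ∀ k ∈ K, k * t₀ = t₀ * k → k = 1)
    (hrep : ∀ y ∈ Y, ∃ k ∈ K, y * t₀ * y⁻¹ = k * t₀ * k⁻¹)
    (hloc : ∀ (p : ℕ) (P : Subgroup G), p.Prime → IsPGroup p P → P ≤ Y →
      ∃ k ∈ K, ∀ y ∈ P, y * (k * t₀ * k⁻¹) = k * t₀ * k⁻¹ * y) :
    ∃ k ∈ K, ∀ y ∈ Y, y * (k * t₀ * k⁻¹) = k * t₀ * k⁻¹ * y := by
  classical
  letI : CommGroup K := { (inferInstance : Group K) with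
    mul_comm := fun a b => Subtype.ext (hK a a.2 b b.2) }
  let φ : Y →* MulAut K := (K.normalizerMonoidHom).comp (Subgroup.inclusion hYK)
  have huniq : ∀ {k l : K}, (k : G) * t₀ * (k : G)⁻¹ = l * t₀ * (l : G)⁻¹ → k = l := by
    intro k l e
    refine Subtype.ext (inv_mul_eq_one.1 (hfree _ (K.mul_mem (K.inv_mem k.2) l.2) ?_))
    calc (k : G)⁻¹ * l * t₀ = (k : G)⁻¹ * (l * t₀ * (l : G)⁻¹) * l := by group
      _ = t₀ * ((k : G)⁻¹ * l) := by rw [← e]; group
  have hex : ∀ y : Y, ∃ k : K, (y : G) * t₀ * (y : G)⁻¹ = k * t₀ * (k : G)⁻¹ := fun y => by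
    obtain ⟨k, hk, e⟩ := hrep y y.2
    exact ⟨⟨k, hk⟩, e⟩
  choose f hf using hex
  -- the image of a point
  have himage : ∀ (y : Y) (k : K), (y : G) * ((k : G) * t₀ * (k : G)⁻¹) * (y : G)⁻¹ =
      ((φ y k * f y : K) : G) * t₀ * ((φ y k * f y : K) : G)⁻¹ := by
    intro y k
    calc (y : G) * ((k : G) * t₀ * (k : G)⁻¹) * (y : G)⁻¹
        = ((y : G) * k * (y : G)⁻¹) * ((y : G) * t₀ * (y : G)⁻¹) *
            ((y : G) * k * (y : G)⁻¹)⁻¹ := by group
      _ = _ := by
        rw [hf y, Subgroup.coe_mul]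
        show _ = (y : G) * k * (y : G)⁻¹ * (f y : G) * t₀ *
          ((y : G) * k * (y : G)⁻¹ * (f y : G))⁻¹
        group
  have hcoc : ∀ y z : Y, f (y * z) = φ y (f z) * f y := by
    intro y z
    refine huniq ?_
    rw [← hf (y * z), ← himage y (f z), ← hf z, Subgroup.coe_mul]
    group
  have hfix : ∀ (y : Y) (k : K), φ y k * f y = k ↔
      (y : G) * ((k : G) * t₀ * (k : G)⁻¹) = (k : G) * t₀ * (k : G)⁻¹ * y := by
    intro y k
    constructor
    · intro e
      exact mul_inv_eq_iff_eq_mul.1 (by rw [himage, e])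
    · intro e
      exact huniq (by rw [← himage]; exact mul_inv_eq_iff_eq_mul.2 e)
  -- the exponents for which the cocycle becomes trivial
  let S : AddSubgroup ℤ :=
    { carrier := {n | ∃ k : K, ∀ y : Y, f y ^ n = k / φ y k}
      zero_mem' := ⟨1, fun y => by rw [zpow_zero, map_one, div_one]⟩
      add_mem' := fun {m n} ⟨k, hk⟩ ⟨l, hl⟩ => ⟨k * l, fun y => by
        rw [zpow_add, hk, hl, map_mul, div_mul_div_comm]⟩
      neg_mem' := fun {n} ⟨k, hk⟩ => ⟨k⁻¹, fun y => by
        rw [zpow_neg, hk, map_inv, inv_div, inv_div_inv]⟩ }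
  have hlocS : ∀ p : ℕ, p.Prime → ∃ n ∈ S, ¬ (p : ℤ) ∣ n := by
    intro p hp
    haveI := Fact.mk hp
    obtain ⟨P⟩ : Nonempty (Sylow p Y) := inferInstance
    obtain ⟨k₀, hk₀, hP⟩ := hloc p ((P : Subgroup Y).map Y.subtype) hp (P.2.map _)
      (Subgroup.map_subtype_le _)
    set k0 : K := ⟨k₀, hk₀⟩
    let g : Y → K := fun y => f y * φ y k0 / k0
    have hgP : ∀ x ∈ (P : Subgroup Y), g x = 1 := fun x hx => by
      show f x * φ x k0 / k0 = 1
      rw [div_eq_one, mul_comm]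
      exact (hfix x k0).2 (hP x ⟨x, hx, rfl⟩)
    have hgcoc : ∀ y z : Y, g (y * z) = φ y (g z) * g y := by
      intro y z
      show f (y * z) * φ (y * z) k0 / k0 = φ y (f z * φ z k0 / k0) * (f y * φ y k0 / k0)
      rw [hcoc, map_mul, MulAut.mul_apply, map_div, map_mul]
      generalize φ y (φ z k0) = A
      generalize φ y (f z) = B
      generalize φ y k0 = C
      generalize f y = D
      rw [div_eq_mul_inv, div_eq_mul_inv, div_eq_mul_inv,
        show D * C * k0⁻¹ = C * (D * k0⁻¹) by ac_rfl, mul_assoc (B * A) C⁻¹, inv_mul_cancel_left]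
      ac_rfl
    let F : Y ⧸ (P : Subgroup Y) → K := fun x => g x.out
    have hF : ∀ y : Y, F (y : Y ⧸ (P : Subgroup Y)) = g y := by
      intro y
      obtain ⟨x, hx⟩ := QuotientGroup.mk_out_eq_mul (P : Subgroup Y) y
      show g (y : Y ⧸ (P : Subgroup Y)).out = g y
      rw [hx, hgcoc, hgP x x.2, map_one, one_mul]
    haveI : Fintype (Y ⧸ (P : Subgroup Y)) := Fintype.ofFinite _
    set c := ∏ x, F x
    refine ⟨((P : Subgroup Y).index : ℤ), ⟨c * k0 ^ ((P : Subgroup Y).index : ℤ), fun y => ?_⟩,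
      fun hd => P.not_dvd_index (Int.natCast_dvd_natCast.1 hd)⟩
    have hsum : c = φ y c * g y ^ (P : Subgroup Y).index := by
      calc c = ∏ x, F (y • x) := (Equiv.prod_comp (MulAction.toPerm y) F).symm
        _ = ∏ x, φ y (F x) * g y := Finset.prod_congr rfl fun x _ => by
            induction x using QuotientGroup.induction_on with
            | H z => rw [MulAction.Quotient.smul_coe, smul_eq_mul, hF, hF, hgcoc]
        _ = φ y c * g y ^ (P : Subgroup Y).index := by
            rw [Finset.prod_mul_distrib, map_prod, Finset.prod_const, Finset.card_univ,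
              ← Nat.card_eq_fintype_card, Subgroup.index]
    have hgy : g y ^ (P : Subgroup Y).index = c / φ y c := by
      rw [eq_div_iff_mul_eq', mul_comm]; exact hsum.symm
    have hfy : f y = g y * (k0 / φ y k0) := by
      show f y = f y * φ y k0 / k0 * (k0 / φ y k0)
      rw [div_mul_div_cancel, mul_div_cancel_right]
    rw [hfy, zpow_natCast, zpow_natCast, mul_pow, hgy, map_mul, map_pow, div_pow, div_mul_div_comm]
  obtain ⟨d, hd⟩ := Int.subgroup_cyclic S
  have hd1 : d.natAbs = 1 := by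
    by_contra hne
    obtain ⟨p, hp, hpd⟩ := Nat.exists_prime_and_dvd hne
    obtain ⟨n, hn, hpn⟩ := hlocS p hp
    rw [hd, AddSubgroup.mem_closure_singleton] at hn
    obtain ⟨i, rfl⟩ := hn
    exact hpn (dvd_mul_of_dvd_right (Int.natCast_dvd.2 hpd) _)
  have h1 : (1 : ℤ) ∈ S := by
    rw [hd, AddSubgroup.mem_closure_singleton]
    rcases Int.natAbs_eq d with e | e <;> rw [hd1] at e
    · exact ⟨1, by simp [e]⟩
    · exact ⟨-1, by simp [e]⟩
  obtain ⟨k, hk⟩ := h1
  refine ⟨k, k.2, fun y hy => (hfix ⟨y, hy⟩ k).1 ?_⟩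
  have h2 := hk ⟨y, hy⟩
  rw [zpow_one] at h2
  rw [h2, mul_div_cancel]

end Average

open Cfsg.Agent.Lib.BenderOne8.Single

variable {G Ω : Type u} [Group G] [MulAction G Ω] [Finite G]

/-- The setting: `K` regular on the involutions at `a`, `t` with the stabiliser `Y`. -/
structure Data (a b : Ω) (u t : G) (K Y : Subgroup G) : Prop where
  swap : u ∈ swapSet G a b
  hY : Y = dL G a b ⊓ Subgroup.centralizer {u}
  le : K ≤ dL G a b
  normal : pairStab G a b ≤ Subgroup.normalizer (K : Set G)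
  inverts : ∀ k ∈ K, u * k * u⁻¹ = k⁻¹
  comm : ∀ k ∈ K, ∀ l ∈ K, k * l = l * k
  inf : K ⊓ Y = ⊥
  sup : K ⊔ Y = dL G a b
  card : Nat.card K = Nat.card (invAt G a)
  kill : ∀ k ∈ K, ∀ s ∈ invAt G a, k * s = s * k → k = 1
  tmem : t ∈ invAt G a
  tfix : ∀ y ∈ dL G a b, y * t = t * y ↔ y * u = u * y
  rep : ∀ s ∈ invAt G a, ∃ k ∈ K, k * t * k⁻¹ = s

/-- A single subgroup gives the setting. -/
theorem exists_data (h : Ctx G Ω) {a b : Ω} (hab : b ≠ a) (hW : W0One G a b) {q : ℕ}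
    [Fact q.Prime] {X : Subgroup G} (hXq : IsPGroup q X) (hXD : X ≤ dL G a b)
    (hX : IsSingle X a) : ∃ (u t : G) (K Y : Subgroup G), Data a b u t K Y := by
  have hab' : a ≠ b := hab.symm
  have hXP : X ≤ pairStab G a b := hXD.trans inf_le_right
  have hXa : a ∈ Fx X := hXP.trans inf_le_left
  have hXb : b ∈ Fx X := hXP.trans inf_le_right
  have hm := h.card_invAt a
  have hodd := h.fix.odd_pairStab hab'
  have hX1 : X ≠ ⊥ := by
    intro e
    have h1 : invCen X a = invAt G a := Set.ext fun s => ⟨fun hs => hs.1, fun hs => ⟨hs, by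
      rw [e]; exact bot_le⟩⟩
    have h2 := hX.2.2
    rw [h1] at h2
    omega
  -- a swapper centralising `X`
  obtain ⟨u', hu'⟩ := (local_oneFix h.fix h.propF hXq hX.1).swapSet_nonempty
    (x := (⟨a, hXa⟩ : ↥(fxAct X Ω))) (y := ⟨b, hXb⟩) fun e => hab' (congrArg Subtype.val e)
  have hu : (u' : G) ∈ swapSet G a b :=
    ⟨(Subgroup.orderOf_coe u').trans hu'.1, congrArg Subtype.val hu'.2⟩
  set u : G := (u' : G)
  have hXu : ∀ x ∈ X, x * u = u * x := fun x hx => Subgroup.mem_centralizer_iff.1 u'.2 x hx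
  obtain ⟨K, hKD, hKn, -, hKinv, hKc, hKall⟩ := PairStab.exists_abelian_normal h.fix h.propF
    h.below h.center hab' hu hW ⟨q, X, Fact.out, hXP, hXq, hX1, hXu, hX.2.2⟩
  have hkill : ∀ k ∈ K, ∀ s ∈ invAt G a, k * s = s * k → k = 1 := by
    intro j hj s hs hjs
    by_contra hj1
    rcases eq_or_eq_of_inverted h.fix h.propF hab' hu (hKD hj) hj1 (hKinv j hj) (e := s • b)
      (by rw [smul_smul, hjs, ← smul_smul, ((hKD hj).2 : j • b = b)]) with e | e
    · exact hab' (MulAction.injective s (hs.2.trans e.symm))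
    · exact hab' (h.fix.eq_of_fix hs.1 hs.2 e)
  obtain ⟨hsub, ⟨s₁⟩⟩ := Nat.card_eq_one_iff_unique.1 hX.2.2
  have hfixX : ∀ k ∈ K, (∀ x ∈ X, x * k = k * x) → k = 1 := by
    intro k hk hc
    have hmem : k * s₁.1 * k⁻¹ ∈ invCen X a := by
      refine ⟨?_, cen_conj (Subgroup.centralizer_le_normalizer _
        (Subgroup.mem_centralizer_iff.2 hc)) s₁.2.2⟩
      have h1 := OneFix.conj_mem_invAt (g := k) s₁.2.1
      rwa [((hKD hk).1 : k • a = a)] at h1
    exact hkill k hk _ s₁.2.1 (mul_inv_eq_iff_eq_mul.1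
      (congrArg Subtype.val (hsub.elim ⟨_, hmem⟩ s₁)))
  have hqK : ¬ q ∣ Nat.card K := by
    intro hd
    obtain ⟨k, hk, hk1, hc⟩ := exists_fixed hXq (hXP.trans hKn) hd
    exact hk1 (hfixX k hk hc)
  have hKdL : K ≤ dL G a b := by
    obtain ⟨n, hn⟩ := IsPGroup.iff_card.1 hXq
    have hcop : (Nat.card X).Coprime (Nat.card K) := by
      rw [hn]; exact ((Fact.out : q.Prime).coprime_iff_not_dvd.2 hqK).pow_left n
    have h1 := Lib.Coprime.commutator_sup_centralizer (hXP.trans hKn) hcop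
      (Or.inr (OddOrder.FeitThompson.isSolvable_of_odd_card
        (hodd.of_dvd_nat (Subgroup.card_dvd_of_le hKD))))
    have hbot : K ⊓ Subgroup.centralizer (X : Set G) = ⊥ := (Subgroup.eq_bot_iff_forall _).2
      fun k hk => hfixX k hk.1 fun x hx => Subgroup.mem_centralizer_iff.1 hk.2 x hx
    rw [hbot, sup_bot_eq] at h1
    rw [← h1, Subgroup.commutator_le]
    intro k hk x hx
    rw [commutatorElement_def]
    exact (dL G a b).mul_mem (dL_conj (hKD hk) (hXD hx)) ((dL G a b).inv_mem (hXD hx))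
  have hKodd : Odd (Nat.card K) := hodd.of_dvd_nat (Subgroup.card_dvd_of_le hKD)
  have hinfD : K ⊓ (pairStab G a b ⊓ Subgroup.centralizer {u}) = ⊥ := by
    refine (Subgroup.eq_bot_iff_forall _).2 fun k hk => orderOf_eq_one_iff.1 ?_
    have h1 : k⁻¹ = k := by
      rw [← hKinv k hk.1, mul_inv_eq_iff_eq_mul]
      exact (Subgroup.mem_centralizer_singleton_iff.1 hk.2.2).symm
    refine Nat.Coprime.eq_one_of_dvd
      (Nat.coprime_two_right.2 (hKodd.of_dvd_nat (K.orderOf_dvd_natCard hk.1)))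
      (orderOf_dvd_of_pow_eq_one ?_)
    rw [pow_two]
    nth_rewrite 1 [← h1]
    exact inv_mul_cancel k
  have hcardK : Nat.card K = Nat.card (invAt G a) := by
    rw [← BenderOne.LocalTools.card_inverted_pairStab h.fix hab' hu a]
    exact Nat.card_congr (Equiv.subtypeEquivRight fun k =>
      ⟨fun hk => ⟨hKD hk, hKinv k hk⟩, fun hk => hKall k hk.1 hk.2⟩)
  have hDsup : K ⊔ (pairStab G a b ⊓ Subgroup.centralizer {u}) = pairStab G a b := by
    refine Subgroup.eq_of_le_of_card_ge (sup_le hKD inf_le_left) ?_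
    have h1 := BenderOne.LocalTools.card_eq_inverted_mul hu.1 (PairStab.mem_normalizer_pairStab hu)
      hodd
    rw [BenderOne.LocalTools.card_inverted_pairStab h.fix hab' hu a, ← hcardK, ← Nat.card_prod]
      at h1
    rw [h1]
    refine Nat.card_le_card_of_injective (fun z => (⟨(z.1 : G) * z.2,
      Subgroup.mul_mem_sup z.1.2 z.2.2⟩ : ↥(K ⊔ (pairStab G a b ⊓ Subgroup.centralizer {u})))) ?_
    intro z w e
    exact Subgroup.mul_injective_of_disjoint (disjoint_iff.2 hinfD) (congrArg Subtype.val e)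
  have hsplit : ∀ d ∈ pairStab G a b, ∃ k ∈ K, ∃ y ∈ pairStab G a b ⊓ Subgroup.centralizer {u},
      k * y = d := by
    intro d hd
    have h1 : d ∈ ((K ⊔ (pairStab G a b ⊓ Subgroup.centralizer {u}) : Subgroup G) : Set G) :=
      hDsup.symm ▸ hd
    rw [Subgroup.coe_mul_of_right_le_normalizer_left _ _ (inf_le_left.trans hKn)] at h1
    obtain ⟨k, hk, y, hy, rfl⟩ := h1
    exact ⟨k, hk, y, hy, rfl⟩
  set Y := dL G a b ⊓ Subgroup.centralizer {u} with hYdef
  have hYP : Y ≤ pairStab G a b ⊓ Subgroup.centralizer {u} := inf_le_inf_right _ inf_le_right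
  have hinf : K ⊓ Y = ⊥ := le_bot_iff.1 ((inf_le_inf_left K hYP).trans hinfD.le)
  have hsupdL : ∀ d ∈ dL G a b, ∃ k ∈ K, ∃ y ∈ Y, k * y = d := by
    intro d hd
    obtain ⟨k, hk, y, hy, rfl⟩ := hsplit d hd.2
    refine ⟨k, hk, y, ⟨?_, hy.2⟩, rfl⟩
    have h1 := (dL G a b).mul_mem ((dL G a b).inv_mem (hKdL hk)) hd
    rwa [← mul_assoc, inv_mul_cancel, one_mul] at h1
  have hsup : K ⊔ Y = dL G a b := le_antisymm (sup_le hKdL inf_le_left) fun d hd => by
    obtain ⟨k, hk, y, hy, rfl⟩ := hsupdL d hd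
    exact Subgroup.mul_mem_sup hk hy
  obtain ⟨t₀, ht₀⟩ := h.fix.exists_invAt a
  have hconjJ : ∀ {g s : G}, g ∈ pairStab G a b → s ∈ invAt G a → g * s * g⁻¹ ∈ invAt G a := by
    intro g s hg hs
    have h1 := OneFix.conj_mem_invAt (g := g) hs
    rwa [(hg.1 : g • a = a)] at h1
  have hrep₀ : ∀ s ∈ invAt G a, ∃ k ∈ K, k * t₀ * k⁻¹ = s := by
    intro s hs
    let F : K → invAt G a := fun k => ⟨(k : G) * t₀ * (k : G)⁻¹, hconjJ (hKD k.2) ht₀⟩
    have hF : Function.Injective F := fun k l e => by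
      have e' : (k : G) * t₀ * (k : G)⁻¹ = l * t₀ * (l : G)⁻¹ := congrArg Subtype.val e
      refine Subtype.ext (inv_mul_eq_one.1
        (hkill _ (K.mul_mem (K.inv_mem k.2) l.2) t₀ ht₀ ?_))
      calc (k : G)⁻¹ * l * t₀ = (k : G)⁻¹ * (l * t₀ * (l : G)⁻¹) * l := by group
        _ = t₀ * ((k : G)⁻¹ * l) := by rw [← e']; group
    obtain ⟨k, hk⟩ := (hF.bijective_of_nat_card_le hcardK.ge).2 ⟨s, hs⟩
    exact ⟨k, k.2, congrArg Subtype.val hk⟩
  obtain ⟨c, hc⟩ := h.fix.exists_fix hu.1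
  have hca : c ≠ a := fun e => by
    rw [e] at hc
    exact hab' (hc.symm.trans hu.2)
  have hcb : c ≠ b := fun e => by
    rw [e] at hc
    exact hab' ((smul_swap hu).symm.trans hc)
  have hYn : Y ≤ Subgroup.normalizer (K : Set G) := (inf_le_left.trans inf_le_right).trans hKn
  obtain ⟨k, hk, hkY⟩ := exists_fixed_conj hKc hYn (hfree := fun k hk => hkill k hk t₀ ht₀)
    (fun y hy => by
      obtain ⟨k, hk, e⟩ := hrep₀ _ (hconjJ (hYP hy).1 ht₀)
      exact ⟨k, hk, e.symm⟩)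
    fun p P hp hP hPY => by
      haveI := Fact.mk hp
      have hPD : P ≤ pairStab G a b := (hPY.trans inf_le_left).trans inf_le_right
      obtain ⟨s, hs⟩ := exists_cen h.fix h.propF hP (x := a) ⟨a, b, c, hab', hca, hcb,
        hPD.trans inf_le_left, hPD.trans inf_le_right,
        mem_Fx_of_cen h.fix ⟨hu.1, hc⟩ (hPY.trans inf_le_right)⟩ (hPD.trans inf_le_left)
      obtain ⟨k, hk, rfl⟩ := hrep₀ s hs.1
      exact ⟨k, hk, fun y hy => Subgroup.mem_centralizer_singleton_iff.1 (hs.2 hy)⟩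
  set t := k * t₀ * k⁻¹ with ht
  have htJ : t ∈ invAt G a := hconjJ (hKD hk) ht₀
  refine ⟨u, t, K, Y, hu, rfl, hKdL, hKn, hKinv, hKc, hinf, hsup, hcardK, hkill, htJ,
    fun y hy => ⟨fun hyt => ?_, fun hyu => hkY y ⟨hy, Subgroup.mem_centralizer_singleton_iff.2 hyu⟩⟩,
    fun s hs => ?_⟩
  · obtain ⟨j, hj, z, hz, rfl⟩ := hsupdL y hy
    have h1 : j = 1 := hkill j hj t htJ (mul_right_cancel (b := z) (by
      calc j * t * z = j * (t * z) := mul_assoc _ _ _
        _ = j * z * t := by rw [← hkY z hz, mul_assoc]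
        _ = t * j * z := hyt.trans (mul_assoc _ _ _).symm))
    rw [h1, one_mul]
    exact Subgroup.mem_centralizer_singleton_iff.1 hz.2
  · obtain ⟨l, hl, rfl⟩ := hrep₀ s hs
    exact ⟨l * k⁻¹, K.mul_mem hl (K.inv_mem hk), by rw [ht]; group⟩

variable {a b : Ω} {u t : G} {K Y : Subgroup G}

theorem Data.le_pairStab (D : Data a b u t K Y) : Y ≤ pairStab G a b := by
  rw [D.hY]; exact inf_le_left.trans inf_le_right

theorem Data.cen_t (D : Data a b u t K Y) {y : G} (hy : y ∈ Y) : y * t = t * y := by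
  rw [D.hY] at hy
  exact (D.tfix y hy.1).2 (Subgroup.mem_centralizer_singleton_iff.1 hy.2)

theorem Data.cen_u (D : Data a b u t K Y) {y : G} (hy : y ∈ Y) : y * u = u * y := by
  rw [D.hY] at hy
  exact Subgroup.mem_centralizer_singleton_iff.1 hy.2

theorem Data.conj_mem (D : Data a b u t K Y) {k : G} (hk : k ∈ K) :
    k * t * k⁻¹ ∈ invAt G a := by
  have h1 := OneFix.conj_mem_invAt (g := k) D.tmem
  rwa [((D.le hk).2.1 : k • a = a)] at h1

/-- An element of `Y` centralises `k t k⁻¹` exactly when it centralises `k`. -/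
theorem Data.commute_iff (D : Data a b u t K Y) {k y : G} (hk : k ∈ K) (hy : y ∈ Y) :
    y * (k * t * k⁻¹) = k * t * k⁻¹ * y ↔ y * k = k * y := by
  have hyk : y * k * y⁻¹ ∈ K :=
    (Subgroup.mem_normalizer_iff.1 (D.normal (D.le_pairStab hy)) k).1 hk
  have hyt := mul_inv_eq_iff_eq_mul.2 (D.cen_t hy)
  have e : y * (k * t * k⁻¹) * y⁻¹ = y * k * y⁻¹ * t * (y * k * y⁻¹)⁻¹ := by
    calc y * (k * t * k⁻¹) * y⁻¹ = y * k * y⁻¹ * (y * t * y⁻¹) * (y * k * y⁻¹)⁻¹ := by group
      _ = _ := by rw [hyt]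
  constructor
  · intro hc
    have h1 : k⁻¹ * (y * k * y⁻¹) = 1 := D.kill _ (K.mul_mem (K.inv_mem hk) hyk) t D.tmem (by
      calc k⁻¹ * (y * k * y⁻¹) * t
          = k⁻¹ * (y * k * y⁻¹ * t * (y * k * y⁻¹)⁻¹) * (y * k * y⁻¹) := by group
        _ = k⁻¹ * (k * t * k⁻¹) * (y * k * y⁻¹) := by rw [← e, mul_inv_eq_iff_eq_mul.2 hc]
        _ = t * (k⁻¹ * (y * k * y⁻¹)) := by group)
    exact mul_inv_eq_iff_eq_mul.1 (inv_mul_eq_one.1 h1).symm
  · intro hc
    refine mul_inv_eq_iff_eq_mul.1 ?_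
    rw [e, mul_inv_eq_iff_eq_mul.2 hc]

theorem normalizer_le_cen (X : Subgroup G) :
    Subgroup.normalizer (X : Set G) ≤ Subgroup.normalizer (Subgroup.centralizer (X : Set G) : Set G) :=
  fun g hg => by
    refine Subgroup.mem_normalizer_iff.2 fun c => ⟨fun hc => ?_, fun hc => ?_⟩
    · refine Subgroup.mem_centralizer_iff.2 fun x hx => ?_
      have h1 := Subgroup.mem_centralizer_iff.1 hc _ ((Subgroup.mem_normalizer_iff''.1 hg x).1 hx)
      calc x * (g * c * g⁻¹) = g * (g⁻¹ * x * g * c) * g⁻¹ := by group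
        _ = g * c * g⁻¹ * x := by rw [h1]; group
    · refine Subgroup.mem_centralizer_iff.2 fun x hx => ?_
      have h1 := Subgroup.mem_centralizer_iff.1 hc _ ((Subgroup.mem_normalizer_iff.1 hg x).1 hx)
      calc x * c = g⁻¹ * (g * x * g⁻¹ * (g * c * g⁻¹)) * g := by group
        _ = c * x := by rw [h1]; group

/-- The hypotheses of the structure theorem. -/
theorem Data.hyp (hT : PropTop.{u}) (h : Ctx G Ω) (hab : b ≠ a) (hW : W0One G a b)
    (hc : ¬ Comm G a) (hTJ : TransJ G a b) (D : Data a b u t K Y) : Structure.Hyp K Y := by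
  have hab' : a ≠ b := hab.symm
  have hYn : Y ≤ Subgroup.normalizer (K : Set G) := D.le_pairStab.trans D.normal
  have hKP : K ≤ pairStab G a b := D.le.trans inf_le_right
  obtain ⟨c, hcu⟩ := h.fix.exists_fix D.swap.1
  have hca : c ≠ a := fun e => by
    rw [e] at hcu
    exact hab' (hcu.symm.trans D.swap.2)
  have hcb : c ≠ b := fun e => by
    rw [e] at hcu
    exact hab' ((smul_swap D.swap).symm.trans hcu)
  have hprod : ∀ M ≤ Y, Nat.card ↥(K ⊔ M) = Nat.card K * Nat.card M := by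
    intro M hM
    rw [← Nat.card_prod]
    refine (Nat.card_eq_of_bijective (fun z : K × M => (⟨(z.1 : G) * z.2,
      Subgroup.mul_mem_sup z.1.2 z.2.2⟩ : ↥(K ⊔ M))) ⟨fun z w e => ?_, fun x => ?_⟩).symm
    · exact Subgroup.mul_injective_of_disjoint
        (disjoint_iff.2 (le_bot_iff.1 ((inf_le_inf_left K hM).trans D.inf.le)))
        (congrArg Subtype.val e)
    · have h1 : (x : G) ∈ ((K ⊔ M : Subgroup G) : Set G) := x.2
      rw [Subgroup.coe_mul_of_right_le_normalizer_left _ _ (hM.trans hYn)] at h1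
      obtain ⟨k, hk, y, hy, e⟩ := h1
      exact ⟨(⟨k, hk⟩, ⟨y, hy⟩), Subtype.ext e⟩
  refine ⟨?_, D.comm, hYn, fun y hy hyK => ?_, fun y hy hy1 s hs k hk l hl hko hlo hyk hyl => ?_,
    fun q M hq hMY hMn hMi y hy hy1 hyq => ?_, fun p X P hp hX hX1 hXY hPY hPX hC0 hfix => ?_⟩
  · rw [D.sup]
    exact (h.fix.odd_pairStab hab').of_dvd_nat (Subgroup.card_dvd_of_le inf_le_right)
  · refine hW y (D.le_pairStab hy) fun s hs => ?_
    obtain ⟨k, hk, rfl⟩ := D.rep s hs
    exact (D.commute_iff hk hy).2 (hyK k hk)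
  · exact InvertedCyclic.mem_zpowers h.fix h.propF h.below h.center hab' D.swap
      (D.le_pairStab hy) (D.cen_u hy) hy1 hs (hKP hk) (hKP hl) hko hlo (D.inverts k hk)
      (D.inverts l hl) hyk hyl (D.comm k hk l hl)
  · haveI := Fact.mk hq
    have hle : K ⊔ M ≤ dL G a b := by rw [← D.sup]; exact sup_le_sup_left hMY K
    haveI hn : ((K ⊔ M).subgroupOf (dL G a b)).Normal := by
      rw [Subgroup.normal_subgroupOf_iff_le_normalizer hle]
      rw [← D.sup]
      refine sup_le (fun g hg => Subgroup.le_normalizer (Subgroup.mem_sup_left hg)) fun g hg => ?_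
      have h1 := hYn hg
      have h2 := hMn hg
      rw [Subgroup.mem_normalizer_iff_map_conj_eq] at h1 h2 ⊢
      rw [Subgroup.map_sup, h1, h2]
    have hidx : ((K ⊔ M).subgroupOf (dL G a b)).index = q := by
      have h1 := ((K ⊔ M).subgroupOf (dL G a b)).index_mul_card
      rw [Nat.card_congr (Subgroup.subgroupOfEquivOfLe hle).toEquiv, hprod M hMY,
        show Nat.card ↥(dL G a b) = Nat.card K * Nat.card Y by rw [← D.sup, hprod Y le_rfl],
        hMi] at h1
      refine Nat.eq_of_mul_eq_mul_right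
        (Nat.mul_pos (Nat.card_pos (α := K)) (Nat.card_pos (α := M))) (h1.trans ?_)
      ring
    obtain ⟨T, hT'⟩ := hT G Ω a b h hab hW hc hTJ q _ hq hn hidx
    obtain ⟨n, hn'⟩ := hyq
    have hyD : y ∈ dL G a b := by rw [← D.sup]; exact Subgroup.mem_sup_right hy
    obtain ⟨S, hS, hyS⟩ := SylowIn.exists_ge (D := dL G a b) (p := q) (U := Subgroup.zpowers y)
      (by
        obtain ⟨j, -, hj⟩ := (Nat.dvd_prime_pow hq).1 (orderOf_dvd_of_pow_eq_one hn')
        exact IsPGroup.of_card (n := j) (by rw [Nat.card_zpowers, hj]))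
      (Subgroup.zpowers_le.2 hyD)
    obtain ⟨d, hd, hdT⟩ := hS.conj_eq hT'.sylow
    set τ := d * y * d⁻¹ with hτ
    have hτT : τ ∈ T := hdT ▸ Subgroup.mem_map_of_mem (MulAut.conj d).toMonoidHom
      (hyS (Subgroup.mem_zpowers y))
    have hτ1 : τ ≠ 1 := fun e => hy1 (by simpa [hτ] using e)
    obtain ⟨-, -, hone⟩ := hT'.single (Subgroup.zpowers τ) (Subgroup.zpowers_le.2 hτT)
      fun e => hτ1 (Subgroup.mem_bot.1 (e ▸ Subgroup.mem_zpowers τ))
    obtain ⟨hsub, ⟨s₁⟩⟩ := Nat.card_eq_one_iff_unique.1 hone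
    have hτf : Free K τ := by
      intro k hk hτk
      have hmem : k * s₁.1 * k⁻¹ ∈ invCen (Subgroup.zpowers τ) a := by
        refine ⟨?_, cen_conj (Subgroup.centralizer_le_normalizer _
          (Subgroup.mem_centralizer_iff.2 fun w hw => ?_)) s₁.2.2⟩
        · have h1 := OneFix.conj_mem_invAt (g := k) s₁.2.1
          rwa [((hKP hk).1 : k • a = a)] at h1
        · obtain ⟨i, rfl⟩ := Subgroup.mem_zpowers_iff.1 hw
          exact (Commute.zpow_left hτk i).eq
      exact D.kill k hk _ s₁.2.1 (mul_inv_eq_iff_eq_mul.1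
        (congrArg Subtype.val (hsub.elim ⟨_, hmem⟩ s₁)))
    have h1 := hτf.conj (Subgroup.inv_mem _ (D.normal (hd.2)) : d⁻¹ ∈ _)
    rwa [show d⁻¹ * τ * d⁻¹⁻¹ = y by rw [hτ]; group] at h1
  · haveI := Fact.mk hp
    set C0 := K ⊓ Subgroup.centralizer (X : Set G) with hC0def
    have hXD : X ≤ pairStab G a b := hXY.trans D.le_pairStab
    have hXa : a ∈ Fx X := hXD.trans inf_le_left
    have h3 : Three X Ω := ⟨a, b, c, hab', hca, hcb, hXa, hXD.trans inf_le_right,
      mem_Fx_of_cen h.fix ⟨D.swap.1, hcu⟩ fun x hx =>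
        Subgroup.mem_centralizer_singleton_iff.2 (D.cen_u (hXY hx))⟩
    have hcenK : ∀ k ∈ K, (k ∈ C0 ↔ k * t * k⁻¹ ∈ invCen X a) := by
      intro k hk
      constructor
      · exact fun hk' => ⟨D.conj_mem hk, fun x hx => Subgroup.mem_centralizer_singleton_iff.2
          ((D.commute_iff hk (hXY hx)).2 (Subgroup.mem_centralizer_iff.1 hk'.2 x hx))⟩
      · exact fun hk' => ⟨hk, Subgroup.mem_centralizer_iff.2 fun x hx =>
          (D.commute_iff hk (hXY hx)).1 (Subgroup.mem_centralizer_singleton_iff.1 (hk'.2 hx))⟩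
    have htI : t ∈ invCen X a := by simpa using (hcenK 1 K.one_mem).1 C0.one_mem
    obtain ⟨k₀, hk₀, hk₀1⟩ := (Subgroup.bot_or_exists_ne_one C0).resolve_left hC0
    have hm : 1 < Nat.card (invCen X a) := Finite.one_lt_card_iff_nontrivial.2
      ⟨⟨t, htI⟩, ⟨_, (hcenK k₀ hk₀.1).1 hk₀⟩, fun e => hk₀1 (D.kill k₀ hk₀.1 t D.tmem
        (mul_inv_eq_iff_eq_mul.1 (congrArg Subtype.val e).symm))⟩
    have hne : Subgroup.centralizer (X : Set G) ≠ ⊤ := fun htop => hX1 (eq_bot_iff.2 fun k hk => by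
      rw [← h.center, Subgroup.mem_center_iff]
      intro g
      exact (Subgroup.mem_centralizer_iff.1 (htop.ge (Subgroup.mem_top g)) k hk).symm)
    have hcomm : ∀ s ∈ invCen X a, ∀ s' ∈ invCen X a, s * s' = s' * s := fun s hs s' hs' =>
      Central.comm_cen h.fix h.propF hX h3 hXa hm h.below hne (mem_cen hs.2) hs.1.2 (k := 1)
        (by rw [pow_one, pow_two]; exact invol_mul_self hs.1.1) hs'
    have hnorm : P ≤ Subgroup.normalizer (C0 : Set G) := fun y hy => by
      have h1 := hYn (hPY hy)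
      have h2 := BenderOne83.Shape.normalizer_le_cen X (hPX hy)
      rw [Subgroup.mem_normalizer_iff] at h1 h2 ⊢
      exact fun k => and_congr (h1 k) (h2 k)
    refine Galois.exists_exponent (I := invCen X a) (t := t) (C := C0) (P := P) htI
      (fun s hs => hs.1.1) hcomm ?_ (fun k hk l hl => D.comm k hk.1 l hl.1)
      (fun k hk => (hcenK k hk.1).1 hk) (fun k hk => D.kill k hk.1 t D.tmem) ?_ hnorm
      (fun y hy => D.cen_t (hPY hy)) hfix
    · intro s hs s' hs' hne'
      refine ⟨⟨invol_iff.2 ⟨?_, fun e => hne' ?_⟩, ?_⟩, fun x hx => ?_⟩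
      · calc s * s' * (s * s') = s * (s' * s) * s' := by group
          _ = 1 := by rw [← hcomm s hs s' hs']; rw [← mul_assoc s s s', invol_mul_self hs.1.1,
            one_mul, invol_mul_self hs'.1.1]
      · rw [eq_inv_of_mul_eq_one_left e, invol_inv hs'.1.1]
      · show (s * s') • a = a
        rw [mul_smul, hs'.1.2, hs.1.2]
      · rw [Subgroup.mem_centralizer_singleton_iff]
        exact ((show Commute x s from Subgroup.mem_centralizer_singleton_iff.1 (hs.2 hx)).mul_right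
          (Subgroup.mem_centralizer_singleton_iff.1 (hs'.2 hx))).eq
    · intro s hs
      obtain ⟨k, hk, rfl⟩ := D.rep s hs.1
      exact ⟨k, (hcenK k hk).2 hs, rfl⟩

/-- Case III (3), (4): the shape of `D ∩ L`. -/
theorem propShape (hT : PropTop.{u}) : PropShape.{u} := by
  intro G Ω _ _ _ a b h hab hW hc _
  refine (reg_or_transJ h hab hc).imp id ?_
  rintro ⟨hTJ, p, X, hp, hX, hXD, hXs⟩
  haveI := Fact.mk hp
  refine ⟨hTJ, ?_⟩
  obtain ⟨u, t, K, Y, D⟩ := exists_data h hab hW hX hXD hXs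
  have H := D.hyp hT h hab hW hc hTJ
  have hDn : dL G a b ≤ Subgroup.normalizer (K : Set G) := inf_le_right.trans D.normal
  by_cases hgood : ∃ y ∈ Y, y ≠ 1 ∧ ¬ Free K y
  swap
  · push Not at hgood
    refine Or.inr (Or.inl ⟨u, K, Y, D.swap, D.hY, D.le,
      fun d hd k hk => (Subgroup.mem_normalizer_iff.1 (hDn hd) k).1 hk, D.inverts, D.inf, D.sup,
      D.comm, fun y hy hy1 k hk hyk => hgood y hy hy1 k hk hyk, ?_, D.card, hTJ⟩)
    rw [← D.card]
    refine Nat.coprime_of_dvd fun s hs h1 h2 => ?_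
    haveI := Fact.mk hs
    obtain ⟨y, hy⟩ := exists_prime_orderOf_dvd_card' s h1
    have hyo : orderOf (y : G) = s := by rw [Subgroup.orderOf_coe, hy]
    exact not_dvd_of_free D.comm hs hyo (H.norm y.2)
      (hgood y y.2 fun e => hs.ne_one (by rw [← hyo, e, orderOf_one])) h2
  by_cases hm : IsPrimePow (Nat.card (invAt G a))
  · exact Or.inl hm
  obtain ⟨r, q, R, τ, S⟩ := H.exists_shape (D.card ▸ hm) hgood
  haveI := Fact.mk S.rprime
  set V := tors H.comm (r ^ (Nat.card K).factorization r)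
  set Z := tors H.comm (Nat.card K / r ^ (Nat.card K).factorization r) with hZdef
  set R' := V ⊔ R with hR'
  have hRp : IsPGroup r R := IsPGroup.of_card (n := 1) (by rw [S.card, pow_one])
  have hYV : Y ≤ Subgroup.normalizer (V : Set G) := H.norm.trans (le_normalizer_tors H.comm _)
  have hR'p : IsPGroup r R' :=
    (isPGroup_tors_pow H.comm r _).to_sup_of_normal_left' hRp (S.le.trans hYV)
  have hR'Z : R' ≤ Subgroup.centralizer (Z : Set G) :=
    sup_le (fun v hv => Subgroup.mem_centralizer_iff.2 fun z hz => H.comm z hz.1 v hv.1)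
      fun x hx => Subgroup.mem_centralizer_iff.2 fun z hz => (S.central x hx z hz).symm
  have hKle : K ≤ R' ⊔ Z := fun k hk => by
    obtain ⟨v, hv, z, hz, rfl⟩ := exists_parts H.comm S.rprime hk
    exact Subgroup.mul_mem_sup (Subgroup.mem_sup_left hv) hz
  have hYle : Y ≤ R' ⊔ Z ⊔ Subgroup.zpowers τ := by
    rw [← S.gen]
    exact sup_le ((le_sup_right.trans le_sup_left).trans le_sup_left) le_sup_right
  have hR'n : dL G a b ≤ Subgroup.normalizer (R' : Set G) := by
    rw [← D.sup]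
    refine sup_le ?_ ?_
    · refine fun k hk => ?_
      obtain ⟨v, hv, z, hz, rfl⟩ := exists_parts H.comm S.rprime hk
      exact Subgroup.mul_mem _ (Subgroup.le_normalizer (Subgroup.mem_sup_left hv))
        (Subgroup.centralizer_le_normalizer _ (Subgroup.mem_centralizer_iff.2 fun x hx =>
          (Subgroup.mem_centralizer_iff.1 (hR'Z hx) z hz).symm))
    · intro y hy
      have h1 := hYV hy
      have h2 := S.norm hy
      rw [Subgroup.mem_normalizer_iff_map_conj_eq] at h1 h2 ⊢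
      rw [hR', Subgroup.map_sup, h1, h2]
  have hZn : dL G a b ≤ Subgroup.normalizer (Z : Set G) := hDn.trans (le_normalizer_tors H.comm _)
  refine Or.inr (Or.inr ⟨u, r, q, R', Z, Subgroup.zpowers τ, D.swap, S.rprime, S.qprime,
    by rw [Nat.card_zpowers, S.order], ?_,
    Subgroup.zpowers_le.2 (Subgroup.mem_centralizer_singleton_iff.2 (D.cen_u S.memY)), hR'p, ?_,
    S.cyclic, S.part_ne,
    fun x hx z hz => (Subgroup.mem_centralizer_iff.1 (hR'Z hx) z hz).symm,
    fun d hd x hx => (Subgroup.mem_normalizer_iff.1 (hR'n hd) x).1 hx,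
    fun d hd z hz => (Subgroup.mem_normalizer_iff.1 (hZn hd) z).1 hz, ?_,
    fun z hz => D.inverts z hz.1, ?_, ?_, ⟨t, D.tmem, D.tfix⟩, hTJ⟩)
  · refine le_antisymm ?_ ?_
    · rw [← D.sup]
      exact sup_le (sup_le (sup_le ((tors_le H.comm _).trans le_sup_left)
        (S.le.trans le_sup_right)) ((tors_le H.comm _).trans le_sup_left))
        (Subgroup.zpowers_le.2 (Subgroup.mem_sup_right S.memY))
    · rw [← D.sup]
      exact sup_le (hKle.trans le_sup_left) hYle
  · obtain ⟨n, hn⟩ := IsPGroup.iff_card.1 hR'p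
    rw [hn]
    exact (S.rprime.coprime_iff_not_dvd.2 (not_dvd_tors_compl H.comm S.rprime)).pow_left n
  · have huK : u ∈ Subgroup.normalizer (K : Set G) := by
      rw [Subgroup.mem_normalizer_iff_map_conj_eq]
      refine Subgroup.eq_of_le_of_card_ge ?_
        (Subgroup.card_map_of_injective (MulAut.conj u).injective).ge
      rintro _ ⟨k, hk, rfl⟩
      show u * k * u⁻¹ ∈ K
      rw [D.inverts k hk]
      exact K.inv_mem hk
    have h1 := le_normalizer_tors H.comm (r ^ (Nat.card K).factorization r) huK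
    have h2 : u ∈ Subgroup.normalizer (R : Set G) := Subgroup.centralizer_le_normalizer _
      (Subgroup.mem_centralizer_iff.2 fun x hx => D.cen_u (S.le hx))
    rw [Subgroup.mem_normalizer_iff_map_conj_eq] at h1 h2 ⊢
    rw [hR', Subgroup.map_sup, h1, h2]
  · intro z hz hz1 x hx hzx
    have hx' : x ∈ ((K ⊔ R : Subgroup G) : Set G) := (show R' ⊔ Z ≤ K ⊔ R from
      sup_le (sup_le ((tors_le H.comm _).trans le_sup_left) le_sup_right)
        ((tors_le H.comm _).trans le_sup_left)) hx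
    rw [Subgroup.coe_mul_of_right_le_normalizer_left _ _ (S.le.trans H.norm)] at hx'
    obtain ⟨k, hk, w, hw, rfl⟩ := hx'
    have hzY : z ∈ Y := (Subgroup.zpowers_le.2 S.memY) hz
    have hk' : z * k * z⁻¹ ∈ K := (Subgroup.mem_normalizer_iff.1 (H.norm hzY) k).1 hk
    have hw' : z * w * z⁻¹ ∈ R := (Subgroup.mem_normalizer_iff.1 (S.norm hzY) w).1 hw
    have heq : (⟨z * k * z⁻¹, hk'⟩, (⟨z * w * z⁻¹, hw'⟩ : R)) =
        ((⟨k, hk⟩ : K), (⟨w, hw⟩ : R)) := by
      refine Subgroup.mul_injective_of_disjoint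
        (disjoint_iff.2 (le_bot_iff.1 ((inf_le_inf_left K S.le).trans D.inf.le))) ?_
      show z * k * z⁻¹ * (z * w * z⁻¹) = k * w
      calc z * k * z⁻¹ * (z * w * z⁻¹) = z * (k * w) * z⁻¹ := by group
        _ = k * w := mul_inv_eq_iff_eq_mul.2 hzx
    have e1 : z * k * z⁻¹ = k := congrArg (fun p : K × R => (p.1 : G)) heq
    have e2 : z * w * z⁻¹ = w := congrArg (fun p : K × R => (p.2 : G)) heq
    obtain ⟨hfK, hfR⟩ := S.free z hz hz1
    rw [hfK k hk (mul_inv_eq_iff_eq_mul.1 e1), hfR w hw (mul_inv_eq_iff_eq_mul.1 e2)]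
    exact one_mul 1
  · obtain ⟨x, hx, hx1⟩ := (Subgroup.bot_or_exists_ne_one R).resolve_left fun e => by
      have h1 := S.card
      rw [e, Subgroup.card_bot] at h1
      exact S.rprime.ne_one h1.symm
    exact ⟨x, Subgroup.mem_sup_right hx, hx1, D.cen_u (S.le hx)⟩

end Cfsg.Agent.Lib.BenderOne83.Shape
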