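import Cfsg.Agent.Lib.Transfer.Fusion
import Cfsg.Agent.Lib.Fusion.Alperin
import Cfsg.Agent.Lib.Cores.Basic

/-!
# Bender's theorem, part I, node C2: normal complements from the local structure

A solvable Hall subgroup `W` whose local subgroups are products of centralising elements of order
prime to `|W|` and of elements of `W` has a normal complement (transfer and Alperin).  In the
setting of node C2 this turns `C_D(J) ≠ 1` into a regular normal subgroup of `H`.
-/

set_option autoImplicit false
set_option linter.style.haveILetI false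
set_option linter.unusedSectionVars false

namespace Cfsg.Agent.Lib.BenderOne83.Complement

open Subgroup

variable {G : Type*} [Group G] [Finite G]

/-- The local hypothesis on `W`. -/
def LocalSplit (W : Subgroup G) : Prop :=
  ∀ p : ℕ, p.Prime → ∀ X : Subgroup G, IsPGroup p X → X ≤ W → X ≠ ⊥ →
    ∀ g ∈ normalizer (X : Set G), ∃ o ∈ centralizer (X : Set G),
      (orderOf o).Coprime (Nat.card W) ∧ o⁻¹ * g ∈ W

/-- A Sylow subgroup of `G` inside such a `W` is controlled by `W`. -/
theorem controls {W : Subgroup G} (hN : LocalSplit W) {p : ℕ} [hp : Fact p.Prime] (P : Sylow p G)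
    (hPW : (P : Subgroup G) ≤ W) (x : G) (hx : x ∈ P) (g : G) (hg : g * x * g⁻¹ ∈ P) :
    ∃ v ∈ W, v * x * v⁻¹ = g * x * g⁻¹ := by
  refine Fusion.Alperin.fusion_invariant P (fun y => ∃ v ∈ W, v * x * v⁻¹ = y) ?_ x g hx hg
    ⟨1, W.one_mem, by group⟩
  rintro R hR n hn y hy ⟨v, hv, hvy⟩
  by_cases hbot : R = ⊥
  · rw [hbot, mem_bot] at hy
    exact ⟨v, hv, by rw [hvy, hy]; group⟩
  obtain ⟨o, ho, -, how⟩ := hN p hp.out R (P.2.to_le hR.1) (hR.1.trans hPW) hbot n hn
  have hon : o⁻¹ * n ∈ normalizer (R : Set G) :=
    mul_mem (inv_mem (centralizer_le_normalizer _ ho)) hn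
  have hw : o⁻¹ * n * y * (o⁻¹ * n)⁻¹ ∈ R := (mem_normalizer_iff.1 hon y).1 hy
  refine ⟨o⁻¹ * n * v, mul_mem how hv, ?_⟩
  have h1 := mem_centralizer_iff.1 ho _ hw
  calc o⁻¹ * n * v * x * (o⁻¹ * n * v)⁻¹ = o⁻¹ * n * (v * x * v⁻¹) * (o⁻¹ * n)⁻¹ := by group
    _ = o⁻¹ * n * y * (o⁻¹ * n)⁻¹ * o * o⁻¹ := by rw [hvy, mul_inv_cancel_right]
    _ = n * y * n⁻¹ := by rw [h1]; group

/-- The normal complement. -/
theorem exists_normal_complement (W : Subgroup G) (hsol : Group.IsSolvable W)
    (hHall : (Nat.card W).Coprime W.index) (hN : LocalSplit W) :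
    ∃ N : Subgroup G, N.Normal ∧ N.Characteristic ∧ N ⊓ W = ⊥ ∧ N ⊔ W = ⊤ := by
  classical
  set n := Nat.card W with hn
  set N := closure {g : G | (orderOf g).Coprime n} with hNdef
  have hchar : N.Characteristic := by
    refine characteristic_iff_map_le.2 fun e => ?_
    rw [hNdef, MonoidHom.map_closure]
    refine closure_mono ?_
    rintro _ ⟨g, hg, rfl⟩
    show (orderOf (e g)).Coprime n
    rwa [MulEquiv.orderOf_eq]
  have hNn : N.Normal := inferInstance
  have htop : N ⊔ W = ⊤ := by
    -- `G / N` has order dividing a power of `n`, and `W` has coprime index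
    refine index_eq_one.1 (Nat.eq_one_of_dvd_coprimes (a := N.index) (b := W.index) ?_
      (index_dvd_of_le le_sup_left) (index_dvd_of_le le_sup_right))
    refine Nat.coprime_of_dvd fun q hq h1 h2 => ?_
    have hqn : q.Coprime n := (hHall.coprime_dvd_right h2).symm
    haveI := Fact.mk hq
    rw [index_eq_card] at h1
    obtain ⟨z, hz⟩ := exists_prime_orderOf_dvd_card' q h1
    obtain ⟨g, rfl⟩ := QuotientGroup.mk_surjective z
    obtain ⟨k, m, hm, hg⟩ := Nat.exists_eq_pow_mul_and_not_dvd (orderOf_pos g).ne' q hq.ne_one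
    have hgm : g ^ m ∈ N := by
      refine subset_closure ?_
      show (orderOf (g ^ m)).Coprime n
      refine (hqn.pow_left k).coprime_dvd_left (orderOf_dvd_of_pow_eq_one ?_)
      rw [← pow_mul, mul_comm, ← hg, pow_orderOf_eq_one]
    have : orderOf (g : G ⧸ N) ∣ m := by
      refine orderOf_dvd_of_pow_eq_one ?_
      rw [← QuotientGroup.mk_pow]
      exact (QuotientGroup.eq_one_iff _).2 hgm
    exact hm (hz ▸ this)
  refine ⟨N, hNn, hchar, ?_, htop⟩
  · -- `W ∩ N` is perfect, hence trivial
    by_contra hne
    set W₁ := W.subgroupOf N with hW₁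
    have hle : N ⊓ W ≤ N := inf_le_left
    haveI : Group.IsSolvable W := hsol
    have hsol₁ : Group.IsSolvable W₁ := by
      refine Group.isSolvable_of_isSolvable_injective (G' := W)
        (f := ((N.subtype).comp W₁.subtype).codRestrict W fun x => x.2) ?_
      intro x y h
      exact Subtype.ext (Subtype.ext (congrArg (fun z : W => (z : G)) h))
    haveI : Nontrivial W₁ := by
      rw [nontrivial_iff_ne_bot, Ne, subgroupOf_eq_bot, disjoint_iff, inf_comm]
      exact hne
    have hlt := Group.IsSolvable.commutator_lt_top_of_nontrivial W₁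
    obtain ⟨q, hq, hqd⟩ := Nat.exists_prime_and_dvd (fun h => hlt.ne (index_eq_one.1 h) :
      (commutator W₁).index ≠ 1)
    haveI := Fact.mk hq
    have hW₁n : Nat.card W₁ ∣ n := by
      rw [hW₁, ← card_map_of_injective N.subtype_injective, subgroupOf_map_subtype]
      exact card_dvd_of_le inf_le_left
    have hqn : q ∣ n := (hqd.trans (index_dvd_card _)).trans hW₁n
    -- a Sylow subgroup of `N` inside `W`
    set S : Sylow q W₁ := default
    have hrel : ¬ q ∣ W₁.index := by
      intro h
      have h1 : W₁.index ∣ W.index := by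
        have e1 := relIndex_mul_index (inf_le_left : N ⊓ W ≤ N)
        have e2 := relIndex_mul_index (inf_le_right : N ⊓ W ≤ W)
        rw [inf_relIndex_right] at e2
        rw [inf_relIndex_left] at e1
        have e3 : N.relIndex W = N.index := by
          rw [← relIndex_sup_right W N, sup_comm, htop, relIndex_top_right]
        rw [e3] at e2
        have e4 : N.index * W₁.index = N.index * W.index := by
          rw [e2, ← e1, mul_comm]
          rfl
        exact dvd_of_eq (Nat.eq_of_mul_eq_mul_left
          (Nat.pos_of_ne_zero index_ne_zero_of_finite) e4)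
      exact hq.one_lt.ne' (Nat.eq_one_of_dvd_coprimes hHall hqn (h.trans h1))
    set P : Sylow q N := (S.2.map W₁.subtype).toSylow (p := q) (by
      rw [index_map_subtype]
      intro h
      rcases (Nat.Prime.dvd_mul hq).1 h with h | h
      · exact S.not_dvd_index h
      · exact hrel h) with hP
    have hPW : (P : Subgroup N) ≤ W₁ := by
      rw [hP, IsPGroup.toSylow_coe]
      exact map_subtype_le _
    have hloc : LocalSplit W₁ := by
      intro p hp X hX hXW hXne g hg
      obtain ⟨o, ho, hon, how⟩ := hN p hp (X.map N.subtype) (hX.map _)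
        (by rintro _ ⟨x, hx, rfl⟩; exact hXW hx)
        (by rwa [Ne, map_eq_bot_iff_of_injective _ N.subtype_injective])
        (g : G) (le_normalizer_map N.subtype ⟨g, hg, rfl⟩)
      refine ⟨⟨o, subset_closure hon⟩, ?_, ?_, how⟩
      · rw [mem_centralizer_iff]
        intro x hx
        exact Subtype.ext (mem_centralizer_iff.1 ho x ⟨x, hx, rfl⟩)
      · rw [orderOf_mk]
        exact hon.coprime_dvd_right hW₁n
    have hfoc := Transfer.Fusion.commutator_inf_sylow_eq_of_controls P W₁ hPW
      fun x hx g hg => controls hloc P hPW x hx g hg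
    -- all of `N` has `q'`-image in the abelianisation
    have hab : (P : Subgroup N) ≤ commutator N := by
      intro x hx
      rw [← Abelianization.ker_of N, MonoidHom.mem_ker]
      obtain ⟨k, hk⟩ := IsPGroup.iff_orderOf.1 P.2 ⟨x, hx⟩
      rw [orderOf_mk] at hk
      have h1 : ∀ (y : G) (hy : y ∈ N),
          (orderOf (Abelianization.of (⟨y, hy⟩ : N))).Coprime n := by
        intro y hy
        induction hy using closure_induction with
        | mem z hz =>
          exact hz.coprime_dvd_left ((orderOf_map_dvd _ _).trans (by rw [orderOf_mk]))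
        | one =>
          rw [show (⟨1, _⟩ : N) = 1 from rfl, map_one, orderOf_one]
          exact Nat.coprime_one_left n
        | mul a b ha hb iha ihb =>
          rw [show (⟨a * b, _⟩ : N) = ⟨a, ha⟩ * ⟨b, hb⟩ from rfl, map_mul]
          exact (iha.mul_left ihb).coprime_dvd_left
            (Commute.orderOf_mul_dvd_mul_orderOf (mul_comm _ _))
        | inv a ha iha =>
          rw [show (⟨a⁻¹, _⟩ : N) = ⟨a, ha⟩⁻¹ from rfl, map_inv, orderOf_inv]
          exact iha
      refine orderOf_eq_one_iff.1 ?_
      have h2 := (h1 x x.2).coprime_dvd_right hqn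
      have h3 : orderOf (Abelianization.of x) ∣ q ^ k := hk ▸ orderOf_map_dvd _ x
      exact Nat.eq_one_of_dvd_coprimes (h2.pow_right k) dvd_rfl h3
    have hPW' : (P : Subgroup N) ≤ ⁅W₁, W₁⁆ := fun x hx => by
      have : x ∈ commutator N ⊓ (P : Subgroup N) := ⟨hab hx, hx⟩
      rw [hfoc] at this
      exact this.1
    have hcard : Nat.card S ∣ Nat.card (commutator W₁) := by
      have h1 : ((S : Subgroup W₁)) ≤ commutator W₁ := by
        intro s hs
        have h2 := hPW' (show W₁.subtype s ∈ (P : Subgroup N) from by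
          rw [hP, IsPGroup.toSylow_coe]; exact mem_map_of_mem _ hs)
        rw [← map_subtype_commutator] at h2
        obtain ⟨s', hs', he⟩ := h2
        exact W₁.subtype_injective he ▸ hs'
      exact card_dvd_of_le h1
    have := (commutator W₁).card_mul_index
    have h4 : q ^ ((Nat.card W₁).factorization q + 1) ∣ Nat.card W₁ := by
      rw [pow_succ, ← S.card_eq_multiplicity]
      exact this ▸ Nat.mul_dvd_mul hcard hqd
    exact absurd ((hq.pow_dvd_iff_le_factorization Nat.card_pos.ne').1 h4) (by omega)

/-- Node C2 with a non-trivial central part: a normal subgroup `C` meeting `D` in a solvable Hall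
subgroup of it with the local hypothesis, and `H = C D`, give a normal complement of `D`. -/
theorem exists_normal_complement_of_normal (C D : Subgroup G) [C.Normal]
    (hsol : Group.IsSolvable (D.subgroupOf C))
    (hHall : (Nat.card (D.subgroupOf C)).Coprime (D.subgroupOf C).index)
    (hN : LocalSplit (D.subgroupOf C)) (hCD : C ⊔ D = ⊤) :
    ∃ N : Subgroup G, N.Normal ∧ N ⊓ D = ⊥ ∧ N ⊔ D = ⊤ := by
  obtain ⟨N, hNn, hNc, hNi, hNs⟩ := exists_normal_complement _ hsol hHall hN
  refine ⟨N.map C.subtype, ?_, ?_, ?_⟩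
  · haveI := hNc
    exact Cfsg.Agent.Lib.Cores.normal_map_subtype C N
  · rw [eq_bot_iff_forall]
    rintro _ ⟨⟨z, hzN, rfl⟩, hzD⟩
    have : z ∈ N ⊓ D.subgroupOf C := ⟨hzN, hzD⟩
    rw [hNi, mem_bot] at this
    rw [this, map_one]
  · rw [eq_top_iff, ← hCD]
    refine sup_le ?_ le_sup_right
    calc C = (N ⊔ D.subgroupOf C).map C.subtype := by
          rw [hNs, ← MonoidHom.range_eq_map, range_subtype]
      _ ≤ N.map C.subtype ⊔ D := by
          rw [Subgroup.map_sup, subgroupOf_map_subtype]
          exact sup_le_sup_left inf_le_left _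

end Cfsg.Agent.Lib.BenderOne83.Complement
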