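import Cfsg.Agent.Lib.BenderOne8.Regular
import Cfsg.Agent.Lib.BenderOne83.C2.Complement

/-!
# Bender's theorem, part I, node C2: an element of `D` centralising all involutions at `a`

By induction the `2`-elements of the centraliser of a subgroup fixing `a` centralise the
involutions there.  So a non-trivial `C_D(J_a)` makes the point stabiliser split: transfer gives
the regular normal subgroup.
-/

set_option autoImplicit false
set_option linter.style.haveILetI false
set_option linter.unusedSectionVars false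

namespace Cfsg.Agent.Lib.BenderOne83.Central

open MulAction Cfsg.Agent.Lib.Involutions.Basic
open Cfsg.Agent.Lib.BenderOne20 Cfsg.Agent.Lib.BenderOne8

universe u

variable {G Ω : Type u} [Group G] [MulAction G Ω] [Finite G]

/-- In the faithful case the `2`-elements at `a` centralise the involutions there. -/
theorem comm_of_faithful [FaithfulSMul G Ω] (hG : OneFix G Ω) {N : ℕ} (hlt : Nat.card G < N)
    (hbelow : BenderOne.Below.{u} N) {a : Ω}
    (hfour : ∃ s ∈ invAt G a, ∃ t ∈ invAt G a, s ≠ t ∧ s * t = t * s) {o s : G} (hoa : o • a = a)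
    {k : ℕ} (ho : o ^ 2 ^ k = 1) (hs : s ∈ invAt G a) : o * s = s * o := by
  haveI : Fact (Nat.Prime 2) := ⟨Nat.prime_two⟩
  haveI := hG.nontrivial
  haveI := hG.trans
  set K := stabilizer G a with hK
  obtain ⟨s₁, hs₁, t₁, ht₁, hne, hst⟩ := hfour
  have hcore : K.normalCore = ⊥ := by
    refine eq_bot_iff.2 fun x hx => Subgroup.mem_bot.2
      (FaithfulSMul.eq_of_smul_eq_smul (α := Ω) fun e => ?_)
    obtain ⟨g, rfl⟩ := exists_smul_eq G a e
    have h : (g⁻¹ * x * g⁻¹⁻¹) • a = a := hx g⁻¹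
    rw [inv_inv, mul_smul, mul_smul, inv_smul_eq_iff] at h
    rw [h, one_smul]
  obtain ⟨Q, hQ, hR⟩ := hbelow G K hlt (stronglyEmbedded_of_oneFix hG a)
    ⟨s₁, hs₁.2, t₁, ht₁.2, hs₁.1, ht₁.1, hne, hst⟩ hcore
  obtain ⟨y, hy⟩ := exists_ne a
  obtain ⟨g, rfl⟩ := exists_smul_eq G a y
  have hg : g ∉ K := hy
  haveI : (Q.subgroupOf K).Normal :=
    ⟨fun q hq h => hR.conj_mem h h.2 q hq⟩
  have hin : ∀ (q : G), q • a = a → ∀ i : ℕ, q ^ 2 ^ i = 1 → q ∈ Q := by
    intro q hqa i hqi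
    have hqg : q * g ∉ K := fun h => hg ((Subgroup.mul_mem_cancel_left K (show q ∈ K from hqa)).1 h)
    obtain ⟨r, hr, hr'⟩ := hR.trans g (q * g) hg hqg
    have hfix : (r⁻¹ * q) • g • a = g • a := by
      have h : ((q * g)⁻¹ * (r * g)) • a = a := hr'
      rw [mul_smul, inv_smul_eq_iff, mul_smul, mul_smul] at h
      rw [mul_smul, inv_smul_eq_iff, h]
    have hmem : r⁻¹ * q ∈ pairStab G a (g • a) :=
      ⟨K.mul_mem (K.inv_mem (hR.le hr)) (show q ∈ K from hqa), hfix⟩
    have hodd : Odd (orderOf (r⁻¹ * q)) :=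
      (hG.odd_pairStab (Ne.symm hy)).of_dvd_nat (Subgroup.orderOf_dvd_natCard _ hmem)
    set π := QuotientGroup.mk' (Q.subgroupOf K)
    set q' : K := ⟨q, hqa⟩
    set d' : K := ⟨r⁻¹ * q, hmem.1⟩
    have he : π d' = π q' := by
      refine QuotientGroup.eq.2 ?_
      show (r⁻¹ * q)⁻¹ * q ∈ Q
      have h2 := hR.conj_mem q⁻¹ (inv_mem (show q ∈ K from hqa)) r hr
      simpa [mul_assoc] using h2
    have h1 : orderOf (π q') ∣ 2 ^ i :=
      orderOf_dvd_of_pow_eq_one (by rw [← map_pow, show q' ^ 2 ^ i = 1 from Subtype.ext hqi, map_one])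
    have h2 : orderOf (π q') ∣ orderOf (r⁻¹ * q) :=
      he ▸ (orderOf_map_dvd π d').trans (dvd_of_eq (Subgroup.orderOf_mk _ _))
    have h3 : π q' = 1 := orderOf_eq_one_iff.1 (Nat.Coprime.eq_one_of_dvd
      (Nat.Coprime.pow_right i (Nat.coprime_two_right.2 (hodd.of_dvd_nat h2))) h1)
    exact (QuotientGroup.eq_one_iff q').1 h3
  have hsQ : s ∈ Q := hin s hs.2 1 (by rw [pow_one, pow_two, invol_mul_self hs.1])
  haveI : Nontrivial Q := ⟨⟨s, hsQ⟩, 1, fun h => invol_ne_one hs.1 (congrArg Subtype.val h)⟩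
  haveI := hQ.center_nontrivial
  obtain ⟨n, hn, hn'⟩ := (hQ.to_subgroup (Subgroup.center Q)).nontrivial_iff_card.1 inferInstance
  obtain ⟨z, hz⟩ := exists_prime_orderOf_dvd_card' (G := Subgroup.center Q) 2
    (hn' ▸ dvd_pow_self 2 hn.ne')
  have hz2 : orderOf ((z : Q) : G) = 2 := by
    rw [Subgroup.orderOf_coe, Subgroup.orderOf_coe, hz]
  obtain ⟨d, hd, hdz⟩ := hG.pairStab_conj_invAt (Ne.symm hy)
    (show ((z : Q) : G) ∈ invAt G a from ⟨hz2, hR.le (z : Q).2⟩) hs
  have hoQ := hin o hoa k ho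
  have hq := hR.conj_mem d⁻¹ (inv_mem hd.1) o hoQ
  rw [inv_inv] at hq
  have hcen : (d⁻¹ * o * d) * ((z : Q) : G) = ((z : Q) : G) * (d⁻¹ * o * d) :=
    congrArg Subtype.val (Subgroup.mem_center_iff.1 z.2 ⟨_, hq⟩)
  rw [← hdz]
  calc o * (d * ((z : Q) : G) * d⁻¹) = d * (d⁻¹ * o * d * ((z : Q) : G)) * d⁻¹ := by group
    _ = d * ((z : Q) : G) * d⁻¹ * o := by rw [hcen]; group

variable {p : ℕ} [Fact p.Prime] (hG : OneFix G Ω) (hF : PropF G Ω)
include hG hF

/-- The `2`-elements of `C(X)` at `a` centralise the involutions there centralising `X`. -/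
theorem comm_cen {X : Subgroup G} (hX : IsPGroup p X) (h3 : Three X Ω) {a : Ω} (ha : a ∈ Fx X)
    (hm : 1 < Nat.card (invCen X a)) (hbelow : BenderOne.Below.{u} (Nat.card G))
    (hne : Subgroup.centralizer (X : Set G) ≠ ⊤) {o s : G}
    (hoX : o ∈ Subgroup.centralizer (X : Set G)) (hoa : o • a = a) {k : ℕ} (ho : o ^ 2 ^ k = 1)
    (hs : s ∈ invCen X a) : o * s = s * o := by
  set L := Subgroup.centralizer (X : Set G)
  have hL : OneFix L ↥(fxAct X Ω) := local_oneFix hG hF hX h3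
  haveI := hL.trans
  haveI := hL.nontrivial
  haveI : Finite ↥(fxAct X Ω) := by
    obtain ⟨y⟩ := (inferInstance : Nonempty ↥(fxAct X Ω))
    exact Finite.of_surjective (fun g : L => g • y) (fun z => exists_smul_eq L y z)
  set φ := MulAction.toPermHom L ↥(fxAct X Ω)
  set a' : ↥(fxAct X Ω) := ⟨a, ha⟩
  obtain ⟨y, hy⟩ := exists_ne a'
  have hker : ∀ {x : L}, φ x = 1 → Odd (orderOf x) := fun {x} hx =>
    (hL.odd_pairStab hy.symm).of_dvd_nat (Subgroup.orderOf_dvd_natCard _
      ⟨Equiv.congr_fun hx a', Equiv.congr_fun hx y⟩)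
  have hnker : ∀ {x : L}, orderOf x = 2 → φ x ≠ 1 := fun {x} hx h => by
    have := hker h
    rw [hx] at this
    exact absurd this (by decide)
  have hinv : ∀ {x : L}, orderOf x = 2 → orderOf (φ.rangeRestrict x) = 2 := fun {x} hx => by
    refine orderOf_eq_prime ?_ fun h => hnker hx (congrArg Subtype.val h)
    rw [← map_pow, ← hx, pow_orderOf_eq_one, map_one]
  have hlift : ∀ {v : φ.range}, orderOf v = 2 →
      ∃ x : L, orderOf x = 2 ∧ φ.rangeRestrict x = v := by
    intro v hv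
    obtain ⟨x, rfl⟩ := φ.rangeRestrict_surjective v
    have h2 : φ (x ^ 2) = 1 := by
      have h := pow_orderOf_eq_one (φ.rangeRestrict x)
      rw [hv] at h
      simpa using congrArg Subtype.val h
    have hodd := hker h2
    obtain ⟨k, hk⟩ := hodd
    have himg : φ.rangeRestrict (x ^ orderOf (x ^ 2)) = φ.rangeRestrict x := by
      rw [hk, pow_succ, pow_mul, map_mul, map_pow]
      have : φ.rangeRestrict (x ^ 2) = 1 := Subtype.ext h2
      rw [this, one_pow, one_mul]
    refine ⟨x ^ orderOf (x ^ 2), orderOf_eq_prime ?_ fun h => ?_, himg⟩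
    · rw [← pow_mul, mul_comm, pow_mul, pow_orderOf_eq_one]
    · rw [h, map_one] at himg
      rw [← himg, orderOf_one] at hv
      exact absurd hv (by decide)
  have hR : OneFix φ.range ↥(fxAct X Ω) :=
    { one := fun v hv => by
        obtain ⟨x, hx, rfl⟩ := hlift hv
        exact hL.one x hx
      trans := ⟨fun e f => (exists_smul_eq L e f).imp' φ.rangeRestrict fun _ h => h⟩
      invol := hL.invol.imp' φ.rangeRestrict fun _ h => hinv h
      nontrivial := hL.nontrivial }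
  obtain ⟨s₁, hs₁, t₁, ht₁, hne', hst⟩ := exists_four hG hF hX h3 ha hm
  have hmem : ∀ {w : G} (hw : w ∈ invCen X a),
      φ.rangeRestrict (⟨w, mem_cen hw.2⟩ : L) ∈ invAt φ.range a' := fun {w} hw =>
    ⟨hinv ((Subgroup.orderOf_coe _).symm.trans hw.1.1), Subtype.ext hw.1.2⟩
  have hfour : ∃ v ∈ invAt φ.range a', ∃ w ∈ invAt φ.range a', v ≠ w ∧ v * w = w * v := by
    refine ⟨_, hmem hs₁, _, hmem ht₁, fun h => ?_, ?_⟩
    · set s' : L := ⟨s₁, mem_cen hs₁.2⟩
      set t' : L := ⟨t₁, mem_cen ht₁.2⟩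
      refine hnker (x := s' * t') ?_ ?_
      · rw [invol_iff]
        refine ⟨Subtype.ext ?_, fun e => hne' ?_⟩
        · show s₁ * t₁ * (s₁ * t₁) = 1
          calc s₁ * t₁ * (s₁ * t₁) = s₁ * (t₁ * s₁) * t₁ := by group
            _ = (s₁ * s₁) * (t₁ * t₁) := by rw [← hst]; group
            _ = 1 := by rw [invol_mul_self hs₁.1.1, invol_mul_self ht₁.1.1, one_mul]
        · have e' : s₁ * t₁ = 1 := congrArg Subtype.val e
          rw [eq_inv_of_mul_eq_one_left e', invol_inv ht₁.1.1]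
      · have h' : φ s' = φ t' := congrArg Subtype.val h
        rw [map_mul, h', ← map_mul, show t' * t' = 1 from Subtype.ext (invol_mul_self ht₁.1.1), map_one]
    · rw [← map_mul, ← map_mul]
      exact congrArg _ (Subtype.ext hst)
  set o' : L := ⟨o, hoX⟩
  set s' : L := ⟨s, mem_cen hs.2⟩
  have hrange : Nat.card φ.range < Nat.card G :=
    lt_of_le_of_lt (Nat.card_le_card_of_surjective _ φ.rangeRestrict_surjective)
      (lt_of_le_of_ne (Subgroup.card_le_card_group L) fun h => hne (L.card_eq_iff_eq_top.1 h))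
  have hcomm := comm_of_faithful hR hrange hbelow hfour
    (o := φ.rangeRestrict o') (k := k) (Subtype.ext hoa)
    (by rw [← map_pow, show o' ^ 2 ^ k = 1 from Subtype.ext ho, map_one]) (hmem hs)
  change φ.rangeRestrict o' * φ.rangeRestrict s' = φ.rangeRestrict s' * φ.rangeRestrict o' at hcomm
  set c : L := o' * s' * o'⁻¹ * s'⁻¹ with hc
  have hc1 : φ c = 1 := by
    have h : φ.rangeRestrict c = 1 := by
      rw [hc, map_mul, map_mul, map_mul, map_inv, map_inv, hcomm]
      group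
    exact congrArg Subtype.val h
  have hcfix : ∀ e ∈ Fx X, (c : G) • e = e := fun e he =>
    congrArg Subtype.val (Equiv.congr_fun hc1 (⟨e, he⟩ : ↥(fxAct X Ω)))
  by_contra hneq
  have hcne : (c : G) ≠ 1 := fun h => hneq (mul_inv_eq_iff_eq_mul.1 (mul_inv_eq_one.1 h))
  set b : Ω := (y : Ω)
  have hba : b ≠ a := fun h => hy (Subtype.ext h)
  have hsb : s • b ≠ b := fun h => hba (hG.eq_of_fix hs.1.1 h hs.1.2)
  have hinv : s * (c : G) * s⁻¹ = (c : G)⁻¹ := by
    show s * (o * s * o⁻¹ * s⁻¹) * s⁻¹ = (o * s * o⁻¹ * s⁻¹)⁻¹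
    simp only [mul_inv_rev, inv_inv, invol_inv hs.1.1, mul_assoc, invol_mul_self hs.1.1, mul_one]
  have hsbX : s • b ∈ Fx X :=
    smul_mem_Fx (Subgroup.centralizer_le_normalizer _ (mem_cen hs.2)) y.2
  rcases eq_or_eq_of_inverted hG hF (Ne.symm hsb) ⟨hs.1.1, rfl⟩
    ⟨hcfix b y.2, hcfix _ hsbX⟩ hcne hinv (hcfix a ha) with h | h
  · exact hba h.symm
  · exact hba (MulAction.injective s (h.symm.trans hs.1.2.symm))

omit [Fact p.Prime] in
/-- A fixed point other than `a` is moved to any other one by a `2`-element of `C(X)` at `a`. -/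
theorem exists_two_element [Fact p.Prime] {X : Subgroup G} (hX : IsPGroup p X) (h3 : Three X Ω)
    {a b y : Ω} (ha : a ∈ Fx X) (hb : b ∈ Fx X) (hy : y ∈ Fx X) (hba : b ≠ a) (hya : y ≠ a)
    (hm : 1 < Nat.card (invCen X a)) (hbelow : BenderOne.Below.{u} (Nat.card G))
    (hne : Subgroup.centralizer (X : Set G) ≠ ⊤) :
    ∃ o ∈ Subgroup.centralizer (X : Set G), o • a = a ∧ o • b = y ∧ ∃ k, o ^ 2 ^ k = 1 := by
  haveI : Fact (Nat.Prime 2) := ⟨Nat.prime_two⟩
  set L := Subgroup.centralizer (X : Set G)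
  obtain ⟨j, hj⟩ := card_Fx_eq_two_pow hG hF hX h3 ha hm hbelow hne
  set a' : ↥(fxAct X Ω) := ⟨a, ha⟩
  set A := stabilizer L a'
  let b' : others L a' := ⟨⟨b, hb⟩, fun h => hba (congrArg Subtype.val h)⟩
  let y' : others L a' := ⟨⟨y, hy⟩, fun h => hya (congrArg Subtype.val h)⟩
  have hcard : Nat.card (others L a') = 2 ^ j := hj ▸ Nat.card_congr
    { toFun := fun e => ⟨e.1.1, e.1.2, fun h => e.2 (Subtype.ext h)⟩
      invFun := fun e => ⟨⟨e.1, e.2.1⟩, fun h => e.2.2 (congrArg Subtype.val h)⟩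
      left_inv := fun e => rfl
      right_inv := fun e => rfl }
  haveI : Finite (others L a') := Nat.finite_of_card_ne_zero (by rw [hcard]; positivity)
  haveI : IsPretransitive A (others L a') := ⟨fun e f => by
    obtain ⟨h, hh, h1, h2⟩ := cen_two_transitive hG hF hX h3 ha e.1.2 f.1.2 hm
      (fun h => e.2 (Subtype.ext h)) (fun h => f.2 (Subtype.ext h))
    exact ⟨⟨⟨h, hh⟩, Subtype.ext h1⟩, Subtype.ext (Subtype.ext h2)⟩⟩
  have hstab : Odd (Nat.card (stabilizer A b')) :=
    (hG.odd_pairStab (Ne.symm hba)).of_dvd_nat (Subgroup.card_dvd_of_injective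
      ((L.subtype.comp (A.subtype.comp (stabilizer A b').subtype)).codRestrict (pairStab G a b)
        fun d => ⟨congrArg Subtype.val d.1.2,
          congrArg (fun e : others L a' => (e.1 : Ω)) d.2⟩)
      fun x z hxz => Subtype.ext (Subtype.ext (Subtype.ext
        (congrArg (fun w : pairStab G a b => (w : G)) hxz :))))
  set S : Sylow 2 A := default
  have hA : Nat.card A = 2 ^ j * Nat.card (stabilizer A b') := by
    rw [← hcard, ← index_stabilizer_of_transitive A b', Subgroup.index_mul_card]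
  have hS : Nat.card S = 2 ^ j := by
    rw [S.card_eq_multiplicity, hA, Nat.factorization_mul (pow_ne_zero _ two_ne_zero)
      Nat.card_pos.ne', Nat.Prime.factorization_pow Nat.prime_two, Finsupp.add_apply,
      Finsupp.single_eq_same, Nat.factorization_eq_zero_of_not_dvd
        (fun h => Nat.not_even_iff_odd.2 hstab (even_iff_two_dvd.2 h)), add_zero]
  have hinj : Function.Injective fun z : S => (z : A) • b' := by
    intro z w h
    have hmem : (w : A)⁻¹ * z ∈ stabilizer A b' := by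
      show ((w : A)⁻¹ * z) • b' = b'
      rw [mul_smul, inv_smul_eq_iff]
      exact h
    obtain ⟨i, hi⟩ := IsPGroup.iff_orderOf.1 S.2 (w⁻¹ * z)
    have h1 : orderOf ((w : A)⁻¹ * z) = 2 ^ i := (Subgroup.orderOf_coe (w⁻¹ * z)).trans hi
    have h2 : orderOf ((w : A)⁻¹ * z) = 1 := Nat.Coprime.eq_one_of_dvd
      (Nat.Coprime.pow_right i (Nat.coprime_two_right.2
        (hstab.of_dvd_nat (Subgroup.orderOf_dvd_natCard _ hmem)))) h1.dvd
    exact Subtype.ext (inv_mul_eq_one.1 (orderOf_eq_one_iff.1 h2)).symm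
  obtain ⟨z, hz⟩ := (hinj.bijective_of_nat_card_le (by rw [hcard]; exact hS.ge)).2 y'
  obtain ⟨i, hi⟩ := S.2 z
  exact ⟨((z : A) : L), ((z : A) : L).2, congrArg Subtype.val (z : A).2,
    congrArg (fun e : others L a' => (e.1 : Ω)) hz, i,
    congrArg (fun w : S => (((w : A) : L) : G)) hi⟩

end Cfsg.Agent.Lib.BenderOne83.Central
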