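import Mathlib
import Cfsg.Agent.Lib.Involutions.Basic

/-!
# Bender's theorem, part I, node C2: the edge lemma

An abelian group of odd order acting on the involutions with non-trivial stabilisers of equal
order, any two different ones generating it, and commuting involutions in each fixed point set,
cannot act faithfully.
-/

set_option autoImplicit false

namespace Cfsg.Agent.Lib.BenderOne83.Edge

open Subgroup Cfsg.Agent.Lib.Involutions.Basic

variable {H : Type*} [Group H] {A : Subgroup H}

/-- The stabiliser of an involution in `A`. -/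
abbrev st (A : Subgroup H) (s : H) : Subgroup H := A ⊓ centralizer {s}

theorem mem_st {a s : H} : a ∈ st A s ↔ a ∈ A ∧ a * s = s * a := by
  rw [mem_inf, mem_centralizer_singleton_iff]

theorem st_conj (hA : ∀ a ∈ A, ∀ b ∈ A, a * b = b * a) {a : H} (ha : a ∈ A) (s : H) :
    st A (a * s * a⁻¹) = st A s := by
  ext b
  rw [mem_st, mem_st]
  refine and_congr_right fun hb => ?_
  have h := hA b hb a ha
  have h' : a⁻¹ * b = b * a⁻¹ := hA _ (inv_mem ha) b hb
  constructor
  · intro e
    calc b * s = a⁻¹ * (a * b) * s * a⁻¹ * a := by group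
      _ = a⁻¹ * (b * (a * s * a⁻¹)) * a := by rw [← h]; group
      _ = a⁻¹ * (a * s * a⁻¹ * b) * a := by rw [e]
      _ = s * (a⁻¹ * b) * a := by group
      _ = s * b := by rw [h']; group
  · intro e
    calc b * (a * s * a⁻¹) = (b * a) * s * a⁻¹ := by group
      _ = a * (b * s) * a⁻¹ := by rw [h]; group
      _ = a * s * (b * a⁻¹) := by rw [e]; group
      _ = a * s * a⁻¹ * b := by rw [← h']; group

/-- The edge lemma. -/
theorem edge (hA : ∀ a ∈ A, ∀ b ∈ A, a * b = b * a) (hex : ∃ s : H, orderOf s = 2)
    (hne : ∀ s : H, orderOf s = 2 → st A s ≠ ⊥)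
    (hcard : ∀ s t : H, orderOf s = 2 → orderOf t = 2 →
      st A s ≤ st A t → st A s = st A t)
    (hsup : ∀ s t : H, orderOf s = 2 → orderOf t = 2 → st A s ≠ st A t → A ≤ st A s ⊔ st A t)
    (hclique : ∀ s w : H, orderOf s = 2 → orderOf w = 2 → st A s ≤ centralizer {w} →
      s * w = w * s)
    (hfaith : ∀ a ∈ A, (∀ s : H, orderOf s = 2 → a * s = s * a) → a = 1) : False := by
  obtain ⟨s₀, hs₀⟩ := hex
  have hall : ∀ s : H, orderOf s = 2 → st A s ≠ A := by
    intro s hs h
    refine hne s hs ?_
    rw [h, eq_bot_iff_forall]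
    exact fun a ha => hfaith a ha fun w hw => by
      have h1 : st A w = st A s := hcard w s hw hs (h.symm ▸ inf_le_left)
      exact (mem_st.1 (h1.symm ▸ h.symm ▸ ha : a ∈ st A w)).2
  by_cases hE : ∀ s t : H, orderOf s = 2 → orderOf t = 2 → s * t = t * s → st A s = st A t
  · -- commuting is an equivalence relation whose classes are fixed by `A`
    have hconv : ∀ s t : H, orderOf s = 2 → orderOf t = 2 → st A s = st A t → s * t = t * s :=
      fun s t hs ht h => hclique s t hs ht (h.symm ▸ inf_le_right)
    have htrans : ∀ r s t : H, orderOf r = 2 → orderOf s = 2 → orderOf t = 2 → r * s = s * r →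
        s * t = t * s → r * t = t * r := fun r s t hr hs ht h1 h2 =>
      hconv r t hr ht ((hE r s hr hs h1).trans (hE s t hs ht h2))
    have ho : ∀ (g : H) {s : H}, orderOf s = 2 → orderOf (g * s * g⁻¹) = 2 :=
      fun g s hs => (orderOf_conj_eq g s).trans hs
    let N : Subgroup H :=
      { carrier := {g | ∀ s : H, orderOf s = 2 → g * s * g⁻¹ * s = s * (g * s * g⁻¹)}
        one_mem' := fun s _ => by group
        mul_mem' := fun {g h} hg hh s hs => by
          have e : g * h * s * (g * h)⁻¹ = g * (h * s * h⁻¹) * g⁻¹ := by group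
          rw [e]
          exact htrans _ _ _ (ho g (ho h hs)) (ho h hs) hs (hg _ (ho h hs)) (hh s hs)
        inv_mem' := fun {g} hg s hs => by
          have h1 := hg _ (ho g⁻¹ hs)
          have e : g * (g⁻¹ * s * g⁻¹⁻¹) * g⁻¹ = s := by group
          rw [e] at h1
          exact h1.symm }
    have hN : ∀ w ∈ N, orderOf w ≠ 2 := by
      intro w hwN hw
      have hwall : ∀ s : H, orderOf s = 2 → w * s = s * w := by
        intro s hs
        have hws := hwN s hs
        rw [invol_inv hw] at hws
        by_cases h1 : s * (w * s * w) = 1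
        · calc w * s = s * (s * (w * s * w)) * w := by
                rw [← mul_assoc s s, invol_mul_self hs, one_mul, mul_assoc (w * s) w w,
                  invol_mul_self hw, mul_one]
            _ = s * w := by rw [h1, mul_one]
        · have hX : w * s * w * (w * s * w) = 1 := by
            calc w * s * w * (w * s * w) = w * s * (w * w) * s * w := by group
              _ = w * (s * s) * w := by rw [invol_mul_self hw]; group
              _ = 1 := by rw [invol_mul_self hs, mul_one, invol_mul_self hw]
          generalize hXdef : w * s * w = X at hws h1 hX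
          have hj2 : orderOf (s * X) = 2 := by
            refine invol_iff.2 ⟨?_, h1⟩
            calc s * X * (s * X) = s * (X * s) * X := by group
              _ = (s * s) * (X * X) := by rw [hws]; group
              _ = 1 := by rw [invol_mul_self hs, hX, one_mul]
          have hsj : s * (s * X) = s * X * s := by rw [mul_assoc, hws]
          have hwj : w * (s * X) = s * X * w := by
            have e1 : X * w = w * s := by
              rw [← hXdef, mul_assoc, invol_mul_self hw, mul_one]
            calc w * (s * X) = w * s * X := by group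
              _ = X * w * X := by rw [e1]
              _ = X * (w * X) := by group
              _ = X * (w * (w * s * w)) := by rw [hXdef]
              _ = X * s * w := by
                rw [← mul_assoc w, ← mul_assoc w, invol_mul_self hw, one_mul, ← mul_assoc]
              _ = s * X * w := by rw [hws]
          exact htrans w (s * X) s hw hj2 hs hwj hsj.symm
      refine hne w hw ((eq_bot_iff_forall _).2 fun a ha => hfaith a (mem_st.1 ha).1 fun s hs => ?_)
      rw [hE w s hw hs (hwall s hs)] at ha
      exact (mem_st.1 ha).2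
    have hAN : ∀ a ∈ A, a ∈ N := fun a ha s hs =>
      (hconv _ _ (ho a hs) hs (st_conj hA ha s) :)
    refine hne s₀ hs₀ ((eq_bot_iff_forall _).2 fun a ha => hfaith a (mem_st.1 ha).1 fun s hs => ?_)
    have haN := hAN a (mem_st.1 ha).1
    have hsN : s * a⁻¹ * s⁻¹ ∈ N := fun r hr => by
      have h1 := inv_mem haN (s⁻¹ * r * s⁻¹⁻¹) (ho s⁻¹ hr)
      rw [inv_inv] at h1
      have h2 := congrArg (fun z => s * z * s⁻¹) h1
      simpa [mul_assoc, inv_inv] using h2
    have hc : a * s * a⁻¹ * s ∈ N := by
      have := mul_mem haN hsN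
      rwa [← mul_assoc, ← mul_assoc, invol_inv hs] at this
    have hsq := haN s hs
    by_contra hne'
    refine hN _ hc (invol_iff.2 ⟨?_, fun h => hne' ?_⟩)
    · calc a * s * a⁻¹ * s * (a * s * a⁻¹ * s)
          = a * s * a⁻¹ * s * (s * (a * s * a⁻¹)) := by rw [hsq]
        _ = a * s * a⁻¹ * (s * s) * (a * s * a⁻¹) := by group
        _ = a * s * a⁻¹ * (a * s * a⁻¹) := by rw [invol_mul_self hs, mul_one]
        _ = a * (s * s) * a⁻¹ := by group
        _ = 1 := by rw [invol_mul_self hs]; group
    · have h' := eq_inv_of_mul_eq_one_left h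
      rw [invol_inv hs] at h'
      exact mul_inv_eq_iff_eq_mul.1 h'
  · -- a commuting pair with different stabilisers
    push Not at hE
    obtain ⟨s, t, hs, ht, hst, hdiff⟩ := hE
    have hp : orderOf (s * t) = 2 := by
      refine invol_iff.2 ⟨?_, fun h => hdiff ?_⟩
      · calc s * t * (s * t) = s * (t * s) * t := by group
          _ = s * (s * t) * t := by rw [hst]
          _ = (s * s) * (t * t) := by group
          _ = 1 := by rw [invol_mul_self hs, invol_mul_self ht, one_mul]
      · rw [eq_inv_of_mul_eq_one_left h, invol_inv ht]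
    have hle : st A (s * t) ≤ st A s ⊓ st A t := by
      intro a ha
      obtain ⟨haA, hac⟩ := mem_st.1 ha
      have hs' : orderOf (a * s * a⁻¹) = 2 := (orderOf_conj_eq a s).trans hs
      have ht' : orderOf (a * t * a⁻¹) = 2 := (orderOf_conj_eq a t).trans ht
      have hz : s * (a * s * a⁻¹) = t * (a * t * a⁻¹) := by
        have e : a * s * a⁻¹ * (a * t * a⁻¹) = s * t := by
          calc a * s * a⁻¹ * (a * t * a⁻¹) = a * (s * t) * a⁻¹ := by group
            _ = s * t := by rw [hac]; group
        calc s * (a * s * a⁻¹)
            = s * (a * s * a⁻¹ * (a * t * a⁻¹)) * (a * t * a⁻¹)⁻¹ := by group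
          _ = t * (a * t * a⁻¹) := by
            rw [e, invol_inv ht', ← mul_assoc s, invol_mul_self hs, one_mul]
      have hcs : ∀ {r : H}, orderOf r = 2 → ∀ b ∈ st A r,
          b * (r * (a * r * a⁻¹)) = r * (a * r * a⁻¹) * b := by
        intro r _ b hb
        have h1 := (mem_st.1 hb).2
        have h2 := (mem_st.1 ((st_conj hA haA r).symm ▸ hb)).2
        rw [← mul_assoc, h1, mul_assoc, h2, ← mul_assoc]
      have hz1 : s * (a * s * a⁻¹) = 1 := by
        by_contra hne'
        have hcomm : s * (a * s * a⁻¹) = a * s * a⁻¹ * s :=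
          hclique _ _ hs hs' ((st_conj hA haA s).symm.le.trans inf_le_right)
        have hz2 : orderOf (s * (a * s * a⁻¹)) = 2 := invol_iff.2 ⟨by
          calc s * (a * s * a⁻¹) * (s * (a * s * a⁻¹))
              = s * (a * s * a⁻¹) * (a * s * a⁻¹ * s) := by rw [← hcomm]
            _ = s * (a * (s * s) * a⁻¹) * s := by group
            _ = 1 := by rw [invol_mul_self hs, mul_one, mul_inv_cancel, mul_one, invol_mul_self hs],
          hne'⟩
        refine hall _ hz2 (le_antisymm inf_le_left fun b hb => mem_st.2 ⟨hb, ?_⟩)
        have hbs : b ∈ centralizer {s * (a * s * a⁻¹)} := by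
          refine (hsup s t hs ht hdiff).trans (sup_le ?_ ?_) hb
          · exact fun c hc => mem_centralizer_singleton_iff.2 (hcs hs c hc)
          · exact fun c hc => mem_centralizer_singleton_iff.2 (by rw [hz]; exact hcs ht c hc)
        exact mem_centralizer_singleton_iff.1 hbs
      have key : ∀ {r : H}, orderOf r = 2 → r * (a * r * a⁻¹) = 1 → a ∈ st A r := by
        intro r hr h
        refine mem_st.2 ⟨haA, ?_⟩
        have h' := eq_inv_of_mul_eq_one_right h
        rw [invol_inv hr] at h'
        exact mul_inv_eq_iff_eq_mul.1 h'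
      exact ⟨key hs hz1, key ht (hz ▸ hz1)⟩
    exact hdiff ((hcard _ _ hp hs (hle.trans inf_le_left)).symm.trans
      (hcard _ _ hp ht (hle.trans inf_le_right)))

end Cfsg.Agent.Lib.BenderOne83.Edge
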