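import Mathlib
import Cfsg.Agent.Lib.Cores.Basic
import Cfsg.Agent.Lib.Coprime.Glauberman
import Cfsg.Agent.Lib.Frobenius.FixedPointFree
import Cfsg.Agent.Lib.OddTau.Basic
import Cfsg.Agent.Lib.OddOrder.FeitThompson
import Cfsg.Agent.Lib.OddLocal.DerivedFitting
import Cfsg.Agent.Lib.BenderOne20.Triangle

/-!
# Bender's theorem, part I, node C2: tools for a group acting on an abelian group

`Y` normalises the abelian group `K`.  An element is free if it fixes only the identity of `K`.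
-/

set_option autoImplicit false
set_option linter.style.haveILetI false
set_option linter.unusedSectionVars false

namespace Cfsg.Agent.Lib.BenderOne83.ShapeBase

open Subgroup
open scoped commutatorElement

variable {G : Type*} [Group G]

/-- `y` fixes only the identity of `K`. -/
abbrev Free (K : Subgroup G) (y : G) : Prop := ∀ k ∈ K, y * k = k * y → k = 1

theorem Free.of_pow {K : Subgroup G} {y : G} {n : ℕ} (h : Free K (y ^ n)) : Free K y :=
  fun k hk hc => h k hk (Commute.pow_left hc n).eq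

theorem Free.conj {K : Subgroup G} {y g : G} (h : Free K y)
    (hg : g ∈ normalizer (K : Set G)) : Free K (g * y * g⁻¹) := by
  intro k hk hc
  have h1 := h (g⁻¹ * k * g) ((mem_normalizer_iff''.1 hg k).1 hk) (by
    calc y * (g⁻¹ * k * g) = g⁻¹ * (g * y * g⁻¹ * k) * g := by group
      _ = g⁻¹ * k * g * y := by rw [hc]; group)
  calc k = g * (g⁻¹ * k * g) * g⁻¹ := by group
    _ = 1 := by rw [h1]; group

variable [Finite G]

/-- Non-identity powers of a free element of prime order are free. -/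
theorem free_zpowers {K : Subgroup G} {τ z : G} {q : ℕ} (hq : q.Prime) (hτ : orderOf τ = q)
    (h : Free K τ) (hz : z ∈ zpowers τ) (hz1 : z ≠ 1) : Free K z := by
  haveI := Fact.mk hq
  intro k hk hc
  have hgen : τ ∈ zpowers z := by
    have hd : orderOf z = q := by
      refine ((Nat.dvd_prime hq).1 ?_).resolve_left (mt orderOf_eq_one_iff.1 hz1)
      rw [← hτ, ← Nat.card_zpowers τ]
      exact Subgroup.orderOf_dvd_natCard _ hz
    rw [show zpowers z = zpowers τ from eq_of_le_of_card_ge (zpowers_le.2 hz)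
      (by rw [Nat.card_zpowers, Nat.card_zpowers, hd, hτ])]
    exact mem_zpowers τ
  obtain ⟨i, rfl⟩ := Subgroup.mem_zpowers_iff.1 hgen
  exact h k hk (Commute.zpow_left hc i).eq

/-- A free element of prime order `q` forces `q ∤ |K|`. -/
theorem not_dvd_of_free {K : Subgroup G} (hK : ∀ k ∈ K, ∀ l ∈ K, k * l = l * k) {τ : G} {q : ℕ}
    (hq : q.Prime) (hτ : orderOf τ = q) (hn : τ ∈ normalizer (K : Set G)) (h : Free K τ) :
    ¬ q ∣ Nat.card K := by
  haveI : IsMulCommutative K := ⟨⟨fun a b => Subtype.ext (hK a a.2 b b.2)⟩⟩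
  letI : CommGroup K := { (inferInstance : Group K) with
    mul_comm := fun a b => Subtype.ext (hK a a.2 b b.2) }
  have hρ := Frobenius.isFPF_conj (A := zpowers τ) (V := K) (zpowers_le.2 hn) fun z hz hz1 => by
    refine (Subgroup.eq_bot_iff_forall _).2 fun k hk => ?_
    exact free_zpowers hq hτ h hz hz1 k hk.1 (mem_centralizer_singleton_iff.1 hk.2).symm
  have hcop := hρ.coprime_card
  rw [Nat.card_zpowers, hτ] at hcop
  exact hq.coprime_iff_not_dvd.1 hcop

/-- A `p`-group fixes a non-identity element of a normalised group of order divisible by `p`. -/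
theorem exists_fixed {A P : Subgroup G} {p : ℕ} [hp : Fact p.Prime] (hP : IsPGroup p P)
    (hPA : P ≤ normalizer (A : Set G)) (hdvd : p ∣ Nat.card A) :
    ∃ a ∈ A, a ≠ 1 ∧ ∀ y ∈ P, y * a = a * y := by
  letI : MulAction P A := MulAction.compHom A (A.normalizerMonoidHom.comp (Subgroup.inclusion hPA))
  have h1 : (1 : A) ∈ MulAction.fixedPoints P A := fun y =>
    map_one ((A.normalizerMonoidHom.comp (Subgroup.inclusion hPA)) y)
  obtain ⟨b, hb, hb1⟩ := hP.exists_fixed_point_of_prime_dvd_card_of_fixed_point (α := A) hdvd h1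
  refine ⟨b, b.2, fun e => hb1 (Subtype.ext e).symm, fun y hy => ?_⟩
  have h := congrArg Subtype.val (hb ⟨y, hy⟩)
  exact mul_inv_eq_iff_eq_mul.1 h

/-- The elements of `K` of order dividing `n`. -/
def tors {K : Subgroup G} (hK : ∀ k ∈ K, ∀ l ∈ K, k * l = l * k) (n : ℕ) : Subgroup G where
  carrier := {k | k ∈ K ∧ k ^ n = 1}
  one_mem' := ⟨one_mem K, one_pow n⟩
  mul_mem' := fun {a b} ha hb => ⟨mul_mem ha.1 hb.1, by
    rw [(show Commute a b from hK a ha.1 b hb.1).mul_pow, ha.2, hb.2, one_mul]⟩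
  inv_mem' := fun {a} ha => ⟨inv_mem ha.1, by rw [inv_pow, ha.2, inv_one]⟩

theorem tors_le {K : Subgroup G} (hK : ∀ k ∈ K, ∀ l ∈ K, k * l = l * k) (n : ℕ) :
    tors hK n ≤ K := fun _ h => h.1

theorem le_normalizer_tors {K : Subgroup G} (hK : ∀ k ∈ K, ∀ l ∈ K, k * l = l * k) (n : ℕ) :
    normalizer (K : Set G) ≤ normalizer (tors hK n : Set G) := by
  intro g hg
  refine mem_normalizer_iff.2 fun k => ⟨fun h => ⟨(mem_normalizer_iff.1 hg k).1 h.1, ?_⟩,
    fun h => ⟨(mem_normalizer_iff.1 hg k).2 h.1, ?_⟩⟩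
  · rw [conj_pow, h.2, mul_one, mul_inv_cancel]
  · have h2 : g * k ^ n * g⁻¹ = 1 := by rw [← conj_pow]; exact h.2
    calc k ^ n = g⁻¹ * (g * k ^ n * g⁻¹) * g := by group
      _ = 1 := by rw [h2]; group

/-- An element of prime power order of `K` lies in the primary part. -/
theorem mem_tors_proj {K : Subgroup G} (hK : ∀ k ∈ K, ∀ l ∈ K, k * l = l * k) {k : G} {s j : ℕ}
    (hs : s.Prime) (hk : k ∈ K) (hj : orderOf k = s ^ j) :
    k ∈ tors hK (s ^ (Nat.card K).factorization s) := by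
  refine ⟨hk, orderOf_dvd_iff_pow_eq_one.1 ?_⟩
  rw [hj]
  exact Nat.pow_dvd_pow s ((hs.pow_dvd_iff_le_factorization Nat.card_pos.ne').1
    (hj ▸ K.orderOf_dvd_natCard hk))

theorem isPGroup_tors_pow {K : Subgroup G} (hK : ∀ k ∈ K, ∀ l ∈ K, k * l = l * k) (s n : ℕ) :
    IsPGroup s (tors hK (s ^ n)) := fun k => ⟨n, Subtype.ext (by
  rw [SubmonoidClass.coe_pow, k.2.2, OneMemClass.coe_one])⟩

/-- The `p'`-part has order prime to `p`. -/
theorem not_dvd_tors_compl {K : Subgroup G} (hK : ∀ k ∈ K, ∀ l ∈ K, k * l = l * k) {p : ℕ}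
    (hp : p.Prime) :
    ¬ p ∣ Nat.card (tors hK (Nat.card K / p ^ (Nat.card K).factorization p)) := by
  intro h
  haveI := Fact.mk hp
  obtain ⟨k, hk⟩ := exists_prime_orderOf_dvd_card' p h
  have h1 : orderOf (k : G) ∣ Nat.card K / p ^ (Nat.card K).factorization p :=
    orderOf_dvd_of_pow_eq_one k.2.2
  rw [Subgroup.orderOf_coe, hk] at h1
  exact Nat.not_dvd_ordCompl hp Nat.card_pos.ne' h1

/-- An element of `K` is the product of its `p`-part and its `p'`-part. -/
theorem exists_parts {K : Subgroup G} (hK : ∀ k ∈ K, ∀ l ∈ K, k * l = l * k) {p : ℕ}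
    (hp : p.Prime) {k : G} (hk : k ∈ K) :
    ∃ a ∈ tors hK (p ^ (Nat.card K).factorization p),
      ∃ b ∈ tors hK (Nat.card K / p ^ (Nat.card K).factorization p), k = a * b := by
  set u := p ^ (Nat.card K).factorization p
  set v := Nat.card K / u
  have huv : u * v = Nat.card K := Nat.ordProj_mul_ordCompl_eq_self _ p
  have hcop : IsCoprime (u : ℤ) (v : ℤ) :=
    Nat.isCoprime_iff_coprime.2 ((Nat.coprime_ordCompl hp Nat.card_pos.ne').pow_left _)
  obtain ⟨x, y, hxy⟩ := hcop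
  have hkn : k ^ (Nat.card K) = 1 :=
    orderOf_dvd_iff_pow_eq_one.1 (K.orderOf_dvd_natCard hk)
  have hkz : ∀ i : ℤ, k ^ ((Nat.card K : ℤ) * i) = 1 := fun i => by
    rw [zpow_mul, zpow_natCast, hkn, one_zpow]
  refine ⟨k ^ (y * (v : ℤ)), ⟨zpow_mem hk _, ?_⟩, k ^ (x * (u : ℤ)), ⟨zpow_mem hk _, ?_⟩, ?_⟩
  · rw [← zpow_natCast, ← zpow_mul, show y * (v : ℤ) * (u : ℤ) = ((u * v : ℕ) : ℤ) * y by
      push_cast; ring, huv]
    exact hkz y
  · rw [← zpow_natCast, ← zpow_mul, show x * (u : ℤ) * (v : ℤ) = ((u * v : ℕ) : ℤ) * x by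
      push_cast; ring, huv]
    exact hkz x
  · rw [← zpow_add, show y * (v : ℤ) + x * (u : ℤ) = 1 by rw [← hxy]; ring, zpow_one]

/-- An element centralising the elements of prime power order of `K` centralises `K`. -/
theorem commute_of_parts {K : Subgroup G} {v : G}
    (h : ∀ s : ℕ, s.Prime → ∀ k ∈ K, (∃ j, orderOf k = s ^ j) → v * k = k * v) :
    ∀ k ∈ K, v * k = k * v := by
  intro k hk
  exact (mem_centralizer_singleton_iff.1 (OddLocal.DerivedFitting.mem_of_primePow_parts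
    (H := centralizer {v}) (y := k) fun s hs z hz hzs =>
      mem_centralizer_singleton_iff.2 (h s hs z (zpowers_le.2 hk hz) hzs).symm)).symm

/-- An abelian quotient has a subgroup of index `s` for each prime `s` dividing its order. -/
theorem exists_index_of_dvd {Q : Type*} [CommGroup Q] [Finite Q] {s : ℕ} (hs : s.Prime)
    (hdvd : s ∣ Nat.card Q) : ∃ N : Subgroup Q, N.index = s := by
  haveI := Fact.mk hs
  set R := (powMonoidHom s : Q →* Q).range
  have hR : R ≠ ⊤ := by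
    intro h
    obtain ⟨a, ha⟩ := exists_prime_orderOf_dvd_card' s hdvd
    have hbij : Function.Bijective (powMonoidHom s : Q →* Q) :=
      Finite.surjective_iff_bijective.1 (MonoidHom.range_eq_top.1 h)
    have ha1 : a = 1 := hbij.1 (show a ^ s = (1 : Q) ^ s by rw [one_pow, ← ha, pow_orderOf_eq_one])
    rw [ha1, orderOf_one] at ha
    exact hs.ne_one ha.symm
  obtain ⟨N, hN, hle⟩ := (eq_top_or_exists_le_coatom R).resolve_left hR
  obtain ⟨a, -, ha⟩ := SetLike.exists_of_lt (lt_top_iff_ne_top.2 hN.1)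
  refine ⟨N, ?_⟩
  have htop : N ⊔ zpowers a = ⊤ := hN.2 _ (left_lt_sup.2 fun h => ha (h (mem_zpowers a)))
  have hgen : zpowers (QuotientGroup.mk' N a) = ⊤ := by
    rw [← MonoidHom.map_zpowers, eq_top_iff]
    rintro y -
    obtain ⟨x, rfl⟩ := QuotientGroup.mk'_surjective N y
    obtain ⟨n, hn, z, hz, rfl⟩ := Subgroup.mem_sup.1 (htop.ge (mem_top x))
    refine ⟨z, hz, ?_⟩
    rw [map_mul, show QuotientGroup.mk' N n = 1 from (QuotientGroup.eq_one_iff n).2 hn, one_mul]
  rw [Subgroup.index, ← Subgroup.card_top, ← hgen, Nat.card_zpowers]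
  refine orderOf_eq_prime ?_ fun e => ha ((QuotientGroup.eq_one_iff a).1 e)
  rw [← map_pow]
  exact (QuotientGroup.eq_one_iff _).2 (hle ⟨a, rfl⟩)

/-- `[a, b]` centralises a cyclic group normalised by `a` and `b`. -/
theorem commutator_centralizes_cyclic {A : Subgroup G} [hA : IsCyclic A] {a b : G}
    (ha : a ∈ normalizer (A : Set G)) (hb : b ∈ normalizer (A : Set G)) {x : G} (hx : x ∈ A) :
    (a * b * a⁻¹ * b⁻¹) * x = x * (a * b * a⁻¹ * b⁻¹) := by
  obtain ⟨g, hg⟩ := hA.exists_generator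
  obtain ⟨i, hi⟩ := Subgroup.mem_zpowers_iff.1 (hg ⟨a * g * a⁻¹, (mem_normalizer_iff.1 ha g).1 g.2⟩)
  obtain ⟨j, hj⟩ := Subgroup.mem_zpowers_iff.1 (hg ⟨b * g * b⁻¹, (mem_normalizer_iff.1 hb g).1 g.2⟩)
  have hi' : (g : G) ^ i = a * g * a⁻¹ := by simpa using congrArg Subtype.val hi
  have hj' : (g : G) ^ j = b * g * b⁻¹ := by simpa using congrArg Subtype.val hj
  have key : (a * b) * g * (a * b)⁻¹ = (b * a) * (g : G) * (b * a)⁻¹ := by
    calc (a * b) * g * (a * b)⁻¹ = a * (b * g * b⁻¹) * a⁻¹ := by group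
      _ = ((g : G) ^ i) ^ j := by rw [← hj', ← conj_zpow, hi']
      _ = ((g : G) ^ j) ^ i := by rw [← zpow_mul, ← zpow_mul, mul_comm]
      _ = b * (a * g * a⁻¹) * b⁻¹ := by rw [← hi', ← conj_zpow, hj']
      _ = (b * a) * (g : G) * (b * a)⁻¹ := by group
  have h1 : Commute (a * b * a⁻¹ * b⁻¹) (g : G) := by
    show (a * b * a⁻¹ * b⁻¹) * (g : G) = g * (a * b * a⁻¹ * b⁻¹)
    calc (a * b * a⁻¹ * b⁻¹) * (g : G)
        = (a * b * a⁻¹ * b⁻¹) * g * (a * b * a⁻¹ * b⁻¹)⁻¹ * (a * b * a⁻¹ * b⁻¹) := by group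
      _ = (a * b) * ((b * a)⁻¹ * g * (b * a)) * (a * b)⁻¹ * (a * b * a⁻¹ * b⁻¹) := by group
      _ = g * (a * b * a⁻¹ * b⁻¹) := by
        have e : (b * a)⁻¹ * g * (b * a) = (a * b)⁻¹ * g * (a * b) := by
          obtain ⟨k, hk⟩ := Subgroup.mem_zpowers_iff.1
            (hg ⟨(b * a)⁻¹ * g * (b * a), (mem_normalizer_iff''.1 (mul_mem hb ha) g).1 g.2⟩)
          have hk' : (g : G) ^ k = (b * a)⁻¹ * g * (b * a) := by simpa using congrArg Subtype.val hk
          have h2 : (a * b) * (g : G) ^ k * (a * b)⁻¹ = g := by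
            rw [← conj_zpow, key, conj_zpow, hk']; group
          calc (b * a)⁻¹ * g * (b * a) = (a * b)⁻¹ * ((a * b) * (g : G) ^ k * (a * b)⁻¹) * (a * b) := by
                rw [hk']; group
            _ = (a * b)⁻¹ * g * (a * b) := by rw [h2]
        rw [e]; group
  obtain ⟨n, hn⟩ := Subgroup.mem_zpowers_iff.1 (hg ⟨x, hx⟩)
  have hn' : (g : G) ^ n = x := by simpa using congrArg Subtype.val hn
  rw [← hn']
  exact (h1.zpow_right n).eq

/-- A finite abelian group with at most one subgroup of each prime order is cyclic. -/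
theorem isCyclic_of_lines {A : Subgroup G} (hA : ∀ a ∈ A, ∀ b ∈ A, a * b = b * a)
    (h : ∀ s : ℕ, s.Prime → ∀ k ∈ A, ∀ l ∈ A, orderOf k = s → orderOf l = s → l ∈ zpowers k) :
    IsCyclic A := by
  letI : CommGroup A := { (inferInstance : Group A) with
    mul_comm := fun a b => Subtype.ext (hA a a.2 b b.2) }
  refine Frobenius.isCyclic_of_forall_prime fun s hs => ?_
  haveI := Fact.mk hs
  by_cases he : ∀ x ∈ (powMonoidHom s : A →* A).ker, x = 1
  · rw [(Subgroup.eq_bot_iff_forall _).2 he, Subgroup.card_bot]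
    exact hs.pos
  push Not at he
  obtain ⟨x, hx, hx1⟩ := he
  have hxo : orderOf x = s := orderOf_eq_prime hx hx1
  refine le_trans (card_le_of_le (H := _) (K := zpowers x) fun y hy => ?_)
    (by rw [Nat.card_zpowers, hxo])
  by_cases hy1 : y = 1
  · rw [hy1]; exact one_mem _
  obtain ⟨i, hi⟩ := Subgroup.mem_zpowers_iff.1 (h s hs x x.2 y y.2
    (by rw [Subgroup.orderOf_coe, hxo]) (by rw [Subgroup.orderOf_coe, orderOf_eq_prime hy hy1]))
  exact Subgroup.mem_zpowers_iff.2 ⟨i, Subtype.ext (by simpa using hi)⟩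

/-- An `r`-group acting on a non-cyclic elementary abelian `r`-group, each non-identity element
fixing at most a line, has order at most `r`. -/
theorem card_le_of_line {r : ℕ} [hr : Fact r.Prime] {R V : Subgroup G} (hR : IsPGroup r R)
    (hRV : R ≤ normalizer (V : Set G)) (hV : ∀ v ∈ V, v ^ r = 1)
    (hne : ∃ k ∈ V, ∃ l ∈ V, k ≠ 1 ∧ l ∉ zpowers k)
    (hline : ∀ x ∈ R, x ≠ 1 → ∀ k ∈ V, ∀ l ∈ V, k ≠ 1 → x * k = k * x → x * l = l * x →
      l ∈ zpowers k) : Nat.card R ≤ r := by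
  obtain ⟨k₀, hk₀, l₀, hl₀, hk₀1, hl₀k⟩ := hne
  have hVp : IsPGroup r V := fun v => ⟨1, Subtype.ext (by
    rw [pow_one, SubmonoidClass.coe_pow, hV v v.2, OneMemClass.coe_one])⟩
  have hdvd : r ∣ Nat.card V := by
    have h1 : orderOf k₀ = r := orderOf_eq_prime (hV k₀ hk₀) hk₀1
    exact h1 ▸ V.orderOf_dvd_natCard hk₀
  obtain ⟨v, hv, hv1, hvR⟩ := exists_fixed hR hRV hdvd
  set L := zpowers v with hLdef
  have hLV : L ≤ V := zpowers_le.2 hv
  have hLR : ∀ x ∈ R, ∀ l ∈ L, x * l = l * x := by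
    intro x hx l hl
    obtain ⟨i, rfl⟩ := Subgroup.mem_zpowers_iff.1 hl
    exact (Commute.zpow_right (hvR x hx) i).eq
  have hVL : ¬ V ≤ L := by
    intro hle
    refine hl₀k ?_
    have h1 : zpowers k₀ = L := eq_of_le_of_card_ge (zpowers_le.2 (hle hk₀)) (by
      rw [hLdef, Nat.card_zpowers, Nat.card_zpowers, orderOf_eq_prime (hV k₀ hk₀) hk₀1,
        orderOf_eq_prime (hV v hv) hv1])
    rw [h1]
    exact hle hl₀
  -- an element fixed modulo `L`
  obtain ⟨b, hb, hbL, hbR⟩ : ∃ b ∈ V, b ∉ L ∧ ∀ x ∈ R, ⁅x, b⁆ ∈ L := by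
    set S := V ⊔ R with hSdef
    have hS : IsPGroup r S := hVp.to_sup_of_normal_left' hR hRV
    obtain ⟨N, hN⟩ := (Subgroup.isNilpotent_iff_lowerCentralSeries S).1 hS.isNilpotent
    classical
    have hex : ∃ n, S.lowerCentralSeries n ⊓ V ≤ L := ⟨N, by rw [hN, bot_inf_eq]; exact bot_le⟩
    have h0 : Nat.find hex ≠ 0 := fun h => hVL (by
      have h1 := Nat.find_spec hex
      rw [h, Subgroup.lowerCentralSeries_zero] at h1
      exact fun b hb => h1 ⟨mem_sup_left hb, hb⟩)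
    obtain ⟨n, hn⟩ := Nat.exists_eq_succ_of_ne_zero h0
    obtain ⟨b, hb, hbL⟩ := SetLike.not_le_iff_exists.1
      (Nat.find_min hex (hn ▸ Nat.lt_succ_self n : n < Nat.find hex))
    refine ⟨b, hb.2, hbL, fun x hx => ?_⟩
    have h2 := Nat.find_spec hex
    rw [hn] at h2
    refine h2 ⟨?_, ?_⟩
    · rw [Subgroup.lowerCentralSeries_succ, Subgroup.commutator_comm]
      exact commutator_mem_commutator (mem_sup_right hx) hb.1
    · rw [commutatorElement_def]
      exact V.mul_mem ((mem_normalizer_iff.1 (hRV hx) b).1 hb.2) (V.inv_mem hb.2)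
  let φ : R → L := fun x => ⟨⁅(x : G), b⁆, hbR x x.2⟩
  have hφ : Function.Injective φ := by
    intro x y hxy
    by_contra hne'
    have he : ⁅(x : G), b⁆ = ⁅(y : G), b⁆ := congrArg Subtype.val hxy
    rw [commutatorElement_def, commutatorElement_def] at he
    have he' : (x : G) * b * (x : G)⁻¹ = (y : G) * b * (y : G)⁻¹ := mul_right_cancel he
    refine hbL (hline ((y : G)⁻¹ * x) (mul_mem (inv_mem y.2) x.2)
      (fun h => hne' (Subtype.ext (inv_mul_eq_one.1 h).symm)) v hv b hb hv1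
      (hLR _ (mul_mem (inv_mem y.2) x.2) v (mem_zpowers v)) ?_)
    calc (y : G)⁻¹ * x * b = (y : G)⁻¹ * ((x : G) * b * (x : G)⁻¹) * x := by group
      _ = b * ((y : G)⁻¹ * x) := by rw [he']; group
  refine (Nat.card_le_card_of_injective φ hφ).trans_eq ?_
  rw [hLdef, Nat.card_zpowers, orderOf_eq_prime (hV v hv) hv1]

/-- Inside a subgroup of odd order: the commutator with a free element centralises the part. -/
theorem commutator_centralizes {p q s : ℕ} [Fact p.Prime] [Fact q.Prime] [Fact s.Prime]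
    (hqp : q ≠ p) (hqs : q ≠ s) (hps : p ≠ s) {H Q P : Subgroup G} (hH : Odd (Nat.card H))
    (hQH : Q ≤ H) (hPH : P ≤ H) (hQ : IsPGroup s Q) (hP : IsPGroup p P) {τ : G} (hτH : τ ∈ H)
    (hτ : orderOf τ = q) (hPQ : P ≤ normalizer (Q : Set G)) (hτQ : τ ∈ normalizer (Q : Set G))
    (hτP : τ ∈ normalizer (P : Set G)) (hfree : Free Q τ) {x k : G} (hx : x ∈ P) (hk : k ∈ Q) :
    (x * τ * x⁻¹ * τ⁻¹) * k = k * (x * τ * x⁻¹ * τ⁻¹) := by
  have hn : ∀ {A : Subgroup G} {g : H}, A ≤ H → (g : G) ∈ normalizer (A : Set G) →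
      g ∈ normalizer ((A.subgroupOf H : Subgroup H) : Set H) := by
    intro A g _ hg
    refine mem_normalizer_iff.2 fun y => ?_
    simp only [mem_subgroupOf, coe_mul, InvMemClass.coe_inv]
    exact mem_normalizer_iff.1 hg y
  haveI : Group.IsSolvable ↥((Q.subgroupOf H ⊔ P.subgroupOf H) ⊔
      zpowers (⟨τ, hτH⟩ : H)) :=
    OddOrder.FeitThompson.isSolvable_of_odd_card (hH.of_dvd_nat (Subgroup.card_subgroup_dvd_card _))
  have h := OddTau.Basic.commutator_centralizes_of_fpf (G := H) (p := q) (r := p) (s := s) hH hqp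
    hqs hps (Q := Q.subgroupOf H) (R := P.subgroupOf H) (hQ.comap_subtype (K := H))
    (hP.comap_subtype (K := H)) (a := ⟨τ, hτH⟩) (by rw [Subgroup.orderOf_mk, hτ])
    (fun g hg => hn hQH (hPQ hg)) (hn hQH hτQ) (hn hPH hτP)
    (by
      refine (Subgroup.eq_bot_iff_forall _).2 fun y hy => Subtype.ext (hfree y hy.1 ?_)
      exact (congrArg Subtype.val (mem_centralizer_singleton_iff.1 hy.2)).symm)
  have h1 := h (commutator_mem_commutator (show (⟨x, hPH hx⟩ : H) ∈ P.subgroupOf H from hx)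
    (mem_zpowers (⟨τ, hτH⟩ : H)))
  exact (congrArg Subtype.val (mem_centralizer_iff.1 h1 ⟨k, hQH hk⟩ hk)).symm

end Cfsg.Agent.Lib.BenderOne83.ShapeBase
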